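import Mathlib
import Cfsg.Prelude.Def_Local
import Cfsg.Prelude.Def_ChevE8
import Cfsg.Agent.H834.E8.NoFix
import Cfsg.Agent.StdO8.Gen_m3
import Cfsg.Agent.H942.LMat
import Cfsg.Agent.H942.Core
import Cfsg.Agent.LieClassical.SympTransvection
import Cfsg.Agent.S0765
import Cfsg.Agent.H451.L7.Dim_m3
import Cfsg.Agent.H942.E8Val
import Cfsg.Agent.FastGrp
import Cfsg.Agent.Prune
set_option linter.all false

section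
prune_inst 0x7ffefcfaabfc3ddfffff7e3faeffdffdb3a84fffefdff9737fede79f9fdf03e78be5fbafede412ff9ef6e21410b87853ff7eefffe06bdc7ffffd5ff41ffbee1ff7ff352d519dbcb41ffc6fff9bf0778e7f3fffffffffffffffffffffffffffefffbfffffffff

-- part: H540/E8C/End
section
prune_inst 0x10000000000000
set_option linter.all false
open scoped Cfsg.Agent.FastGrp

/-!
# S5919: the end game for maximal subgroups of `E₈(3)` with fixed vectors: CENTRE and COUNT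
-/

set_option autoImplicit false
set_option linter.unusedSectionVars false
set_option maxRecDepth 100000

namespace Cfsg.Agent.H540.E8C.End

open Cfsg Cfsg.Lie

/-- `E₈(3)` -/
abbrev E : Type := ↥(chevE8.group (ZMod 3))

/-- its module -/
abbrev LL : Type := chevE8.Idx → ZMod 3

/-- the action -/
abbrev ac (g : E) (v : LL) : LL := (((g : GL chevE8.Idx (ZMod 3)) : Matrix chevE8.Idx chevE8.Idx (ZMod 3))).mulVec v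

theorem ac_one (v : LL) : ac 1 v = v := Matrix.one_mulVec v

theorem ac_mul (g h : E) (v : LL) : ac (g * h) v = ac g (ac h v) := by
  show (((g : GL chevE8.Idx (ZMod 3)) * (h : GL chevE8.Idx (ZMod 3)) : GL chevE8.Idx (ZMod 3)) :
    Matrix chevE8.Idx chevE8.Idx (ZMod 3)).mulVec v = _
  rw [Units.val_mul, ← Matrix.mulVec_mulVec]

theorem ac_inv_ac (g : E) (v : LL) : ac g⁻¹ (ac g v) = v := by rw [← ac_mul, inv_mul_cancel, ac_one]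

theorem ac_ac_inv (g : E) (v : LL) : ac g (ac g⁻¹ v) = v := by rw [← ac_mul, mul_inv_cancel, ac_one]

theorem ac_neg (g : E) (v : LL) : ac g (-v) = - ac g v := Matrix.mulVec_neg _ _

theorem ac_add (g : E) (v w : LL) : ac g (v + w) = ac g v + ac g w := Matrix.mulVec_add _ _ _

theorem ac_zero (g : E) : ac g 0 = 0 := Matrix.mulVec_zero _

/-- the stabiliser of a vector -/
def stab (v : LL) : Subgroup E where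
  carrier := {g | ac g v = v}
  one_mem' := ac_one v
  mul_mem' := fun {a b} ha hb => by
    show ac (a * b) v = v
    rw [ac_mul, hb, ha]
  inv_mem' := fun {a} ha => by
    show ac a⁻¹ v = v
    have ha' : ac a v = v := ha
    conv_lhs => rw [← ha']
    rw [ac_inv_ac]

theorem mem_stab {v : LL} {g : E} : g ∈ stab v ↔ ac g v = v := Iff.rfl

/-- the vectors fixed by a subgroup -/
def fixV (S : Subgroup E) : Submodule (ZMod 3) LL where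
  carrier := {v | ∀ g ∈ S, ac g v = v}
  add_mem' := fun ha hb g hg => by rw [ac_add, ha g hg, hb g hg]
  zero_mem' := fun g _ => ac_zero g
  smul_mem' := fun c v hv g hg => (Matrix.mulVec_smul _ _ _).trans (congrArg (fun w => c • w) (hv g hg))

theorem simp : IsSimpleGroup E := Cfsg.Agent.H834.E8.noFix.1

theorem fixV_top : fixV ⊤ = ⊥ := by
  rw [Submodule.eq_bot_iff]
  intro v hv
  exact Cfsg.Agent.H834.E8.noFix.2 v fun g hg => hv ⟨g, hg⟩ (Subgroup.mem_top _)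

theorem notComm (h : ∀ a b : E, a * b = b * a) : False :=
  (Cfsg.Agent.S1054.result (F := ZMod 3) chevE8 (by simp)).2 ⟨⟨h⟩⟩

/-- a normal subgroup with a non-zero fixed vector is trivial -/
theorem normal_bot {K : Subgroup E} [K.Normal] (h : fixV K ≠ ⊥) : K = ⊥ := by
  have := simp
  rcases ‹K.Normal›.eq_bot_or_eq_top with h1 | h1
  · exact h1
  · rw [h1] at h
    exact absurd fixV_top h

section E8

variable {H : Subgroup E} (hH : IsCoatom H)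

include hH in
/-- a non-trivial subgroup with non-zero fixed vectors normalised by the maximal subgroup `H` lies in `H` -/
theorem le_of_norm {K : Subgroup E} (hK : K ≠ ⊥) (hKv : fixV K ≠ ⊥) (hn : H ≤ Subgroup.normalizer (K : Set E)) :
    K ≤ H := by
  have h1 : Subgroup.normalizer (K : Set E) ≠ ⊤ := by
    intro h
    have : K.Normal := Subgroup.normalizer_eq_top_iff.1 h
    exact hK (normal_bot hKv)
  have h2 : Subgroup.normalizer (K : Set E) = H := by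
    rcases hH.le_iff.1 hn with h | h
    · exact absurd h h1
    · exact h
  rw [← h2]
  exact Subgroup.le_normalizer

include hH in
/-- **CENTRE.** `S` a non-trivial normal subgroup of the maximal subgroup `H` with a non-zero fixed vector; an element
fixing all the vectors fixed by some `x ∈ S` lies in `H`. -/
theorem mem_of_partner {S : Subgroup E} (hS1 : S ≠ ⊥) (hn : H ≤ Subgroup.normalizer (S : Set E)) (hv : fixV S ≠ ⊥)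
    {x x' : E} (hx : x ∈ S) (hx' : ∀ v, ac x v = v → ac x' v = v) : x' ∈ H := by
  let K : Subgroup E := ⨅ v : fixV S, stab v
  have hmem : ∀ g, g ∈ K ↔ ∀ v ∈ fixV S, ac g v = v := by
    intro g
    simp only [K, Subgroup.mem_iInf, mem_stab, Subtype.forall]
  have hSK : S ≤ K := fun g hg => (hmem g).2 fun v hv => hv g hg
  have hinv : ∀ h ∈ H, ∀ v ∈ fixV S, ac h v ∈ fixV S := by
    intro h hh v hv g hg
    have h1 : h⁻¹ * g * h ∈ S := by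
      have := (Subgroup.mem_normalizer_iff.1 (hn (H.inv_mem hh)) g).1 hg
      rwa [inv_inv] at this
    have h2 := hv _ h1
    have h3 : g * h = h * (h⁻¹ * g * h) := by group
    rw [← ac_mul, h3, ac_mul, h2]
  have hK : K ≠ ⊥ := fun h => hS1 (le_bot_iff.1 (h ▸ hSK))
  have hKv : fixV K ≠ ⊥ := by
    intro h
    apply hv
    rw [Submodule.eq_bot_iff] at h ⊢
    intro v hv
    exact h v fun g hg => (hmem g).1 hg v hv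
  refine le_of_norm hH hK hKv (fun h hh => ?_) ((hmem x').2 fun v hv => hx' v (hv x hx))
  rw [Subgroup.mem_normalizer_iff]
  intro g
  rw [hmem, hmem]
  constructor
  · intro hg v hv
    rw [ac_mul, ac_mul, hg _ (hinv _ (H.inv_mem hh) v hv), ac_ac_inv]
  · intro hg v hv
    have h1 := hg _ (hinv h hh v hv)
    rw [ac_mul, ac_mul, ac_inv_ac] at h1
    have h2 := congrArg (ac h⁻¹) h1
    rwa [ac_inv_ac, ac_inv_ac] at h2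

/-- the stabiliser of `{v, -v}` -/
def stab2 (v : LL) : Subgroup E where
  carrier := {g | ac g v = v ∨ ac g v = -v}
  one_mem' := Or.inl (ac_one v)
  mul_mem' := fun {a b} ha hb => by
    show ac (a * b) v = v ∨ ac (a * b) v = -v
    rcases ha with ha | ha <;> rcases hb with hb | hb <;> simp [ac_mul, ha, hb, ac_neg]
  inv_mem' := fun {a} ha => by
    show ac a⁻¹ v = v ∨ ac a⁻¹ v = -v
    rcases ha with ha | ha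
    · left
      conv_lhs => rw [← ha]
      rw [ac_inv_ac]
    · right
      have h1 : v = - ac a v := by rw [ha, neg_neg]
      conv_lhs => rw [h1]
      rw [ac_neg, ac_inv_ac]

theorem stab2_ne_top {v : LL} (hv : v ≠ 0) : stab2 v ≠ ⊤ := by
  intro h
  have := simp
  have hchar : (v : LL) ≠ -v := by
    intro h1
    apply hv
    funext i
    have h2 : v i = - v i := congrFun h1 i
    have h3 : ∀ a : ZMod 3, a = -a → a = 0 := by decide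
    exact h3 _ h2
  -- the stabiliser of `v` is normal
  have hn : (stab v).Normal := by
    constructor
    intro n hn g
    have hg : g ∈ stab2 v := by rw [h]; exact Subgroup.mem_top g
    have hg' : g⁻¹ ∈ stab2 v := by rw [h]; exact Subgroup.mem_top _
    rw [mem_stab, ac_mul, ac_mul]
    have hn' : ac n v = v := hn
    rcases hg' with h1 | h1
    · rw [h1, hn']
      have := ac_ac_inv g v
      rwa [h1] at this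
    · rw [h1, ac_neg, hn', ← h1, ac_ac_inv]
  have hfix : fixV (stab v) ≠ ⊥ := by
    intro h1
    rw [Submodule.eq_bot_iff] at h1
    exact hv (h1 v fun g hg => hg)
  have hbot := normal_bot hfix
  -- then all elements except 1 negate `v`
  have hcard : ∀ g g' : E, g ≠ 1 → g' ≠ 1 → g = g' := by
    intro g g' hg hg'
    have key : ∀ g : E, g ≠ 1 → ac g v = -v := by
      intro g hg
      have h1 : g ∈ stab2 v := by rw [h]; exact Subgroup.mem_top g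
      rcases h1 with h1 | h1
      · exfalso
        apply hg
        have h2 : g ∈ stab v := h1
        rwa [hbot, Subgroup.mem_bot] at h2
      · exact h1
    have h1 : g⁻¹ * g' ∈ stab v := by
      rw [mem_stab, ac_mul, key g' hg', ac_neg]
      have h2 : ac g⁻¹ v = -v := key g⁻¹ (inv_ne_one.2 hg)
      rw [h2, neg_neg]
    rw [hbot, Subgroup.mem_bot, inv_mul_eq_one] at h1
    exact h1
  -- the group would have order at most two, hence be abelian, fixing ...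
  have hcomm : ∀ a b : E, a * b = b * a := by
    intro a b
    by_cases ha : a = 1
    · rw [ha, one_mul, mul_one]
    · by_cases hb : b = 1
      · rw [hb, one_mul, mul_one]
      · rw [hcard a b ha hb]
  exact notComm hcomm

include hH in
/-- the maximal subgroup is the stabiliser of `{v, -v}` -/
theorem stab2_eq {v : LL} (hv : v ≠ 0) (h : ∀ g ∈ H, ac g v = v ∨ ac g v = -v) : stab2 v = H := by
  have h1 : H ≤ stab2 v := h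
  rcases hH.le_iff.1 h1 with h2 | h2
  · exact absurd h2 (stab2_ne_top hv)
  · exact h2

include hH in
theorem normalizer_eq (hne : H ≠ ⊥) : Subgroup.normalizer (H : Set E) = H := by
  rcases hH.le_iff.1 (Subgroup.le_normalizer (H := H)) with h | h
  · exfalso
    have := simp
    have hn : H.Normal := Subgroup.normalizer_eq_top_iff.1 h
    rcases hn.eq_bot_or_eq_top with h1 | h1
    · exact hne h1
    · exact hH.1 h1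
  · exact h

end E8

section Abs

/-- counting in the abstract: translates of `B` by the centraliser of `y` -/
theorem count_abs {G V : Type*} [Group G] [Finite G] [Finite V] (A : G → V → V) (h1 : ∀ v, A 1 v = v)
    (hmul : ∀ g h v, A (g * h) v = A g (A h v)) {H : Subgroup G} {y : G} {B : Finset V}
    (hB : ∀ b ∈ B, A y b = b) (hm : ∀ b ∈ B, ∀ b' ∈ B, ∀ m, A m b = b' → m ∈ H) {c : ℕ}
    (hc : Nat.card ↥(Subgroup.centralizer {y} ⊓ H) ≤ c) :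
    B.card * Nat.card ↥(Subgroup.centralizer {y}) ≤ c * Nat.card {v : V // A y v = v} := by
  classical
  have hi : ∀ g v, A g⁻¹ (A g v) = v := fun g v => by rw [← hmul, inv_mul_cancel, h1]
  obtain ⟨C, hC⟩ : ∃ C, C = Subgroup.centralizer ({y} : Set G) := ⟨_, rfl⟩
  rw [← hC] at hc ⊢
  have hCm : ∀ g ∈ C, g * y = y * g := fun g hg => by
    rw [hC] at hg
    exact Subgroup.mem_centralizer_singleton_iff.1 hg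
  let f : B × C → {v : V // A y v = v} := fun p => ⟨A (p.2 : G) p.1, by
    rw [← hmul, ← hCm _ p.2.2, hmul, hB _ p.1.2]⟩
  have : Fintype ↥C := Fintype.ofFinite _
  have : Fintype {v : V // A y v = v} := Fintype.ofFinite _
  have : Fintype ↥(C ⊓ H) := Fintype.ofFinite _
  have hfib : ∀ v : {v : V // A y v = v}, (Finset.univ.filter fun p => f p = v).card ≤ c := by
    intro v
    by_cases h0 : (Finset.univ.filter fun p => f p = v).Nonempty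
    · obtain ⟨p0, hp0⟩ := h0
      rw [Finset.mem_filter] at hp0
      refine le_trans ?_ hc
      have hkey : ∀ p : B × C, f p = v → (((p0.2 : G))⁻¹ * (p.2 : G)) ∈ C ⊓ H ∧
          A ((p0.2 : G)⁻¹ * (p.2 : G)) p.1 = p0.1 := by
        intro p hp
        have h2 : A (p.2 : G) p.1 = A (p0.2 : G) p0.1 := congrArg Subtype.val (hp.trans hp0.2.symm)
        have h3 : A ((p0.2 : G)⁻¹ * (p.2 : G)) p.1 = p0.1 := by rw [hmul, h2, hi]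
        exact ⟨Subgroup.mem_inf.2 ⟨C.mul_mem (C.inv_mem p0.2.2) p.2.2, hm _ p.1.2 _ p0.1.2 _ h3⟩, h3⟩
      rw [Nat.card_eq_fintype_card, ← Finset.card_univ]
      refine Finset.card_le_card_of_injOn (fun p => if hp : f p = v then
        (⟨_, (hkey p hp).1⟩ : ↥(C ⊓ H)) else 1) (fun _ _ => Finset.mem_univ _) ?_
      intro p hp q hq hpq
      rw [Finset.coe_filter, Set.mem_ofPred_eq] at hp hq
      simp only [hp.2, hq.2, dif_pos] at hpq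
      have h2 : ((p0.2 : G))⁻¹ * (p.2 : G) = ((p0.2 : G))⁻¹ * (q.2 : G) := congrArg Subtype.val hpq
      have h3 : (p.2 : G) = (q.2 : G) := mul_left_cancel h2
      have h4 : A ((p0.2 : G)⁻¹ * (p.2 : G)) p.1 = A ((p0.2 : G)⁻¹ * (q.2 : G)) q.1 := by
        rw [(hkey p hp.2).2, (hkey q hq.2).2]
      rw [h2] at h4
      have h5 := congrArg (A ((p0.2 : G)⁻¹ * (q.2 : G))⁻¹) h4
      rw [hi, hi] at h5
      exact Prod.ext (Subtype.ext h5) (Subtype.ext h3)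
    · rw [Finset.not_nonempty_iff_eq_empty.1 h0, Finset.card_empty]
      exact Nat.zero_le _
  have h2 : (Finset.univ : Finset (B × C)).card ≤ c * (Finset.univ : Finset {v : V // A y v = v}).card :=
    Finset.card_le_mul_card_image_of_maps_to (f := f) (fun _ _ => Finset.mem_univ _) c fun v _ => hfib v
  rw [Finset.card_univ, Finset.card_univ, Fintype.card_prod, Fintype.card_coe] at h2
  rw [Nat.card_eq_fintype_card, Nat.card_eq_fintype_card]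
  exact h2

/-- stabilisers up to sign -/
theorem norm_abs {G V : Type*} [Group G] [AddCommGroup V] (A : G → V → V) (h1 : ∀ v, A 1 v = v)
    (hmul : ∀ g h v, A (g * h) v = A g (A h v)) (hneg : ∀ g v, A g (-v) = - A g v) {H : Subgroup G} {b b' : V}
    (hb : ∀ g, g ∈ H ↔ A g b = b ∨ A g b = -b) (hb' : ∀ g, g ∈ H ↔ A g b' = b' ∨ A g b' = -b') {m : G}
    (hm : A m b = b') : m ∈ Subgroup.normalizer (H : Set G) := by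
  have hi : ∀ g v, A g⁻¹ (A g v) = v := fun g v => by rw [← hmul, inv_mul_cancel, h1]
  rw [Subgroup.mem_normalizer_iff]
  intro g
  rw [hb, hb', ← hm]
  have h8 : A (m * g * m⁻¹) (A m b) = A m (A g b) := by
    rw [← hmul, ← hmul]
    congr 1
    group
  rw [h8]
  have hinj : ∀ a b : V, A m a = A m b → a = b := fun a b hab => by
    have := congrArg (A m⁻¹) hab
    rwa [hi, hi] at this
  constructor
  · rintro (h | h)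
    · left; rw [h]
    · right; rw [h, hneg]
  · rintro (h | h)
    · left; exact hinj _ _ h
    · right; rw [← hneg] at h; exact hinj _ _ h

end Abs

section E8

variable {H : Subgroup E} (hH : IsCoatom H)

theorem mem_stab2 {v : LL} {g : E} : g ∈ stab2 v ↔ ac g v = v ∨ ac g v = -v := Iff.rfl

include hH in
theorem mem_of_map (hne : H ≠ ⊥) {b b' : LL} (hb : b ≠ 0) (hb' : b' ≠ 0) (h1 : ∀ g ∈ H, ac g b = b ∨ ac g b = -b)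
    (h2 : ∀ g ∈ H, ac g b' = b' ∨ ac g b' = -b') {m : E} (hm : ac m b = b') : m ∈ H := by
  have h4 := stab2_eq hH hb h1
  have h5 := stab2_eq hH hb' h2
  have h6 : ∀ g, g ∈ H ↔ ac g b = b ∨ ac g b = -b := fun g => by rw [← mem_stab2, h4]
  have h7 : ∀ g, g ∈ H ↔ ac g b' = b' ∨ ac g b' = -b' := fun g => by rw [← mem_stab2, h5]
  have h8 := norm_abs ac ac_one ac_mul ac_neg h6 h7 hm
  rwa [normalizer_eq hH hne] at h8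

include hH in
/-- **COUNT.** `B` a set of non-zero vectors such that `H` fixes `{b, -b}` and `y` fixes `b`, for all `b ∈ B`. -/
theorem count (hne : H ≠ ⊥) {y : E} {B : Finset LL}
    (hB : ∀ b ∈ B, b ≠ 0 ∧ ac y b = b ∧ ∀ g ∈ H, ac g b = b ∨ ac g b = -b) {c : ℕ}
    (hc : Nat.card ↥(Subgroup.centralizer {y} ⊓ H) ≤ c) :
    B.card * Nat.card ↥(Subgroup.centralizer {y}) ≤ c * Nat.card {v : LL // ac y v = v} :=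
  count_abs ac ac_one ac_mul (fun b hb => (hB b hb).2.1)
    (fun b hb b' hb' _ hm => mem_of_map hH hne (hB b hb).1 (hB b' hb').1 (hB b hb).2.2 (hB b' hb').2.2 hm) hc

end E8

end Cfsg.Agent.H540.E8C.End
end

-- part: H942/S62/DataF
section
prune_inst 0x101051002400000000180010000004000200000000088800218002020ec00401a0010021aa50020001d000e400380008110000090200000000000000411c00800000000000000000000000000080000000000000000000000000000000010000000000000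
set_option linter.all false
open scoped Cfsg.Agent.FastGrp
private noncomputable def lq268d48dee6 {T : Sort _} (f :
    type_of% (@_root_.List.cons.{0}) →
    type_of% (@_root_.List.nil.{0}) →
    type_of% (@_root_.List.cons.{0} (List Nat)) →
    type_of% (@_root_.List.cons.{0} (Nat)) →
    type_of% (@_root_.Prod.mk.{0, 0}) →
    type_of% (@_root_.List.cons.{0} (Prod Nat Nat)) →
    type_of% (@_root_.Matrix.vecCons.{0}) →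
    type_of% (@_root_.Matrix.vecEmpty.{0}) →
    ((Nat) → (Nat)) →
    ((ZMod 2) → (ZMod 2)) →
    type_of% (@_root_.Nat.land) →
    type_of% (@_root_.Nat.shiftRight) →
    type_of% (@_root_.Matrix.fromBlocks.{0, 0, 0, 0, 0}) → T) : T :=
  f (@_root_.List.cons.{0}) (@_root_.List.nil.{0}) (@_root_.List.cons.{0} (List Nat)) (@_root_.List.cons.{0} (Nat)) (@_root_.Prod.mk.{0, 0}) (@_root_.List.cons.{0} (Prod Nat Nat)) (@_root_.Matrix.vecCons.{0}) (@_root_.Matrix.vecEmpty.{0}) (fun x => x) (fun x => x) (@_root_.Nat.land) (@_root_.Nat.shiftRight) (@_root_.Matrix.fromBlocks.{0, 0, 0, 0, 0})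

-- part: H942/S62/Iface
section
/-!
# S5919, the rows `Sp₆(2)` and `Ω₈⁺(2)`: interface (helper942)
-/

set_option autoImplicit false

namespace Cfsg.Agent.H942.S62

open Cfsg Cfsg.Lie Module
open Cfsg.Agent.H540.E8C.End

/-- `Sp₆(2)` -/
abbrev Sp2 : Type := ↥(Matrix.symplecticGroup (Fin 3) (ZMod 2))

/-- the natural module -/
abbrev V6 : Type := Fin 3 ⊕ Fin 3 → ZMod 2

/-- the action -/
abbrev mv (g : Sp2) (v : V6) : V6 := (g : Matrix (Fin 3 ⊕ Fin 3) (Fin 3 ⊕ Fin 3) (ZMod 2)).mulVec v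

/-- the first basis vector -/
def e0 : V6 := Pi.single (Sum.inl 0) 1

/-- the transvection at `e0` -/
def t0 : Sp2 := ⟨(beta% delta% lq268d48dee6 fun _ _ _ _ _ _ h i _ _ _ _ o =>
 o 1 (@_root_.Matrix.of (Fin 3) (Fin 3) _ (h (h 1<|h 0<|h 0<|i)
 (h (h 0<|h 0<|h 0<|i)
 (h (h 0<|h 0<|h 0<|i)
 i)))) 0 1 :
 Matrix (Fin 3 ⊕ Fin 3) (Fin 3 ⊕ Fin 3) (ZMod 2)),
  SymplecticGroup.mem_iff.2 (by decide +kernel)⟩

/-- an element of order 5, trivial on the first hyperbolic plane -/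
def y0 : Sp2 := ⟨(beta% delta% lq268d48dee6 fun _ _ _ _ _ _ h i _ _ _ _ o =>
 o (@_root_.Matrix.of (Fin 3) (Fin 3) _ (h (h 1<|h 0<|h 0<|i)
 (h (h 0<|h 0<|h 1<|i)
 (h (h 0<|h 1<|h 1<|i)
 i)))) (@_root_.Matrix.of (Fin 3) (Fin 3) _ (h (h 0<|h 0<|h 0<|i)
 (h (h 0<|h 0<|h 0<|i)
 (h (h 0<|h 1<|h 0<|i)
 i))))
 (@_root_.Matrix.of (Fin 3) (Fin 3) _ (h (h 0<|h 0<|h 0<|i)
 (h (h 0<|h 1<|h 0<|i)
 (h (h 0<|h 1<|h 0<|i)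
 i)))) (@_root_.Matrix.of (Fin 3) (Fin 3) _ (h (h 1<|h 0<|h 0<|i)
 (h (h 0<|h 0<|h 1<|i)
 (h (h 0<|h 0<|h 0<|i)
 i)))) :
 Matrix (Fin 3 ⊕ Fin 3) (Fin 3 ⊕ Fin 3) (ZMod 2)), SymplecticGroup.mem_iff.2 (by decide +kernel)⟩

theorem y0_pow : y0 ^ 5 = 1 := by decide +kernel

theorem y0_ne : y0 ≠ 1 := by decide +kernel

theorem comm0 : t0 * y0 = y0 * t0 := by decide +kernel

theorem mv_one (v : V6) : mv 1 v = v := Matrix.one_mulVec v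

theorem mv_mul (g h : Sp2) (v : V6) : mv (g * h) v = mv g (mv h v) := by
  show ((g : Matrix (Fin 3 ⊕ Fin 3) (Fin 3 ⊕ Fin 3) (ZMod 2)) *
    (h : Matrix (Fin 3 ⊕ Fin 3) (Fin 3 ⊕ Fin 3) (ZMod 2))).mulVec v = _
  rw [← Matrix.mulVec_mulVec]

/-- the stabiliser of `e0` -/
def P1 : Subgroup Sp2 where
  carrier := {g | mv g e0 = e0}
  one_mem' := mv_one e0
  mul_mem' := fun {a b} ha hb => by
    show mv (a * b) e0 = e0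
    rw [mv_mul, hb, ha]
  inv_mem' := fun {a} ha => by
    show mv a⁻¹ e0 = e0
    have ha' : mv a e0 = e0 := ha
    conv_lhs => rw [← ha']
    rw [← mv_mul, inv_mul_cancel, mv_one]

/-- **The numbers** (helper942). -/
def NumSp : Prop := ∀ (F : Sp2 →* E) (_ : Function.Injective F),
  4 ≤ finrank (ZMod 3) ↥(fixV F.range) ∧
  finrank (ZMod 3) ↥(fixV (P1.map F)) ≤ 7 ∧
  (∃ x' : E, x' ^ 2 = 1 ∧ x' ≠ 1 ∧ Commute (F y0) x' ∧ ∀ v : LL, ac (F y0) v = v → ac x' v = v) ∧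
  (∃ v : LL, ac (F y0) v = v ∧ ac (F t0) v ≠ v)

/-- **Task B1.** Automorphisms of `Sp₆(2)` are inner. -/
def AutSp : Prop := ∀ α : MulAut Sp2, ∃ g : Sp2, α = MulAut.conj g

/-- **Task B2.** The involutions commuting with `y0`. -/
def InvY0 : Prop := ∀ x : Sp2, x * x = 1 → x ≠ 1 → x * y0 = y0 * x → ∃ s : Sp2, s * y0 = y0 * s ∧ x = s * t0 * s⁻¹

/-- **Task D1.** `Sp₆(2)` in `Ω₈⁺(2)` as the stabiliser of a nonsingular vector `a`; `φ'` the same for an orthogonal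
nonsingular vector. -/
def EmbO8 : Prop := ∃ φ φ' : Sp2 →* ↥StdO8.Model.Om, Function.Injective φ ∧ Function.Injective φ' ∧
  φ.range ⊔ φ'.range = ⊤ ∧ (∀ g ∈ P1, φ g ∈ φ'.range) ∧
  (∃ a : StdO8.Model.V, a ≠ 0 ∧ (φ y0 : StdO8.Model.V ≃ₗ[ZMod 2] StdO8.Model.V) a = a) ∧
  StdO8.Aut.IsC2 (φ t0 : StdO8.Model.V ≃ₗ[ZMod 2] StdO8.Model.V)

/-- **Task D2.** Automorphisms `α` of `Ω₈⁺(2)` of order at most two centralising an element `y` of order 5 fixing a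
non-zero vector; `t` a `c₂`-involution commuting with `y`. -/
def AutO8 : Prop := ∀ (y t : ↥StdO8.Model.Om) (_ : y ^ 5 = 1) (_ : y ≠ 1)
  (_ : ∃ a : StdO8.Model.V, a ≠ 0 ∧ (y : StdO8.Model.V ≃ₗ[ZMod 2] StdO8.Model.V) a = a)
  (_ : StdO8.Aut.IsC2 (t : StdO8.Model.V ≃ₗ[ZMod 2] StdO8.Model.V)) (_ : t * y = y * t)
  (α : MulAut ↥StdO8.Model.Om) (_ : ∀ g, α (α g) = g) (_ : α y = y),
  α = 1 ∨
  (∃ c : ↥StdO8.Model.Om, c * y = y * c ∧ α = MulAut.conj (c * t * c⁻¹)) ∨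
  (∃ c r : ↥StdO8.Model.Om, c * y = y * c ∧ r * y = y * r ∧ α r * r⁻¹ = c * t * c⁻¹)

/-- **The row `Sp₆(2)`.** -/
def RowSp : Prop := ∀ (H : Subgroup E)
  (_ : Nonempty (↥(Cfsg.generalizedFittingSubgroup ↥H) ≃* ↥(Matrix.symplecticGroup (Fin 3) (ZMod 2)))), ¬ IsCoatom H

/-- **The row `Ω₈⁺(2)`.** -/
def RowO8 : Prop := ∀ (H : Subgroup E)
  (_ : Nonempty (↥(Cfsg.generalizedFittingSubgroup ↥H) ≃* Cfsg.Omega (ZMod 2) (Cfsg.quadFormPlus 4 (ZMod 2)))),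
  ¬ IsCoatom H

end Cfsg.Agent.H942.S62
end

-- part: H942/S62/Code
section
/-!
# `Sp₆(2)`: elements as lists of six numbers
-/

set_option autoImplicit false
set_option maxRecDepth 100000

namespace Cfsg.Agent.H942.S62

open Cfsg.Agent.H942.LMat Cfsg.Agent.H942.Enum

/-! ### codes -/

/-- the code of a vector -/
def rc (c : V6) : ℕ := (c (.inl 0)).val + 2 * ((c (.inl 1)).val + 2 * ((c (.inl 2)).val +
  2 * ((c (.inr 0)).val + 2 * ((c (.inr 1)).val + 2 * ((c (.inr 2)).val + 2 * 0)))))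

/-- a row vector times a matrix -/
def rowX : List ℕ → ℕ → ℕ
  | [], _ => 0
  | x :: xs, r => Nat.xor (bif Nat.beq (r % 2) 1 then x else 0) (rowX xs (r / 2))

/-- the product -/
def mulC (a b : List ℕ) : List ℕ := a.map (rowX b)

/-- the rows of an element -/
def row (g : Sp2) (i : Fin 3 ⊕ Fin 3) : V6 := fun j => (g : Matrix (Fin 3 ⊕ Fin 3) (Fin 3 ⊕ Fin 3) (ZMod 2)) i j

/-- the code of an element -/
def enc (g : Sp2) : List ℕ := [rc (row g (.inl 0)), rc (row g (.inl 1)), rc (row g (.inl 2)),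
  rc (row g (.inr 0)), rc (row g (.inr 1)), rc (row g (.inr 2))]

theorem xorb (v w : ZMod 2) (r s : ℕ) : (v + w).val + 2 * Nat.xor r s = Nat.xor (v.val + 2 * r) (w.val + 2 * s) := by
  have h : ∀ (b c : Bool) (m n : ℕ), Nat.xor (Nat.bit b m) (Nat.bit c n) = Nat.bit (b ^^ c) (Nat.xor m n) := by
    intro b c m n
    exact Nat.xor_bit b m c n
  have h2 : ∀ v : ZMod 2, ∃ b : Bool, v = (bif b then 1 else 0) := by decide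
  obtain ⟨b, rfl⟩ := h2 v
  obtain ⟨c, rfl⟩ := h2 w
  have h3 := h b c r s
  have hb : ∀ (b : Bool) (r : ℕ), Nat.bit b r = (bif b then (1 : ZMod 2) else 0).val + 2 * r := by
    intro b r
    cases b
    · show 2 * r = 0 + 2 * r
      omega
    · show 2 * r + 1 = 1 + 2 * r
      omega
  rw [hb, hb, hb] at h3
  rw [h3]
  cases b <;> cases c <;> rfl

theorem rc_add (a b : V6) : rc (a + b) = Nat.xor (rc a) (rc b) := by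
  unfold rc
  simp only [Pi.add_apply]
  rw [← xorb, ← xorb, ← xorb, ← xorb, ← xorb, ← xorb]
  rfl

theorem rc_zero : rc 0 = 0 := rfl

theorem rc_smul (z : ZMod 2) (a : V6) : rc (z • a) = bif Nat.beq z.val 1 then rc a else 0 := by
  have h2 : z = 0 ∨ z = 1 := by revert z; decide
  rcases h2 with rfl | rfl
  · rw [zero_smul, rc_zero]; rfl
  · rw [one_smul]; rfl

theorem rc_inj {a b : V6} (h : rc a = rc b) : a = b := by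
  have key : ∀ (v w : ZMod 2) (r s : ℕ), v.val + 2 * r = w.val + 2 * s → v = w ∧ r = s := by
    intro v w r s h
    have h1 := v.val_lt
    have h2 := w.val_lt
    have h3 : v.val = w.val := by omega
    exact ⟨ZMod.val_injective 2 h3, by omega⟩
  unfold rc at h
  obtain ⟨h0, h⟩ := key _ _ _ _ h
  obtain ⟨h1, h⟩ := key _ _ _ _ h
  obtain ⟨h2, h⟩ := key _ _ _ _ h
  obtain ⟨h3, h⟩ := key _ _ _ _ h
  obtain ⟨h4, h⟩ := key _ _ _ _ h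
  obtain ⟨h5, h⟩ := key _ _ _ _ h
  funext i
  rcases i with i | i <;> fin_cases i
  exacts [h0, h1, h2, h3, h4, h5]

theorem rowX_cons (x : ℕ) (xs : List ℕ) (v : ZMod 2) (r : ℕ) :
    rowX (x :: xs) (v.val + 2 * r) = Nat.xor (bif Nat.beq v.val 1 then x else 0) (rowX xs r) := by
  have h1 := v.val_lt
  have h2 : (v.val + 2 * r) % 2 = v.val := by omega
  have h3 : (v.val + 2 * r) / 2 = r := by omega
  rw [rowX, h2, h3]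

theorem nxor_assoc (a b c : ℕ) : Nat.xor (Nat.xor a b) c = Nat.xor a (Nat.xor b c) := Nat.xor_assoc a b c

theorem nxor_zero (a : ℕ) : Nat.xor a 0 = a := Nat.xor_zero a

theorem rc_row_mul (g h : Sp2) (i : Fin 3 ⊕ Fin 3) : rc (row (g * h) i) = rowX (enc h) (rc (row g i)) := by
  have h1 : row (g * h) i = (row g i (.inl 0) • row h (.inl 0) + row g i (.inl 1) • row h (.inl 1) +
      row g i (.inl 2) • row h (.inl 2)) + (row g i (.inr 0) • row h (.inr 0) + row g i (.inr 1) • row h (.inr 1) +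
      row g i (.inr 2) • row h (.inr 2)) := by
    funext j
    show ((g : Matrix (Fin 3 ⊕ Fin 3) (Fin 3 ⊕ Fin 3) (ZMod 2)) *
      (h : Matrix (Fin 3 ⊕ Fin 3) (Fin 3 ⊕ Fin 3) (ZMod 2))) i j = _
    rw [Matrix.mul_apply, Fintype.sum_sum_type, Fin.sum_univ_three, Fin.sum_univ_three]
    rfl
  rw [h1, rc_add, rc_add, rc_add, rc_add, rc_add, rc_smul, rc_smul, rc_smul, rc_smul, rc_smul, rc_smul]
  conv_rhs => unfold enc; unfold rc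
  rw [rowX_cons, rowX_cons, rowX_cons, rowX_cons, rowX_cons, rowX_cons, rowX, nxor_zero, nxor_assoc, nxor_assoc,
    nxor_assoc]
  rfl

theorem enc_mul (g h : Sp2) : enc (g * h) = mulC (enc g) (enc h) := by
  conv_lhs => unfold enc
  rw [rc_row_mul, rc_row_mul, rc_row_mul, rc_row_mul, rc_row_mul, rc_row_mul]
  rfl

theorem enc_inj {g h : Sp2} (e : enc g = enc h) : g = h := by
  unfold enc at e
  simp only [List.cons.injEq] at e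
  obtain ⟨e0, e1, e2, e3, e4, e5, -⟩ := e
  have key : ∀ i, row g i = row h i := by
    intro i
    rcases i with i | i <;> fin_cases i
    exacts [rc_inj e0, rc_inj e1, rc_inj e2, rc_inj e3, rc_inj e4, rc_inj e5]
  apply Subtype.ext
  ext i j
  exact congrFun (key i) j

/-- the identity -/
def oneC : List ℕ := [1, 2, 4, 8, 16, 32]

theorem enc_one : enc 1 = oneC := by decide +kernel

/-! ### transvections -/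

/-- a vector given by its code -/
def vec (k : ℕ) : V6 := (beta% delta% lq268d48dee6 fun _ _ _ _ _ _ h i j l _ _ _ =>
 Sum.elim (h ((k % 2 :type_of% (j _)) :type_of% (l _))<|h ((k / 2 % 2 :type_of% (j _)) :type_of% (l _))<|h ((k / 4 % 2 :type_of% (j _)) :type_of% (l _))<|i)
 (h ((k / 8 % 2 :type_of% (j _)) :type_of% (l _))<|h ((k / 16 % 2 :type_of% (j _)) :type_of% (l _))<|h ((k / 32 % 2 :type_of% (j _)) :type_of% (l _))<|i))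

/-- transvections -/
def tvw (k : ℕ) : Sp2 := Cfsg.Agent.LieClassical.SympTransvection.tvS 1 (vec k)

/-- codes of the transvections -/
def tvc (k : ℕ) : List ℕ := (List.range 6).map fun i =>
  Nat.xor (2 ^ i) (bif Nat.beq (k / 2 ^ i % 2) 1 then k / 8 + 8 * (k % 8) else 0)

theorem enc_tvw : ∀ k < 64, enc (tvw k) = tvc k := by decide +kernel

theorem vec_rc : ∀ w : V6, vec (rc w) = w := by decide +kernel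

theorem rc_lt (w : V6) : rc w < 64 := by
  have h0 := (w (.inl 0)).val_lt
  have h1 := (w (.inl 1)).val_lt
  have h2 := (w (.inl 2)).val_lt
  have h3 := (w (.inr 0)).val_lt
  have h4 := (w (.inr 1)).val_lt
  have h5 := (w (.inr 2)).val_lt
  unfold rc
  omega

/-- a subgroup containing all transvections is the whole group -/
theorem top_of_tvw {H : Subgroup Sp2} (h : ∀ k < 64, k ≠ 0 → tvw k ∈ H) : H = ⊤ := by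
  rw [eq_top_iff, ← Cfsg.Agent.S0765.result (F := ZMod 2) (m := 3), Subgroup.closure_le]
  rintro A ⟨w, c, hA⟩
  have hc : c = 0 ∨ c = 1 := (by decide : ∀ c : ZMod 2, c = 0 ∨ c = 1) c
  rcases hc with rfl | rfl
  · have : A = 1 := by
      apply Subtype.ext
      rw [hA, Cfsg.sympTransvection, zero_smul, add_zero]
      rfl
    rw [this]
    exact H.one_mem
  · have h1 : A = tvw (rc w) := by
      apply Subtype.ext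
      rw [hA, tvw, vec_rc]
      rfl
    rw [h1]
    by_cases h2 : rc w = 0
    · have h3 : tvw (rc w) = 1 := by rw [h2]; decide +kernel
      rw [h3]
      exact H.one_mem
    · exact h _ (rc_lt w) h2

end Cfsg.Agent.H942.S62
end

-- part: H942/S62/Tab
section
/-!
# Tables of subgroups of `Sp₆(2)`, conjugacy by a forest, dimensions of fixed spaces
-/

set_option autoImplicit false
set_option linter.unusedSectionVars false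
set_option maxRecDepth 100000

namespace Cfsg.Agent.H942.S62

open Cfsg Cfsg.Lie Module IsLocalRing
open Cfsg.Agent.H657 Cfsg.Agent.H942.E8Alc
open Cfsg.Agent.H942.LMat Cfsg.Agent.H942.Enum Cfsg.Agent.H942.Forest Cfsg.Agent.H942.Common
open Cfsg.Agent.H540.E8C.End

/-! ### words -/

/-- products of transvections -/
def wordE : List ℕ → Sp2
  | [] => 1
  | k :: w => tvw k * wordE w

/-- their codes -/
def wordC : List ℕ → List ℕ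
  | [] => oneC
  | k :: w => mulC (tvc k) (wordC w)

/-- all letters are less than 64 -/
def okW (w : List ℕ) : Bool := w.all fun k => Nat.blt k 64

theorem enc_word : ∀ {w : List ℕ}, okW w = true → enc (wordE w) = wordC w
  | [], _ => enc_one
  | k :: w, h => by
    rw [okW, List.all_cons, Bool.and_eq_true, Nat.blt_eq] at h
    rw [wordE, wordC, enc_mul, enc_tvw k h.1, enc_word (w := w) h.2]

/-! ### tables -/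

/-- membership -/
def memN (x : ℕ) : List ℕ → Bool
  | [] => false
  | y :: ys => Nat.beq x y || memN x ys

/-- no repetitions -/
def nodupN : List ℕ → Bool
  | [] => true
  | x :: xs => !(memN x xs) && nodupN xs

theorem memN_of {x : ℕ} : ∀ {l : List ℕ}, x ∈ l → memN x l = true
  | y :: ys, h => by
    rw [memN, Bool.or_eq_true]
    rcases List.mem_cons.1 h with rfl | h
    · exact Or.inl (Nat.beq_refl x)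
    · exact Or.inr (memN_of h)

theorem nodupN_nodup : ∀ {l : List ℕ}, nodupN l = true → l.Nodup
  | [], _ => List.nodup_nil
  | x :: xs, h => by
    rw [nodupN, Bool.and_eq_true, Bool.not_eq_true'] at h
    refine List.nodup_cons.2 ⟨fun hx => ?_, nodupN_nodup h.2⟩
    rw [memN_of hx] at h
    exact absurd h.1 (by decide)

/-- one number for a code -/
def key (a : List ℕ) : ℕ := a.foldl (fun s x => 64 * s + x) 0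

/-- data of a table -/
structure TD where
  E : List (List ℕ)
  Gw : List (List ℕ)
  T : List (List ℕ)
  par : List (ℕ × ℕ)
  idx : List ℕ

/-- the check of a table -/
def chkT (D : TD) : Bool :=
  let G := D.Gw.map wordC
  D.Gw.all okW && beqL (D.E.getD 0 []) oneC && Nat.blt 0 D.E.length && nodupN (D.E.map key) &&
  (List.range D.E.length).all (fun i => (List.range D.Gw.length).all fun j =>
    Nat.blt ((D.T.getD i []).getD j 0) D.E.length &&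
      beqL (mulC (D.E.getD i []) (G.getD j [])) (D.E.getD ((D.T.getD i []).getD j 0) [])) &&
  (List.range (D.E.length - 1)).all fun i =>
    Nat.blt (D.par.getD i (0, 0)).1 (i + 1) && Nat.blt (D.par.getD i (0, 0)).2 D.Gw.length &&
      Nat.beq ((D.T.getD (D.par.getD i (0, 0)).1 []).getD (D.par.getD i (0, 0)).2 0) (i + 1)

/-! ### look-ups in numbers -/

/-- a field of a number -/
def fldN (w P i : ℕ) : ℕ := Nat.mod (Nat.shiftRight P (Nat.mul w i)) (Nat.pow 2 w)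

/-- a list as a number -/
noncomputable def pkL (w : ℕ) (L : List ℕ) : ℕ := List.rec 0 (fun x _ s => Nat.add x (Nat.shiftLeft s w)) L

theorem getD_fn {α : Type} {L : List α} {n : ℕ} {f : ℕ → α} (h : L = (List.range n).map f) (i : ℕ) (d : α) :
    L.getD i d = bif Nat.blt i n then f i else d := by
  rw [h, List.getD_eq_getElem?_getD, List.getElem?_map]
  cases hr : Nat.blt i n with
  | true => rw [List.getElem?_range (Nat.blt_eq.mp hr)]; rfl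
  | false =>
    have h1 : ¬ i < n := fun h1 => by rw [Nat.blt_eq.mpr h1] at hr; exact Bool.noConfusion hr
    rw [List.getElem?_eq_none (by rw [List.length_range]; exact Nat.le_of_not_lt h1)]
    rfl

/-- look-up in a list of numbers -/
noncomputable def lkN (w : ℕ) (L : List ℕ) (i : ℕ) : ℕ := bif Nat.blt i L.length then fldN w (pkL w L) i else 0

/-- the numbers fit -/
noncomputable def fitN (w : ℕ) (L : List ℕ) : Bool := beqL L ((List.range L.length).map (fldN w (pkL w L)))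

theorem lkN_eq {w : ℕ} {L : List ℕ} (h : fitN w L = true) (i : ℕ) : L.getD i 0 = lkN w L i := getD_fn (beqL_eq h) i 0

theorem lkN_fst {w : ℕ} {L : List (ℕ × ℕ)} (h : fitN w (L.map Prod.fst) = true) (i : ℕ) :
    (L.getD i (0, 0)).1 = lkN w (L.map Prod.fst) i := (List.getD_map L (0, 0) Prod.fst).symm.trans (lkN_eq h i)

theorem lkN_snd {w : ℕ} {L : List (ℕ × ℕ)} (h : fitN w (L.map Prod.snd) = true) (i : ℕ) :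
    (L.getD i (0, 0)).2 = lkN w (L.map Prod.snd) i := (List.getD_map L (0, 0) Prod.snd).symm.trans (lkN_eq h i)

/-- six digits -/
def dig6 (x : ℕ) : List ℕ := (beta% delta% lq268d48dee6 fun a c _ _ _ _ _ _ _ _ m n _ =>
 (a (m x 63)<|a (m (n x 6) 63)<|a (m (n x 12) 63)<|
 a (m (n x 18) 63)<|a (m (n x 24) 63)<|a (n x 30)<|c))

/-- look-up in a list of codes -/
noncomputable def lkC (L : List (List ℕ)) (i : ℕ) : List ℕ :=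
  bif Nat.blt i L.length then dig6 (fldN 36 (pkL 36 (L.map (pkL 6))) i) else []

/-- the codes fit -/
noncomputable def fitC (L : List (List ℕ)) : Bool :=
  beqM L ((List.range L.length).map fun i => dig6 (fldN 36 (pkL 36 (L.map (pkL 6))) i))

theorem lkC_eq {L : List (List ℕ)} (h : fitC L = true) (i : ℕ) : L.getD i [] = lkC L i := getD_fn (beqM_eq h) i []

/-- look-up in a table -/
noncomputable def lkT (m : ℕ) (T : List (List ℕ)) (i j : ℕ) : ℕ :=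
  bif Nat.blt i T.length then bif Nat.blt j m then fldN 9 (fldN 63 (pkL 63 (T.map (pkL 9))) i) j else 0 else 0

/-- the table fits -/
noncomputable def fitT (m : ℕ) (T : List (List ℕ)) : Bool :=
  beqM T ((List.range T.length).map fun i => (List.range m).map (fldN 9 (fldN 63 (pkL 63 (T.map (pkL 9))) i)))

theorem lkT_eq {m : ℕ} {T : List (List ℕ)} (h : fitT m T = true) (i j : ℕ) : (T.getD i []).getD j 0 = lkT m T i j := by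
  rw [getD_fn (beqM_eq h) i []]
  delta lkT
  cases Nat.blt i T.length with
  | true => exact getD_fn rfl j 0
  | false => rfl

/-- `rowX` by a recursor -/
noncomputable def rowF (b : List ℕ) : ℕ → ℕ :=
  List.rec (fun _ => 0) (fun x _ ih r => Nat.xor (bif Nat.beq (Nat.mod r 2) 1 then x else 0) (ih (Nat.div r 2))) b

/-- `mulC` by a recursor -/
noncomputable def mulF (a b : List ℕ) : List ℕ := List.rec [] (fun r _ ih => rowF b r :: ih) a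

theorem mulF_eq (a b : List ℕ) : mulC a b = mulF a b := by
  have h : ∀ r, rowX b r = rowF b r := by
    induction b with
    | nil => exact fun _ => rfl
    | cons x xs ih => exact fun r => congrArg (Nat.xor _) (ih (r / 2))
  induction a with
  | nil => rfl
  | cons r a ih => exact congrArg₂ List.cons (h r) ih

/-- `mulC` with a table of the right factor -/
noncomputable def mulT (a b : List ℕ) : List ℕ :=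
  bif fitN 6 ((List.range 64).map (rowF b)) then
    List.rec [] (fun r _ ih => (bif Nat.blt r 64 then fldN 6 (pkL 6 ((List.range 64).map (rowF b))) r else rowF b r) :: ih) a
  else mulF a b

theorem mulT_eq (a b : List ℕ) : mulF a b = mulT a b := by
  delta mulT
  cases h : fitN 6 ((List.range 64).map (rowF b)) with
  | false => rfl
  | true =>
    have e : ∀ r, rowF b r = bif Nat.blt r 64 then fldN 6 (pkL 6 ((List.range 64).map (rowF b))) r else rowF b r := by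
      intro r
      cases hr : Nat.blt r 64 with
      | false => rfl
      | true =>
        have e1 : ((List.range 64).map (rowF b)).getD r 0 = bif Nat.blt r ((List.range 64).map (rowF b)).length then
            fldN 6 (pkL 6 ((List.range 64).map (rowF b))) r else 0 := lkN_eq h r
        rw [getD_fn rfl, List.length_map, List.length_range, hr] at e1
        exact e1
    induction a with
    | nil => rfl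
    | cons r a ih => exact congrArg₂ List.cons (e r) ih

/-- evaluate first -/
noncomputable def frcB (x : ℕ) (f : ℕ → Bool) : Bool := Nat.rec (f 0) (fun n _ => f (Nat.succ n)) x

theorem frcB_eq (x : ℕ) (f : ℕ → Bool) : frcB x f = f x := by cases x <;> rfl

/-- `nodupN` by recursors -/
noncomputable def nodupF (l : List ℕ) : Bool :=
  List.rec true (fun x xs ih => bif List.rec false (fun y _ ih => bif Nat.beq x y then true else ih) xs then false else ih) l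

theorem nodupF_eq (l : List ℕ) : nodupN l = nodupF l := by
  have h : ∀ x (l : List ℕ), memN x l = List.rec false (fun y _ ih => bif Nat.beq x y then true else ih) l := by
    intro x l
    induction l with
    | nil => rfl
    | cons y l ih =>
      show (Nat.beq x y || memN x l) = bif Nat.beq x y then true else _
      rw [ih]
      cases Nat.beq x y <;> rfl
  induction l with
  | nil => rfl
  | cons x l ih =>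
    show (!(memN x l) && nodupN l) = bif _ then false else nodupF l
    rw [← h, ih]
    cases memN x l <;> rfl

/-- the check of a table, with look-ups in numbers -/
noncomputable def fastT (D : TD) : Bool :=
  fitC D.E && fitT D.Gw.length D.T && fitN 9 (D.par.map Prod.fst) && fitN 9 (D.par.map Prod.snd) &&
  (D.Gw.all okW && beqL (lkC D.E 0) oneC && Nat.blt 0 D.E.length && nodupF (D.E.map key) &&
  (List.range D.E.length).all (fun i => (List.range D.Gw.length).all fun j =>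
    Nat.blt (lkT D.Gw.length D.T i j) D.E.length &&
      beqL (mulT (lkC D.E i) ((D.Gw.map wordC).getD j [])) (lkC D.E (lkT D.Gw.length D.T i j))) &&
  (List.range (D.E.length - 1)).all fun i =>
    Nat.blt (lkN 9 (D.par.map Prod.fst) i) (i + 1) && Nat.blt (lkN 9 (D.par.map Prod.snd) i) D.Gw.length &&
      Nat.beq (lkT D.Gw.length D.T (lkN 9 (D.par.map Prod.fst) i) (lkN 9 (D.par.map Prod.snd) i)) (i + 1))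

theorem chkT_of {D : TD} (h : fastT D = true) : chkT D = true := by
  delta fastT at h
  rw [Bool.and_eq_true, Bool.and_eq_true, Bool.and_eq_true, Bool.and_eq_true] at h
  obtain ⟨⟨⟨⟨h1, h2⟩, h3⟩, h4⟩, h5⟩ := h
  delta chkT
  simp only [lkT_eq h2, lkC_eq h1, lkN_fst h3, lkN_snd h4, mulF_eq, mulT_eq, nodupF_eq]
  exact h5

/-- the generators -/
def TD.gen (D : TD) (j : ℕ) : Sp2 := wordE (D.Gw.getD j [])

/-- the table -/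
def TD.t (D : TD) (i j : ℕ) : ℕ := (D.T.getD i []).getD j 0

theorem map_getD {w : List (List ℕ)} {j : ℕ} (hj : j < w.length) : (w.map wordC).getD j [] = wordC (w.getD j []) := by
  rw [List.getD_eq_getElem _ _ (by rw [List.length_map]; exact hj), List.getElem_map, List.getD_eq_getElem _ _ hj]

theorem exists_tab {D : TD} (h : chkT D = true) : ∃ e : ℕ → Sp2, (∀ i < D.E.length, enc (e i) = D.E.getD i []) ∧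
    Table D.E.length D.Gw.length e D.gen D.t := by
  classical
  unfold chkT at h
  simp only [Bool.and_eq_true, List.all_eq_true, List.mem_range, Nat.blt_eq] at h
  obtain ⟨⟨⟨⟨⟨hw, h0⟩, hpos⟩, hnd⟩, hT⟩, hp⟩ := h
  have hgen : ∀ j < D.Gw.length, enc (D.gen j) = (D.Gw.map wordC).getD j [] := by
    intro j hj
    rw [map_getD hj]
    refine enc_word (hw _ ?_)
    rw [List.getD_eq_getElem _ _ hj]
    exact List.getElem_mem hj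
  have hE0 := beqL_eq h0
  have key1 : ∀ i < D.E.length, ∃ g : Sp2, enc g = D.E.getD i [] := by
    intro i
    induction i using Nat.strong_induction_on with
    | _ i ih =>
      intro hi
      cases i with
      | zero => exact ⟨1, by rw [hE0, enc_one]⟩
      | succ i =>
        obtain ⟨⟨h1, h2⟩, h3⟩ := hp i (by omega)
        obtain ⟨g, hg⟩ := ih _ h1 (by omega)
        refine ⟨g * D.gen (D.par.getD i (0, 0)).2, ?_⟩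
        have h4 := (hT _ (show (D.par.getD i (0, 0)).1 < D.E.length by omega) _ h2).2
        rw [Nat.eq_of_beq_eq_true h3] at h4
        rw [enc_mul, hg, hgen _ h2]
        exact beqL_eq h4
  choose! e he using key1
  have hnd2 := nodupN_nodup hnd
  have hinj : ∀ i < D.E.length, ∀ i' < D.E.length, e i = e i' → i = i' := by
    intro i hi i' hi' hii
    have h1 : D.E.getD i [] = D.E.getD i' [] := by rw [← he i hi, ← he i' hi', hii]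
    have h2 := List.nodup_iff_injective_get.1 hnd2
    have hl : (D.E.map key).length = D.E.length := List.length_map _
    have h3 := @h2 ⟨i, by rw [hl]; exact hi⟩ ⟨i', by rw [hl]; exact hi'⟩ (by
      show (D.E.map key)[i] = (D.E.map key)[i']
      rw [List.getElem_map, List.getElem_map]
      rw [List.getD_eq_getElem _ _ hi, List.getD_eq_getElem _ _ hi'] at h1
      rw [h1])
    simpa using h3
  have hmul : ∀ i < D.E.length, ∀ j < D.Gw.length, e i * D.gen j = e (D.t i j) := by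
    intro i hi j hj
    obtain ⟨h1, h2⟩ := hT i hi j hj
    apply enc_inj
    rw [enc_mul, he i hi, hgen j hj, beqL_eq h2]
    exact (he _ h1).symm
  refine ⟨e, he, ?_⟩
  constructor
  · exact hpos
  · exact enc_inj (by rw [he 0 hpos, hE0, enc_one])
  · exact fun i hi j hj => (hT i hi j hj).1
  · exact hmul
  · intro j hj i hi i' hi' hii
    refine hinj i hi i' hi' (mul_right_cancel (b := D.gen j) ?_)
    rw [hmul i hi j hj, hmul i' hi' j hj, hii]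
  · intro i hi h0'
    cases i with
    | zero => exact absurd rfl h0'
    | succ i =>
      obtain ⟨⟨h1, h2⟩, h3⟩ := hp i (by omega)
      exact ⟨_, h1, _, h2, Nat.eq_of_beq_eq_true h3⟩
  · intro i hi h0' h1
    apply h0'
    refine hinj i hi 0 hpos ?_
    rw [h1]
    exact (enc_inj (by rw [he 0 hpos, hE0, enc_one])).symm

/-- the check of a prefix -/
def chkP (D : TD) (n m : ℕ) : Bool :=
  Nat.blt 0 n && Nat.ble n D.E.length && Nat.ble m D.Gw.length &&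
  (List.range n).all (fun i => (List.range m).all fun j => Nat.blt ((D.T.getD i []).getD j 0) n) &&
  (List.range (n - 1)).all fun i =>
    Nat.blt (D.par.getD i (0, 0)).1 (i + 1) && Nat.blt (D.par.getD i (0, 0)).2 m &&
      Nat.beq ((D.T.getD (D.par.getD i (0, 0)).1 []).getD (D.par.getD i (0, 0)).2 0) (i + 1)

/-- the check of a prefix, with look-ups in numbers -/
noncomputable def fastP (D : TD) (n m : ℕ) : Bool :=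
  fitT D.Gw.length D.T && fitN 9 (D.par.map Prod.fst) && fitN 9 (D.par.map Prod.snd) &&
  (Nat.blt 0 n && Nat.ble n D.E.length && Nat.ble m D.Gw.length &&
  (List.range n).all (fun i => (List.range m).all fun j => Nat.blt (lkT D.Gw.length D.T i j) n) &&
  (List.range (n - 1)).all fun i =>
    Nat.blt (lkN 9 (D.par.map Prod.fst) i) (i + 1) && Nat.blt (lkN 9 (D.par.map Prod.snd) i) m &&
      Nat.beq (lkT D.Gw.length D.T (lkN 9 (D.par.map Prod.fst) i) (lkN 9 (D.par.map Prod.snd) i)) (i + 1))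

theorem chkP_of {D : TD} {n m : ℕ} (h : fastP D n m = true) : chkP D n m = true := by
  delta fastP at h
  rw [Bool.and_eq_true, Bool.and_eq_true, Bool.and_eq_true] at h
  obtain ⟨⟨⟨h2, h3⟩, h4⟩, h5⟩ := h
  delta chkP
  simp only [lkT_eq h2, lkN_fst h3, lkN_snd h4]
  exact h5

theorem restrict_tab {D : TD} {e : ℕ → Sp2} {n m : ℕ} (h : Table D.E.length D.Gw.length e D.gen D.t)
    (hc : chkP D n m = true) : Table n m e D.gen D.t ∧ n ≤ D.E.length ∧ m ≤ D.Gw.length := by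
  unfold chkP at hc
  simp only [Bool.and_eq_true, List.all_eq_true, List.mem_range, Nat.blt_eq, Nat.ble_eq] at hc
  obtain ⟨⟨⟨⟨h1, h2⟩, h3⟩, h4⟩, h5⟩ := hc
  refine ⟨h.restrict h1 h2 h3 h4 ?_, h2, h3⟩
  intro i hi h0
  cases i with
  | zero => exact absurd rfl h0
  | succ i =>
    obtain ⟨⟨h6, h7⟩, h8⟩ := h5 i (by omega)
    exact ⟨_, h6, _, h7, Nat.eq_of_beq_eq_true h8⟩

/-! ### the forest -/

/-- data of the forest: conjugating involutions, roots (as words), codes, parents, roots -/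
structure FD where
  Bw : List (List ℕ)
  Rw : List (List ℕ)
  Fo : List (List ℕ)
  par : List (ℕ × ℕ)
  root : List ℕ

/-- the check of the forest -/
def chkF (D : FD) : Bool :=
  let B := D.Bw.map wordC
  D.Bw.all okW && D.Rw.all okW && (B.all fun b => beqL (mulC b b) oneC) &&
  (List.range D.Rw.length).all (fun i => beqL (wordC (D.Rw.getD i [])) (D.Fo.getD i []) &&
    Nat.beq (D.root.getD i 0) i) &&
  (List.range (D.Fo.length - D.Rw.length)).all fun i =>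
    let p := D.par.getD i (0, 0)
    let b := B.getD p.1 []
    Nat.blt p.1 D.Bw.length && Nat.blt p.2 (D.Rw.length + i) &&
      beqL (mulC (mulC b (D.Fo.getD p.2 [])) b) (D.Fo.getD (D.Rw.length + i) []) &&
      Nat.beq (D.root.getD p.2 0) (D.root.getD (D.Rw.length + i) 0)

/-- the representatives -/
def FD.rep (D : FD) (k : ℕ) : Sp2 := wordE (D.Rw.getD k [])

theorem forest {D : FD} (h : chkF D = true) : ∀ i < D.Fo.length, ∃ g x : Sp2, enc g = D.Fo.getD i [] ∧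
    D.root.getD i 0 < D.Rw.length ∧ g = x⁻¹ * D.rep (D.root.getD i 0) * x := by
  unfold chkF at h
  simp only [Bool.and_eq_true, List.all_eq_true, List.mem_range, Nat.blt_eq] at h
  obtain ⟨⟨⟨⟨hb, hr⟩, hbb⟩, h1⟩, h2⟩ := h
  intro i
  induction i using Nat.strong_induction_on with
  | _ i ih =>
    intro hi
    by_cases hir : i < D.Rw.length
    · obtain ⟨h3, h4⟩ := h1 i hir
      have h5 := Nat.eq_of_beq_eq_true h4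
      refine ⟨D.rep i, 1, ?_, by rw [h5]; exact hir, by rw [h5]; simp⟩
      rw [← beqL_eq h3]
      refine enc_word (hr _ ?_)
      rw [List.getD_eq_getElem _ _ hir]
      exact List.getElem_mem hir
    · obtain ⟨j, rfl⟩ : ∃ j, i = D.Rw.length + j := ⟨i - D.Rw.length, by omega⟩
      obtain ⟨⟨⟨h4, h5⟩, h6⟩, h7⟩ := h2 j (by omega)
      obtain ⟨g, x, hg, hlt, hgx⟩ := ih (D.par.getD j (0, 0)).2 h5 (by omega)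
      have hbm : D.Bw.getD (D.par.getD j (0, 0)).1 [] ∈ D.Bw := by
        rw [List.getD_eq_getElem _ _ h4]
        exact List.getElem_mem h4
      have hbe : enc (wordE (D.Bw.getD (D.par.getD j (0, 0)).1 [])) =
          (D.Bw.map wordC).getD (D.par.getD j (0, 0)).1 [] := by
        rw [map_getD h4]
        exact enc_word (hb _ hbm)
      obtain ⟨b, hbdef⟩ : ∃ b, b = wordE (D.Bw.getD (D.par.getD j (0, 0)).1 []) := ⟨_, rfl⟩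
      rw [← hbdef] at hbe
      have hb2 : b * b = 1 := by
        apply enc_inj
        rw [enc_mul, hbe, enc_one]
        exact beqL_eq (hbb _ (by
          rw [map_getD h4]
          exact List.mem_map_of_mem hbm))
      have hbi : b⁻¹ = b := inv_eq_of_mul_eq_one_left hb2
      refine ⟨b * g * b, x * b, ?_, ?_, ?_⟩
      · rw [enc_mul, enc_mul, hbe, hg]
        exact beqL_eq h6
      · rw [← Nat.eq_of_beq_eq_true h7]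
        exact hlt
      · rw [← Nat.eq_of_beq_eq_true h7, hgx, mul_inv_rev, hbi]
        group

/-- the check of the positions -/
def chkI (D : FD) (E : List (List ℕ)) (idx : List ℕ) : Bool :=
  (List.range E.length).all fun i =>
    Nat.blt (idx.getD i 0) D.Fo.length && beqL (E.getD i []) (D.Fo.getD (idx.getD i 0) [])

theorem chkI_of {D : FD} (hD : fitC D.Fo = true) {E : List (List ℕ)} {idx : List ℕ}
    (h : (fitC E && fitN 9 idx && (List.range E.length).all fun i =>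
      Nat.blt (lkN 9 idx i) D.Fo.length && beqL (lkC E i) (lkC D.Fo (lkN 9 idx i))) = true) : chkI D E idx = true := by
  rw [Bool.and_eq_true, Bool.and_eq_true] at h
  obtain ⟨⟨h1, h2⟩, h3⟩ := h
  delta chkI
  simp only [lkC_eq hD, lkC_eq h1, lkN_eq h2]
  exact h3

theorem conj_of_idx {D : FD} (h : chkF D = true) {E : List (List ℕ)} {idx : List ℕ} (hI : chkI D E idx = true)
    {e : ℕ → Sp2} (he : ∀ i < E.length, enc (e i) = E.getD i []) {i : ℕ} (hi : i < E.length) :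
    D.root.getD (idx.getD i 0) 0 < D.Rw.length ∧ ∃ x : Sp2, e i = x⁻¹ * D.rep (D.root.getD (idx.getD i 0) 0) * x := by
  unfold chkI at hI
  simp only [Bool.and_eq_true, List.all_eq_true, List.mem_range, Nat.blt_eq] at hI
  obtain ⟨h1, h2⟩ := hI i hi
  obtain ⟨g, x, hg, hlt, hgx⟩ := forest h _ h1
  have : e i = g := enc_inj (by rw [he i hi, hg, beqL_eq h2])
  exact ⟨hlt, x, this.trans hgx⟩

/-! ### fixed spaces -/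

/-- the vectors fixed by the words of a list -/
def fixW (F : Sp2 →* E) (ws : List (List ℕ)) : Submodule (ZMod 3) LL where
  carrier := {v | ∀ w ∈ ws, ac (F (wordE w)) v = v}
  add_mem' := fun ha hb g hg => by rw [ac_add, ha g hg, hb g hg]
  zero_mem' := fun g _ => ac_zero _
  smul_mem' := fun c v hv g hg => (Matrix.mulVec_smul _ _ _).trans (congrArg (fun w => c • w) (hv g hg))

theorem fixW_anti {F : Sp2 →* E} {ws ws' : List (List ℕ)} (h : ∀ w ∈ ws, w ∈ ws') : fixW F ws' ≤ fixW F ws :=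
  fun _ hv w hw => hv w (h w hw)

/-- the stabiliser of a vector in `Sp₆(2)` -/
def stS (F : Sp2 →* E) (v : LL) : Subgroup Sp2 := (stab v).comap F

theorem tab_mem {n m : ℕ} {e s : ℕ → Sp2} {t : ℕ → ℕ → ℕ} (h : Table n m e s t) {H : Subgroup Sp2}
    (hs : ∀ j < m, s j ∈ H) : ∀ i < n, e i ∈ H := by
  intro i
  induction i using Nat.strong_induction_on with
  | _ i ih =>
    intro hi
    by_cases h0 : i = 0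
    · subst h0
      rw [h.one]
      exact H.one_mem
    · obtain ⟨i', hi', j, hj, hij⟩ := h.par i hi h0
      rw [← hij, ← h.mul i' (by omega) j hj]
      exact H.mul_mem (ih i' hi' (by omega)) (hs j hj)

theorem gen_mem {n m : ℕ} {e s : ℕ → Sp2} {t : ℕ → ℕ → ℕ} (h : Table n m e s t) {j : ℕ} (hj : j < m) :
    ∃ i < n, s j = e i := ⟨t 0 j, h.lt 0 h.pos j hj, by rw [← h.mul 0 h.pos j hj, h.one, one_mul]⟩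

theorem fixL_eq {D : TD} {n m : ℕ} {e : ℕ → Sp2} (h : Table n m e D.gen D.t) (hm : m ≤ D.Gw.length)
    (F : Sp2 →* E) : H942.L7.fixL F ((List.range n).map e) = fixW F (D.Gw.take m) := by
  have hg : ∀ j < m, D.Gw.getD j [] ∈ D.Gw.take m := by
    intro j hj
    rw [List.getD_eq_getElem _ _ (by omega)]
    have : (D.Gw.take m)[j]'(by rw [List.length_take]; omega) = D.Gw[j]'(by omega) := List.getElem_take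
    rw [← this]
    exact List.getElem_mem _
  ext v
  constructor
  · intro hv w hw
    obtain ⟨j, hj, hjw⟩ := List.mem_iff_getElem.1 hw
    rw [List.length_take] at hj
    have h1 : w = D.Gw.getD j [] := by
      rw [List.getD_eq_getElem _ _ (by omega), ← hjw]
      exact List.getElem_take
    obtain ⟨i, hi, h2⟩ := gen_mem h (show j < m by omega)
    have h3 := hv (e i) (List.mem_map_of_mem (List.mem_range.2 hi))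
    rw [← h2] at h3
    rw [h1]
    exact h3
  · intro hv g hg'
    obtain ⟨i, hi, rfl⟩ := List.mem_map.1 hg'
    have h4 : e i ∈ stS F v := tab_mem h (fun j hj => hv _ (hg j hj)) i (List.mem_range.1 hi)
    exact h4

theorem sum_range_list {A : Type*} [AddCommMonoid A] (n : ℕ) (f : ℕ → A) :
    ∑ i ∈ Finset.range n, f i = ((List.range n).map f).sum := by
  induction n with
  | zero => simp
  | succ n ih => rw [Finset.sum_range_succ, ih, List.range_succ, List.map_append, List.sum_append]; simp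

section bc

variable {M : Ideal AlgInt} {V : ValuationSubring ℂ} [CharP (ResidueField V) 3]

/-- the sum of the values over a table -/
theorem tab_dim (hM : IsPModular 3 M) (hV : Above M V) (F : Sp2 →* E) {D : TD} {n m : ℕ} {e : ℕ → Sp2}
    (h : Table n m e D.gen D.t) (hm : m ≤ D.Gw.length) (hn : n.Coprime 3) :
    ∑ i ∈ Finset.range n, bc 3 (adj V F) (e i) = (n : ℂ) * (finrank (ZMod 3) ↥(fixW F (D.Gw.take m)) : ℂ) := by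
  have h1 := H451.L7.dim M V hM hV Sp2 F ((List.range n).map e)
    (List.Nodup.map_on (fun i hi j hj hij => h.injOn j (List.mem_range.1 hj) i (List.mem_range.1 hi) hij)
      List.nodup_range)
    (List.mem_map.2 ⟨0, List.mem_range.2 h.pos, h.one⟩)
    (by
      intro a ha b hb
      obtain ⟨i, hi, rfl⟩ := List.mem_map.1 ha
      obtain ⟨j, hj, rfl⟩ := List.mem_map.1 hb
      obtain ⟨k, hk, hk'⟩ := h.mul_mem j (List.mem_range.1 hj) i (List.mem_range.1 hi)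
      exact List.mem_map.2 ⟨k, List.mem_range.2 hk, hk'.symm⟩)
    (by rw [List.length_map, List.length_range]; exact hn)
  rw [fixL_eq h hm, List.length_map, List.length_range, List.map_map] at h1
  rw [← h1]
  exact sum_range_list n fun i => bc 3 (adj V F) (e i)

/-- **The equation of a table.** -/
theorem eqn (hM : IsPModular 3 M) (hV : Above M V) (F : Sp2 →* E) {D0 : FD} (hF : chkF D0 = true) {D : TD}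
    (hT : chkT D = true) (hI : chkI D0 D.E D.idx = true) {n m : ℕ} (hP : chkP D n m = true) (hn : n.Coprime 3)
    {t : ℕ → ℤ} (ht : ∀ k < D0.Rw.length, bc 3 (adj V F) (D0.rep k) = t k) :
    ∑ k ∈ Finset.range D0.Rw.length, (cntK n (fun i => D0.root.getD (D.idx.getD i 0) 0) k : ℤ) * t k =
      (n : ℤ) * (finrank (ZMod 3) ↥(fixW F (D.Gw.take m)) : ℤ) := by
  obtain ⟨e, he, hTab⟩ := exists_tab hT
  obtain ⟨hTab', hn', hm'⟩ := restrict_tab hTab hP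
  have h1 := tab_dim hM hV F hTab' hm' hn
  have h2 : ∀ i ∈ Finset.range n, bc 3 (adj V F) (e i) = ((t (D0.root.getD (D.idx.getD i 0) 0) : ℤ) : ℂ) := by
    intro i hi
    obtain ⟨h3, x, h4⟩ := conj_of_idx hF hI he (lt_of_lt_of_le (Finset.mem_range.1 hi) hn')
    rw [h4, bc_conj', ht _ h3]
  rw [Finset.sum_congr rfl h2, sum_of (r := D0.Rw.length) (f := fun i => D0.root.getD (D.idx.getD i 0) 0)
    (fun i hi => (conj_of_idx hF hI he (lt_of_lt_of_le hi hn')).1) (fun k => ((t k : ℤ) : ℂ))] at h1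
  have h5 : (((∑ k ∈ Finset.range D0.Rw.length,
      (cntK n (fun i => D0.root.getD (D.idx.getD i 0) 0) k : ℤ) * t k : ℤ)) : ℂ) =
      (((n : ℤ) * (finrank (ZMod 3) ↥(fixW F (D.Gw.take m)) : ℤ) : ℤ) : ℂ) := by
    push_cast
    rw [← h1]
    refine Finset.sum_congr rfl fun k _ => ?_
    rw [nsmul_eq_mul]
  exact_mod_cast h5

end bc

end Cfsg.Agent.H942.S62
end

-- part: H942/S62/DataF
section
/-!
# Subgroups of `Sp₆(2)`: data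
-/

set_option autoImplicit false
set_option maxRecDepth 100000

namespace Cfsg.Agent.H942.S62

/-- the forest -/
def fo : FD where
  Bw := (beta% delta% lq268d48dee6 fun a c _ _ _ _ _ _ _ _ _ _ _ =>
 (a (a 3<|a 24<|a 27<|c)<|a (a 1<|a 7<|a 49<|a 55<|c)<|a (a 1<|a 16<|a 17<|c)<|a (a 1<|a 3<|a 5<|a 7<|c)<|a (a 4<|c)<|a (a 36<|c)<|a (a 1<|a 32<|a 33<|c)<|a (a 1<|a 3<|a 33<|a 35<|c)<|a (a 2<|c)<|a (a 48<|c)<|a (a 6<|c)<|a (a 1<|a 2<|a 3<|c)<|a (a 1<|a 4<|a 5<|c)<|a (a 6<|a 7<|c)<|c))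
  Rw := (beta% delta% lq268d48dee6 fun a c _ _ _ _ _ _ _ _ _ _ _ =>
 (a c<|a (a 1<|c)<|a (a 1<|a 2<|a 3<|c)<|a (a 2<|a 3<|c)<|a (a 2<|a 32<|a 33<|c)<|a (a 4<|a 6<|a 34<|a 35<|c)<|a (a 2<|a 4<|a 1<|a 52<|a 53<|c)<|a (a 4<|a 1<|a 54<|a 55<|c)<|a (a 6<|a 18<|a 19<|c)<|a (a 2<|a 6<|a 50<|a 51<|c)<|a (a 4<|a 36<|a 38<|a 22<|c)<|a (a 4<|a 6<|a 36<|a 50<|c)<|
 a (a 4<|a 6<|a 38<|a 16<|c)<|a (a 4<|a 32<|a 34<|a 54<|c)<|c))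
  Fo := (beta% delta% lq268d48dee6 fun a c d _ _ _ _ _ _ _ _ _ _ =>
 (let b:=(let b:=(let b:=(let b:=(let b:=(let b:=(let b:=(d (a 35<|a 56<|a 32<|a 8<|a 26<|a 22<|c)<|d (a 19<|a 32<|a 10<|a 8<|a 46<|a 56<|c)<|d (a 61<|a 40<|a 10<|a 8<|a 46<|a 56<|c)<|d (a 11<|a 32<|a 2<|a 8<|a 38<|a 56<|c)<|c);
 (d (a 13<|a 22<|a 56<|a 8<|a 6<|a 4<|c)<|d (a 19<|a 22<|a 56<|a 8<|a 14<|a 4<|c)<|d (a 29<|a 56<|a 40<|a 8<|a 26<|a 30<|c)<|d (a 41<|a 48<|a 32<|a 8<|a 18<|a 30<|c)<|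
 b));
 (let b:=(d (a 39<|a 12<|a 22<|a 8<|a 42<|a 2<|c)<|d (a 63<|a 12<|a 30<|a 8<|a 34<|a 10<|c)<|
 d (a 13<|a 4<|a 22<|a 8<|a 42<|a 2<|c)<|d (a 63<|a 30<|a 48<|a 8<|a 6<|a 12<|c)<|b);
 (d (a 13<|a 40<|a 2<|a 8<|a 46<|a 56<|c)<|d (a 57<|a 32<|a 10<|a 8<|a 38<|a 48<|c)<|d (a 31<|a 40<|a 10<|a 8<|a 38<|a 48<|c)<|d (a 41<|a 32<|a 2<|a 8<|a 46<|a 48<|c)<|b)));
 (let b:=(let b:=(d (a 17<|a 48<|a 32<|a 8<|a 26<|a 30<|c)<|d (a 29<|a 40<|a 10<|a 8<|a 38<|a 56<|c)<|d (a 45<|a 40<|a 2<|a 8<|a 38<|a 56<|c)<|d (a 59<|a 32<|a 10<|a 8<|a 38<|a 56<|c)<|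
 b);
 (d (a 13<|a 56<|a 40<|a 8<|a 18<|a 22<|c)<|d (a 7<|a 48<|a 40<|a 8<|a 26<|a 30<|c)<|
 d (a 39<|a 48<|a 40<|a 8<|a 26<|a 22<|c)<|d (a 19<|a 56<|a 32<|a 8<|a 18<|a 22<|c)<|b));
 (let b:=(d (a 17<|a 30<|a 48<|a 8<|a 14<|a 4<|c)<|d (a 7<|a 30<|a 48<|a 8<|a 6<|a 4<|c)<|d (a 57<|a 48<|a 32<|a 8<|a 26<|a 22<|c)<|d (a 31<|a 48<|a 40<|a 8<|a 18<|a 22<|c)<|b);
 (d (a 41<|a 30<|a 48<|a 8<|a 14<|a 12<|c)<|d (a 57<|a 22<|a 48<|a 8<|a 6<|a 12<|c)<|d (a 39<|a 22<|a 48<|a 8<|a 14<|a 12<|c)<|d (a 35<|a 22<|a 56<|a 8<|a 14<|a 12<|c)<|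
 b))));
 (let b:=(let b:=(let b:=(d (a 41<|a 12<|a 30<|a 8<|a 34<|a 2<|c)<|d (a 57<|a 12<|a 22<|a 8<|a 42<|a 10<|c)<|
 d (a 11<|a 4<|a 30<|a 8<|a 34<|a 2<|c)<|d (a 11<|a 30<|a 56<|a 8<|a 6<|a 4<|c)<|b);
 (d (a 61<|a 12<|a 22<|a 8<|a 34<|a 10<|c)<|d (a 29<|a 4<|a 30<|a 8<|a 34<|a 10<|c)<|d (a 45<|a 12<|a 30<|a 8<|a 42<|a 2<|c)<|d (a 31<|a 4<|a 22<|a 8<|a 34<|a 10<|c)<|b));
 (let b:=(d (a 63<|a 40<|a 10<|a 8<|a 46<|a 48<|c)<|d (a 7<|a 40<|a 2<|a 8<|a 46<|a 48<|c)<|d (a 17<|a 32<|a 10<|a 8<|a 46<|a 48<|c)<|d (a 39<|a 40<|a 2<|a 8<|a 38<|a 48<|c)<|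
 b);
 (d (a 45<|a 56<|a 40<|a 8<|a 18<|a 30<|c)<|d (a 63<|a 48<|a 40<|a 8<|a 18<|a 30<|c)<|
 d (a 61<|a 56<|a 40<|a 8<|a 26<|a 22<|c)<|d (a 35<|a 32<|a 2<|a 8<|a 46<|a 56<|c)<|b)));
 (let b:=(let b:=(d (a 45<|a 30<|a 56<|a 8<|a 14<|a 12<|c)<|d (a 59<|a 30<|a 56<|a 8<|a 6<|a 12<|c)<|d (a 59<|a 56<|a 32<|a 8<|a 18<|a 30<|c)<|d (a 11<|a 56<|a 32<|a 8<|a 26<|a 30<|c)<|b);
 (d (a 17<|a 4<|a 30<|a 8<|a 42<|a 10<|c)<|d (a 29<|a 30<|a 56<|a 8<|a 14<|a 4<|c)<|d (a 31<|a 22<|a 48<|a 8<|a 14<|a 4<|c)<|d (a 61<|a 22<|a 56<|a 8<|a 6<|a 12<|c)<|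
 b));
 (let b:=(d (a 7<|a 4<|a 30<|a 8<|a 42<|a 2<|c)<|d (a 59<|a 12<|a 30<|a 8<|a 42<|a 10<|c)<|
 d (a 19<|a 4<|a 22<|a 8<|a 42<|a 10<|c)<|d (a 35<|a 12<|a 22<|a 8<|a 34<|a 2<|c)<|b);
 (d (a 39<|a 20<|a 12<|a 8<|a 14<|a 62<|c)<|d (a 43<|a 58<|a 26<|a 8<|a 54<|a 14<|c)<|d (a 49<|a 28<|a 12<|a 8<|a 6<|a 54<|c)<|d (a 61<|a 50<|a 26<|a 8<|a 62<|a 6<|c)<|b)))));
 (let b:=(let b:=(let b:=(let b:=(d (a 31<|a 28<|a 4<|a 8<|a 14<|a 62<|c)<|d (a 27<|a 50<|a 18<|a 8<|a 54<|a 14<|c)<|d (a 9<|a 20<|a 4<|a 8<|a 6<|a 54<|c)<|d (a 13<|a 58<|a 18<|a 8<|a 62<|a 6<|c)<|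
 b);
 (d (a 5<|a 44<|a 18<|a 8<|a 40<|a 16<|c)<|d (a 19<|a 36<|a 18<|a 8<|a 32<|a 24<|c)<|
 d (a 53<|a 36<|a 26<|a 8<|a 40<|a 16<|c)<|d (a 35<|a 44<|a 26<|a 8<|a 32<|a 24<|c)<|b));
 (let b:=(d (a 23<|a 38<|a 28<|a 8<|a 24<|a 48<|c)<|d (a 7<|a 46<|a 28<|a 8<|a 24<|a 48<|c)<|d (a 35<|a 46<|a 20<|a 8<|a 24<|a 56<|c)<|d (a 39<|a 38<|a 20<|a 8<|a 24<|a 48<|c)<|b);
 (d (a 35<|a 14<|a 12<|a 8<|a 24<|a 56<|c)<|d (a 3<|a 38<|a 28<|a 8<|a 24<|a 56<|c)<|d (a 55<|a 6<|a 12<|a 8<|a 24<|a 48<|c)<|d (a 51<|a 38<|a 20<|a 8<|a 24<|a 56<|c)<|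
 b)));
 (let b:=(let b:=(d (a 55<|a 46<|a 20<|a 8<|a 24<|a 48<|c)<|d (a 63<|a 46<|a 20<|a 8<|a 24<|a 48<|c)<|
 d (a 31<|a 38<|a 28<|a 8<|a 24<|a 48<|c)<|d (a 59<|a 38<|a 20<|a 8<|a 24<|a 56<|c)<|b);
 (d (a 47<|a 14<|a 12<|a 8<|a 24<|a 48<|c)<|d (a 43<|a 46<|a 20<|a 8<|a 24<|a 56<|c)<|d (a 15<|a 46<|a 28<|a 8<|a 24<|a 48<|c)<|d (a 7<|a 6<|a 4<|a 8<|a 24<|a 48<|c)<|b));
 (let b:=(d (a 19<|a 46<|a 28<|a 8<|a 24<|a 56<|c)<|d (a 59<|a 6<|a 12<|a 8<|a 24<|a 56<|c)<|d (a 27<|a 46<|a 28<|a 8<|a 24<|a 56<|c)<|d (a 39<|a 14<|a 12<|a 8<|a 24<|a 48<|c)<|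
 b);
 (d (a 7<|a 42<|a 28<|a 8<|a 24<|a 40<|c)<|d (a 3<|a 6<|a 4<|a 8<|a 24<|a 56<|c)<|
 d (a 55<|a 34<|a 20<|a 8<|a 24<|a 40<|c)<|d (a 51<|a 6<|a 12<|a 8<|a 24<|a 56<|c)<|b))));
 (let b:=(let b:=(let b:=(d (a 23<|a 14<|a 4<|a 8<|a 24<|a 48<|c)<|d (a 31<|a 14<|a 4<|a 8<|a 24<|a 48<|c)<|d (a 63<|a 6<|a 12<|a 8<|a 24<|a 48<|c)<|d (a 47<|a 38<|a 20<|a 8<|a 24<|a 48<|c)<|b);
 (d (a 47<|a 42<|a 20<|a 8<|a 24<|a 40<|c)<|d (a 43<|a 14<|a 12<|a 8<|a 24<|a 56<|c)<|d (a 11<|a 38<|a 28<|a 8<|a 24<|a 56<|c)<|d (a 35<|a 34<|a 20<|a 8<|a 24<|a 32<|c)<|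
 b));
 (let b:=(d (a 19<|a 14<|a 4<|a 8<|a 24<|a 56<|c)<|d (a 31<|a 34<|a 28<|a 8<|a 24<|a 40<|c)<|
 d (a 27<|a 14<|a 4<|a 8<|a 24<|a 56<|c)<|d (a 39<|a 42<|a 20<|a 8<|a 24<|a 40<|c)<|b);
 (d (a 61<|a 6<|a 52<|a 8<|a 16<|a 56<|c)<|d (a 13<|a 46<|a 44<|a 8<|a 16<|a 56<|c)<|d (a 3<|a 34<|a 28<|a 8<|a 24<|a 32<|c)<|d (a 23<|a 34<|a 28<|a 8<|a 24<|a 40<|c)<|b)));
 (let b:=(let b:=(d (a 59<|a 42<|a 20<|a 8<|a 24<|a 32<|c)<|d (a 63<|a 34<|a 20<|a 8<|a 24<|a 40<|c)<|d (a 15<|a 6<|a 4<|a 8<|a 24<|a 48<|c)<|d (a 49<|a 6<|a 12<|a 8<|a 16<|a 48<|c)<|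
 b);
 (d (a 15<|a 42<|a 28<|a 8<|a 24<|a 40<|c)<|d (a 11<|a 6<|a 4<|a 8<|a 24<|a 56<|c)<|
 d (a 21<|a 34<|a 20<|a 8<|a 16<|a 40<|c)<|d (a 51<|a 42<|a 20<|a 8<|a 24<|a 32<|c)<|b));
 (d (a 55<|a 54<|a 20<|a 8<|a 24<|a 48<|c)<|d (a 45<|a 38<|a 36<|a 8<|a 16<|a 56<|c)<|d (a 5<|a 62<|a 44<|a 8<|a 16<|a 56<|c)<|
 d (a 53<|a 22<|a 52<|a 8<|a 16<|a 56<|c)<|d (a 5<|a 42<|a 20<|a 8<|a 16<|a 40<|c)<|d (a 19<|a 42<|a 28<|a 8<|a 24<|a 32<|c)<|d (a 27<|a 42<|a 28<|a 8<|a 24<|a 32<|c)<|b)))));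
 (let b:=(let b:=(let b:=(let b:=(let b:=(d (a 33<|a 46<|a 44<|a 8<|a 16<|a 48<|c)<|
 d (a 45<|a 14<|a 52<|a 8<|a 16<|a 56<|c)<|d (a 29<|a 38<|a 44<|a 8<|a 16<|a 56<|c)<|d (a 3<|a 62<|a 28<|a 8<|a 24<|a 56<|c)<|b);
 (d (a 5<|a 6<|a 60<|a 8<|a 16<|a 56<|c)<|d (a 37<|a 38<|a 36<|a 8<|a 16<|a 56<|c)<|d (a 49<|a 6<|a 60<|a 8<|a 16<|a 48<|c)<|d (a 13<|a 6<|a 60<|a 8<|a 16<|a 56<|c)<|b));
 (let b:=(d (a 43<|a 34<|a 20<|a 8<|a 24<|a 32<|c)<|d (a 49<|a 38<|a 28<|a 8<|a 16<|a 48<|c)<|d (a 61<|a 6<|a 12<|a 8<|a 16<|a 56<|c)<|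
 d (a 33<|a 14<|a 12<|a 8<|a 16<|a 48<|c)<|b);
 (d (a 45<|a 42<|a 28<|a 8<|a 16<|a 40<|c)<|
 d (a 11<|a 34<|a 28<|a 8<|a 24<|a 32<|c)<|d (a 53<|a 34<|a 28<|a 8<|a 16<|a 40<|c)<|d (a 61<|a 34<|a 28<|a 8<|a 16<|a 40<|c)<|b)));
 (let b:=(let b:=(d (a 27<|a 54<|a 28<|a 8<|a 24<|a 56<|c)<|d (a 47<|a 62<|a 20<|a 8<|a 24<|a 48<|c)<|d (a 5<|a 22<|a 60<|a 8<|a 16<|a 56<|c)<|d (a 37<|a 42<|a 28<|a 8<|a 16<|a 40<|c)<|b);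
 (d (a 37<|a 54<|a 36<|a 8<|a 16<|a 56<|c)<|d (a 33<|a 30<|a 60<|a 8<|a 16<|a 48<|c)<|d (a 21<|a 54<|a 44<|a 8<|a 16<|a 56<|c)<|
 d (a 37<|a 30<|a 52<|a 8<|a 16<|a 56<|c)<|b));
 (let b:=(d (a 61<|a 46<|a 36<|a 8<|a 16<|a 56<|c)<|
 d (a 49<|a 22<|a 60<|a 8<|a 16<|a 48<|c)<|d (a 21<|a 30<|a 60<|a 8<|a 16<|a 56<|c)<|d (a 49<|a 54<|a 44<|a 8<|a 16<|a 48<|c)<|b);
 (d (a 7<|a 54<|a 28<|a 8<|a 24<|a 48<|c)<|d (a 39<|a 62<|a 20<|a 8<|a 24<|a 48<|c)<|d (a 19<|a 54<|a 28<|a 8<|a 24<|a 56<|c)<|d (a 49<|a 38<|a 44<|a 8<|a 16<|a 48<|c)<|b))));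
 (let b:=(let b:=(let b:=(d (a 3<|a 30<|a 4<|a 8<|a 24<|a 56<|c)<|d (a 35<|a 54<|a 20<|a 8<|a 24<|a 56<|c)<|d (a 9<|a 38<|a 36<|a 8<|a 16<|a 48<|c)<|
 d (a 23<|a 22<|a 4<|a 8<|a 24<|a 48<|c)<|b);
 (d (a 9<|a 6<|a 52<|a 8<|a 16<|a 48<|c)<|
 d (a 53<|a 34<|a 52<|a 8<|a 16<|a 40<|c)<|d (a 33<|a 14<|a 60<|a 8<|a 16<|a 48<|c)<|d (a 29<|a 14<|a 60<|a 8<|a 16<|a 56<|c)<|b));
 (let b:=(d (a 53<|a 46<|a 36<|a 8<|a 16<|a 56<|c)<|d (a 61<|a 62<|a 36<|a 8<|a 16<|a 56<|c)<|d (a 29<|a 30<|a 60<|a 8<|a 16<|a 56<|c)<|d (a 5<|a 42<|a 60<|a 8<|a 16<|a 40<|c)<|b);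
 (d (a 53<|a 6<|a 52<|a 8<|a 16<|a 56<|c)<|d (a 1<|a 38<|a 36<|a 8<|a 16<|a 48<|c)<|d (a 5<|a 46<|a 44<|a 8<|a 16<|a 56<|c)<|
 d (a 21<|a 14<|a 60<|a 8<|a 16<|a 56<|c)<|b)));
 (let b:=(let b:=(d (a 45<|a 14<|a 12<|a 8<|a 16<|a 56<|c)<|
 d (a 17<|a 46<|a 36<|a 8<|a 16<|a 48<|c)<|d (a 21<|a 38<|a 44<|a 8<|a 16<|a 56<|c)<|d (a 1<|a 6<|a 52<|a 8<|a 16<|a 48<|c)<|b);
 (d (a 21<|a 38<|a 20<|a 8<|a 16<|a 56<|c)<|d (a 29<|a 38<|a 20<|a 8<|a 16<|a 56<|c)<|d (a 5<|a 62<|a 20<|a 8<|a 16<|a 56<|c)<|d (a 33<|a 46<|a 28<|a 8<|a 16<|a 48<|c)<|b));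
 (let b:=(d (a 49<|a 54<|a 28<|a 8<|a 16<|a 48<|c)<|d (a 53<|a 6<|a 12<|a 8<|a 16<|a 56<|c)<|d (a 29<|a 34<|a 20<|a 8<|a 16<|a 40<|c)<|
 d (a 33<|a 62<|a 28<|a 8<|a 16<|a 48<|c)<|b);
 (d (a 31<|a 10<|a 4<|a 8<|a 24<|a 40<|c)<|
 d (a 47<|a 2<|a 12<|a 8<|a 24<|a 40<|c)<|d (a 37<|a 14<|a 12<|a 8<|a 16<|a 56<|c)<|d (a 13<|a 42<|a 20<|a 8<|a 16<|a 40<|c)<|b)))));
 (let b:=(let b:=(let b:=(let b:=(d (a 49<|a 26<|a 44<|a 8<|a 16<|a 32<|c)<|d (a 13<|a 22<|a 4<|a 8<|a 16<|a 56<|c)<|d (a 59<|a 10<|a 12<|a 8<|a 24<|a 32<|c)<|d (a 63<|a 10<|a 12<|a 8<|a 24<|a 40<|c)<|b);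
 (d (a 39<|a 2<|a 12<|a 8<|a 24<|a 40<|c)<|d (a 41<|a 18<|a 44<|a 8<|a 16<|a 32<|c)<|d (a 25<|a 26<|a 36<|a 8<|a 16<|a 32<|c)<|
 d (a 25<|a 42<|a 52<|a 8<|a 16<|a 32<|c)<|b));
 (let b:=(d (a 21<|a 14<|a 4<|a 8<|a 16<|a 56<|c)<|
 d (a 51<|a 10<|a 12<|a 8<|a 24<|a 32<|c)<|d (a 55<|a 10<|a 12<|a 8<|a 24<|a 40<|c)<|d (a 23<|a 10<|a 4<|a 8<|a 24<|a 40<|c)<|b);
 (d (a 15<|a 30<|a 4<|a 8<|a 24<|a 48<|c)<|d (a 31<|a 62<|a 28<|a 8<|a 24<|a 48<|c)<|d (a 63<|a 54<|a 20<|a 8<|a 24<|a 48<|c)<|d (a 11<|a 62<|a 28<|a 8<|a 24<|a 56<|c)<|b)));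
 (let b:=(let b:=(d (a 59<|a 62<|a 20<|a 8<|a 24<|a 56<|c)<|d (a 11<|a 30<|a 4<|a 8<|a 24<|a 56<|c)<|d (a 43<|a 54<|a 20<|a 8<|a 24<|a 56<|c)<|
 d (a 25<|a 30<|a 52<|a 8<|a 16<|a 48<|c)<|b);
 (d (a 29<|a 34<|a 60<|a 8<|a 16<|a 40<|c)<|
 d (a 33<|a 62<|a 44<|a 8<|a 16<|a 48<|c)<|d (a 53<|a 62<|a 36<|a 8<|a 16<|a 56<|c)<|d (a 27<|a 22<|a 4<|a 8<|a 24<|a 56<|c)<|b));
 (let b:=(d (a 13<|a 42<|a 60<|a 8<|a 16<|a 40<|c)<|d (a 9<|a 22<|a 52<|a 8<|a 16<|a 48<|c)<|d (a 45<|a 42<|a 52<|a 8<|a 16<|a 40<|c)<|d (a 25<|a 62<|a 36<|a 8<|a 16<|a 48<|c)<|b);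
 (d (a 37<|a 42<|a 52<|a 8<|a 16<|a 40<|c)<|d (a 25<|a 46<|a 36<|a 8<|a 16<|a 48<|c)<|d (a 19<|a 22<|a 4<|a 8<|a 24<|a 56<|c)<|
 d (a 51<|a 62<|a 20<|a 8<|a 24<|a 56<|c)<|b))));
 (let b:=(let b:=(let b:=(d (a 51<|a 50<|a 20<|a 8<|a 24<|a 32<|c)<|
 d (a 39<|a 22<|a 12<|a 8<|a 24<|a 48<|c)<|d (a 7<|a 30<|a 4<|a 8<|a 24<|a 48<|c)<|d (a 23<|a 62<|a 28<|a 8<|a 24<|a 48<|c)<|b);
 (d (a 25<|a 14<|a 52<|a 8<|a 16<|a 48<|c)<|d (a 3<|a 58<|a 28<|a 8<|a 24<|a 32<|c)<|d (a 35<|a 22<|a 12<|a 8<|a 24<|a 56<|c)<|d (a 37<|a 18<|a 36<|a 8<|a 16<|a 40<|c)<|b));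
 (let b:=(d (a 45<|a 54<|a 36<|a 8<|a 16<|a 56<|c)<|d (a 13<|a 22<|a 60<|a 8<|a 16<|a 56<|c)<|d (a 5<|a 18<|a 44<|a 8<|a 16<|a 40<|c)<|
 d (a 21<|a 34<|a 60<|a 8<|a 16<|a 40<|c)<|b);
 (d (a 1<|a 54<|a 36<|a 8<|a 16<|a 48<|c)<|
 d (a 29<|a 54<|a 44<|a 8<|a 16<|a 56<|c)<|d (a 1<|a 22<|a 52<|a 8<|a 16<|a 48<|c)<|d (a 45<|a 30<|a 52<|a 8<|a 16<|a 56<|c)<|b)));
 (let b:=(let b:=(d (a 17<|a 30<|a 52<|a 8<|a 16<|a 48<|c)<|d (a 61<|a 22<|a 52<|a 8<|a 16<|a 56<|c)<|d (a 27<|a 18<|a 4<|a 8<|a 24<|a 32<|c)<|d (a 11<|a 26<|a 4<|a 8<|a 24<|a 32<|c)<|b);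
 (d (a 41<|a 46<|a 44<|a 8<|a 16<|a 48<|c)<|d (a 17<|a 14<|a 52<|a 8<|a 16<|a 48<|c)<|d (a 37<|a 14<|a 52<|a 8<|a 16<|a 56<|c)<|
 d (a 43<|a 26<|a 12<|a 8<|a 24<|a 32<|c)<|b));
 (d (a 13<|a 46<|a 20<|a 8<|a 16<|a 56<|c)<|d (a 21<|a 54<|a 20<|a 8<|a 16<|a 56<|c)<|d (a 53<|a 10<|a 36<|a 8<|a 16<|a 40<|c)<|d (a 57<|a 38<|a 44<|a 8<|a 16<|a 48<|c)<|
 d (a 5<|a 2<|a 44<|a 8<|a 16<|a 40<|c)<|d (a 57<|a 6<|a 60<|a 8<|a 16<|a 48<|c)<|d (a 37<|a 2<|a 36<|a 8<|a 16<|a 40<|c)<|b))))));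
 (let b:=(let b:=(let b:=(let b:=(let b:=(let b:=(d (a 33<|a 30<|a 12<|a 8<|a 16<|a 48<|c)<|d (a 57<|a 38<|a 28<|a 8<|a 16<|a 48<|c)<|
 d (a 37<|a 30<|a 12<|a 8<|a 16<|a 56<|c)<|d (a 5<|a 46<|a 20<|a 8<|a 16<|a 56<|c)<|b);
 (d (a 57<|a 26<|a 44<|a 8<|a 16<|a 32<|c)<|d (a 41<|a 14<|a 12<|a 8<|a 16<|a 48<|c)<|d (a 49<|a 22<|a 12<|a 8<|a 16<|a 48<|c)<|d (a 57<|a 6<|a 12<|a 8<|a 16<|a 48<|c)<|b));
 (let b:=(d (a 17<|a 58<|a 52<|a 8<|a 16<|a 32<|c)<|d (a 49<|a 42<|a 60<|a 8<|a 16<|a 32<|c)<|d (a 9<|a 18<|a 36<|a 8<|a 16<|a 32<|c)<|d (a 33<|a 18<|a 44<|a 8<|a 16<|a 32<|c)<|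
 b);
 (d (a 37<|a 54<|a 28<|a 8<|a 16<|a 56<|c)<|d (a 33<|a 50<|a 28<|a 8<|a 16<|a 32<|c)<|
 d (a 41<|a 34<|a 60<|a 8<|a 16<|a 32<|c)<|d (a 41<|a 50<|a 60<|a 8<|a 16<|a 32<|c)<|b)));
 (let b:=(let b:=(d (a 41<|a 34<|a 28<|a 8<|a 16<|a 32<|c)<|d (a 23<|a 58<|a 52<|a 8<|a 24<|a 40<|c)<|d (a 33<|a 50<|a 60<|a 8<|a 16<|a 32<|c)<|d (a 17<|a 42<|a 52<|a 8<|a 16<|a 32<|c)<|b);
 (d (a 7<|a 50<|a 52<|a 8<|a 24<|a 40<|c)<|d (a 17<|a 10<|a 36<|a 8<|a 16<|a 32<|c)<|d (a 39<|a 50<|a 60<|a 8<|a 24<|a 40<|c)<|d (a 57<|a 42<|a 28<|a 8<|a 16<|a 32<|c)<|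
 b));
 (let b:=(d (a 15<|a 2<|a 4<|a 8<|a 24<|a 40<|c)<|d (a 19<|a 10<|a 36<|a 8<|a 24<|a 32<|c)<|
 d (a 13<|a 6<|a 4<|a 8<|a 16<|a 56<|c)<|d (a 9<|a 34<|a 20<|a 8<|a 16<|a 32<|c)<|b);
 (d (a 61<|a 10<|a 12<|a 8<|a 16<|a 40<|c)<|d (a 43<|a 2<|a 12<|a 8<|a 24<|a 32<|c)<|d (a 29<|a 30<|a 4<|a 8<|a 16<|a 56<|c)<|d (a 27<|a 10<|a 4<|a 8<|a 24<|a 32<|c)<|b))));
 (let b:=(let b:=(let b:=(d (a 57<|a 42<|a 60<|a 8<|a 16<|a 32<|c)<|d (a 33<|a 34<|a 60<|a 8<|a 16<|a 32<|c)<|d (a 41<|a 50<|a 28<|a 8<|a 16<|a 32<|c)<|d (a 17<|a 30<|a 4<|a 8<|a 16<|a 48<|c)<|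
 b);
 (d (a 19<|a 10<|a 4<|a 8<|a 24<|a 32<|c)<|d (a 7<|a 2<|a 4<|a 8<|a 24<|a 40<|c)<|
 d (a 9<|a 50<|a 52<|a 8<|a 16<|a 32<|c)<|d (a 1<|a 18<|a 36<|a 8<|a 16<|a 32<|c)<|b));
 (let b:=(d (a 17<|a 14<|a 4<|a 8<|a 16<|a 48<|c)<|d (a 53<|a 10<|a 12<|a 8<|a 16<|a 40<|c)<|d (a 35<|a 2<|a 12<|a 8<|a 24<|a 32<|c)<|d (a 5<|a 6<|a 4<|a 8<|a 16<|a 56<|c)<|b);
 (d (a 31<|a 22<|a 4<|a 8<|a 24<|a 48<|c)<|d (a 15<|a 54<|a 28<|a 8<|a 24<|a 48<|c)<|d (a 57<|a 58<|a 60<|a 8<|a 16<|a 32<|c)<|d (a 49<|a 42<|a 28<|a 8<|a 16<|a 32<|c)<|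
 b)));
 (let b:=(let b:=(d (a 43<|a 22<|a 12<|a 8<|a 24<|a 56<|c)<|d (a 29<|a 26<|a 44<|a 8<|a 16<|a 40<|c)<|
 d (a 43<|a 58<|a 20<|a 8<|a 24<|a 32<|c)<|d (a 63<|a 30<|a 12<|a 8<|a 24<|a 48<|c)<|b);
 (d (a 9<|a 54<|a 36<|a 8<|a 16<|a 48<|c)<|d (a 27<|a 50<|a 28<|a 8<|a 24<|a 32<|c)<|d (a 59<|a 30<|a 12<|a 8<|a 24<|a 56<|c)<|d (a 11<|a 58<|a 28<|a 8<|a 24<|a 32<|c)<|b));
 (let b:=(d (a 51<|a 30<|a 12<|a 8<|a 24<|a 56<|c)<|d (a 13<|a 18<|a 44<|a 8<|a 16<|a 40<|c)<|d (a 61<|a 26<|a 36<|a 8<|a 16<|a 40<|c)<|d (a 61<|a 34<|a 52<|a 8<|a 16<|a 40<|c)<|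
 b);
 (d (a 35<|a 58<|a 20<|a 8<|a 24<|a 32<|c)<|d (a 55<|a 30<|a 12<|a 8<|a 24<|a 48<|c)<|
 d (a 53<|a 26<|a 36<|a 8<|a 16<|a 40<|c)<|d (a 19<|a 50<|a 28<|a 8<|a 24<|a 32<|c)<|b)))));
 (let b:=(let b:=(let b:=(let b:=(d (a 21<|a 26<|a 44<|a 8<|a 16<|a 40<|c)<|d (a 7<|a 50<|a 28<|a 8<|a 24<|a 40<|c)<|d (a 19<|a 18<|a 36<|a 8<|a 24<|a 32<|c)<|d (a 39<|a 50<|a 20<|a 8<|a 24<|a 40<|c)<|b);
 (d (a 57<|a 22<|a 60<|a 8<|a 16<|a 48<|c)<|d (a 17<|a 62<|a 36<|a 8<|a 16<|a 48<|c)<|d (a 13<|a 62<|a 44<|a 8<|a 16<|a 56<|c)<|d (a 3<|a 26<|a 36<|a 8<|a 24<|a 32<|c)<|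
 b));
 (let b:=(d (a 59<|a 18<|a 12<|a 8<|a 24<|a 32<|c)<|d (a 45<|a 2<|a 36<|a 8<|a 16<|a 40<|c)<|
 d (a 41<|a 62<|a 44<|a 8<|a 16<|a 48<|c)<|d (a 13<|a 2<|a 44<|a 8<|a 16<|a 40<|c)<|b);
 (d (a 29<|a 10<|a 44<|a 8<|a 16<|a 40<|c)<|d (a 41<|a 30<|a 60<|a 8<|a 16<|a 48<|c)<|d (a 31<|a 18<|a 4<|a 8<|a 24<|a 40<|c)<|d (a 15<|a 26<|a 4<|a 8<|a 24<|a 40<|c)<|b)));
 (let b:=(let b:=(d (a 41<|a 14<|a 60<|a 8<|a 16<|a 48<|c)<|d (a 3<|a 26<|a 4<|a 8<|a 24<|a 32<|c)<|d (a 19<|a 18<|a 4<|a 8<|a 24<|a 32<|c)<|d (a 63<|a 18<|a 12<|a 8<|a 24<|a 40<|c)<|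
 b);
 (d (a 51<|a 18<|a 12<|a 8<|a 24<|a 32<|c)<|d (a 5<|a 58<|a 60<|a 8<|a 16<|a 40<|c)<|
 d (a 53<|a 50<|a 52<|a 8<|a 16<|a 40<|c)<|d (a 21<|a 10<|a 44<|a 8<|a 16<|a 40<|c)<|b));
 (let b:=(d (a 37<|a 58<|a 28<|a 8<|a 16<|a 40<|c)<|d (a 41<|a 46<|a 28<|a 8<|a 16<|a 48<|c)<|d (a 53<|a 22<|a 12<|a 8<|a 16<|a 56<|c)<|d (a 37<|a 58<|a 52<|a 8<|a 16<|a 40<|c)<|b);
 (d (a 15<|a 26<|a 44<|a 8<|a 24<|a 40<|c)<|d (a 47<|a 26<|a 36<|a 8<|a 24<|a 40<|c)<|d (a 21<|a 50<|a 20<|a 8<|a 16<|a 40<|c)<|d (a 5<|a 58<|a 20<|a 8<|a 16<|a 40<|c)<|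
 b))));
 (let b:=(let b:=(let b:=(d (a 47<|a 50<|a 60<|a 8<|a 24<|a 40<|c)<|d (a 25<|a 58<|a 52<|a 8<|a 16<|a 32<|c)<|
 d (a 17<|a 26<|a 36<|a 8<|a 16<|a 32<|c)<|d (a 31<|a 18<|a 44<|a 8<|a 24<|a 40<|c)<|b);
 (d (a 53<|a 62<|a 28<|a 8<|a 16<|a 56<|c)<|d (a 31<|a 58<|a 52<|a 8<|a 24<|a 40<|c)<|d (a 49<|a 58<|a 28<|a 8<|a 16<|a 32<|c)<|d (a 9<|a 34<|a 52<|a 8<|a 16<|a 32<|c)<|b));
 (let b:=(d (a 5<|a 22<|a 4<|a 8<|a 16<|a 56<|c)<|d (a 25<|a 58<|a 20<|a 8<|a 16<|a 32<|c)<|d (a 63<|a 58<|a 60<|a 8<|a 24<|a 40<|c)<|d (a 57<|a 10<|a 44<|a 8<|a 16<|a 32<|c)<|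
 b);
 (d (a 55<|a 58<|a 60<|a 8<|a 24<|a 40<|c)<|d (a 49<|a 10<|a 44<|a 8<|a 16<|a 32<|c)<|
 d (a 25<|a 62<|a 20<|a 8<|a 16<|a 48<|c)<|d (a 59<|a 10<|a 44<|a 8<|a 24<|a 32<|c)<|b)));
 (let b:=(let b:=(d (a 33<|a 18<|a 12<|a 8<|a 16<|a 32<|c)<|d (a 51<|a 10<|a 44<|a 8<|a 24<|a 32<|c)<|d (a 29<|a 14<|a 4<|a 8<|a 16<|a 56<|c)<|d (a 25<|a 42<|a 20<|a 8<|a 16<|a 32<|c)<|b);
 (d (a 11<|a 2<|a 4<|a 8<|a 24<|a 32<|c)<|d (a 37<|a 18<|a 12<|a 8<|a 16<|a 40<|c)<|d (a 9<|a 6<|a 4<|a 8<|a 16<|a 48<|c)<|d (a 3<|a 2<|a 36<|a 8<|a 24<|a 32<|c)<|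
 b));
 (d (a 49<|a 58<|a 60<|a 8<|a 16<|a 32<|c)<|d (a 1<|a 34<|a 52<|a 8<|a 16<|a 32<|c)<|d (a 17<|a 58<|a 20<|a 8<|a 16<|a 32<|c)<|d (a 29<|a 10<|a 4<|a 8<|a 16<|a 40<|c)<|d (a 57<|a 58<|a 28<|a 8<|a 16<|a 32<|c)<|
 d (a 1<|a 22<|a 4<|a 8<|a 16<|a 48<|c)<|d (a 45<|a 2<|a 12<|a 8<|a 16<|a 40<|c)<|b)))));
 (let b:=(let b:=(let b:=(let b:=(let b:=(d (a 1<|a 6<|a 4<|a 8<|a 16<|a 48<|c)<|d (a 37<|a 2<|a 12<|a 8<|a 16<|a 40<|c)<|d (a 3<|a 2<|a 4<|a 8<|a 24<|a 32<|c)<|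
 d (a 9<|a 2<|a 36<|a 8<|a 16<|a 32<|c)<|b);
 (d (a 1<|a 50<|a 52<|a 8<|a 16<|a 32<|c)<|
 d (a 17<|a 42<|a 20<|a 8<|a 16<|a 32<|c)<|d (a 21<|a 10<|a 4<|a 8<|a 16<|a 40<|c)<|d (a 33<|a 34<|a 28<|a 8<|a 16<|a 32<|c)<|b));
 (let b:=(d (a 63<|a 58<|a 20<|a 8<|a 24<|a 40<|c)<|d (a 59<|a 50<|a 20<|a 8<|a 24<|a 32<|c)<|d (a 47<|a 22<|a 12<|a 8<|a 24<|a 48<|c)<|d (a 41<|a 2<|a 44<|a 8<|a 16<|a 32<|c)<|b);
 (d (a 45<|a 18<|a 36<|a 8<|a 16<|a 40<|c)<|d (a 31<|a 58<|a 28<|a 8<|a 24<|a 40<|c)<|d (a 15<|a 50<|a 28<|a 8<|a 24<|a 40<|c)<|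
 d (a 43<|a 26<|a 44<|a 8<|a 24<|a 32<|c)<|b)));
 (let b:=(let b:=(d (a 51<|a 18<|a 44<|a 8<|a 24<|a 32<|c)<|
 d (a 23<|a 58<|a 28<|a 8<|a 24<|a 40<|c)<|d (a 11<|a 26<|a 36<|a 8<|a 24<|a 32<|c)<|d (a 59<|a 18<|a 44<|a 8<|a 24<|a 32<|c)<|b);
 (d (a 35<|a 26<|a 44<|a 8<|a 24<|a 32<|c)<|d (a 7<|a 42<|a 52<|a 8<|a 24<|a 40<|c)<|d (a 23<|a 34<|a 52<|a 8<|a 24<|a 40<|c)<|d (a 55<|a 58<|a 20<|a 8<|a 24<|a 40<|c)<|b));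
 (let b:=(d (a 61<|a 50<|a 52<|a 8<|a 16<|a 40<|c)<|d (a 13<|a 58<|a 60<|a 8<|a 16<|a 40<|c)<|d (a 61<|a 10<|a 36<|a 8<|a 16<|a 40<|c)<|
 d (a 57<|a 54<|a 44<|a 8<|a 16<|a 48<|c)<|b);
 (d (a 29<|a 50<|a 60<|a 8<|a 16<|a 40<|c)<|
 d (a 47<|a 2<|a 36<|a 8<|a 24<|a 40<|c)<|d (a 15<|a 2<|a 44<|a 8<|a 24<|a 40<|c)<|d (a 47<|a 26<|a 12<|a 8<|a 24<|a 40<|c)<|b))));
 (let b:=(let b:=(let b:=(d (a 7<|a 26<|a 4<|a 8<|a 24<|a 40<|c)<|d (a 23<|a 18<|a 4<|a 8<|a 24<|a 40<|c)<|d (a 35<|a 26<|a 12<|a 8<|a 24<|a 32<|c)<|d (a 63<|a 10<|a 36<|a 8<|a 24<|a 40<|c)<|b);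
 (d (a 39<|a 26<|a 12<|a 8<|a 24<|a 40<|c)<|d (a 3<|a 58<|a 60<|a 8<|a 24<|a 32<|c)<|d (a 51<|a 50<|a 52<|a 8<|a 24<|a 32<|c)<|
 d (a 21<|a 50<|a 60<|a 8<|a 16<|a 40<|c)<|b));
 (let b:=(d (a 3<|a 34<|a 60<|a 8<|a 24<|a 32<|c)<|
 d (a 19<|a 42<|a 60<|a 8<|a 24<|a 32<|c)<|d (a 53<|a 50<|a 28<|a 8<|a 16<|a 40<|c)<|d (a 19<|a 50<|a 60<|a 8<|a 24<|a 32<|c)<|b);
 (d (a 59<|a 42<|a 52<|a 8<|a 24<|a 32<|c)<|d (a 61<|a 22<|a 12<|a 8<|a 16<|a 56<|c)<|d (a 63<|a 18<|a 36<|a 8<|a 24<|a 40<|c)<|d (a 35<|a 34<|a 52<|a 8<|a 24<|a 32<|c)<|b)));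
 (let b:=(let b:=(d (a 25<|a 10<|a 36<|a 8<|a 16<|a 32<|c)<|d (a 27<|a 42<|a 60<|a 8<|a 24<|a 32<|c)<|d (a 45<|a 30<|a 12<|a 8<|a 16<|a 56<|c)<|
 d (a 11<|a 34<|a 60<|a 8<|a 24<|a 32<|c)<|b);
 (d (a 27<|a 10<|a 36<|a 8<|a 24<|a 32<|c)<|
 d (a 21<|a 30<|a 4<|a 8<|a 16<|a 56<|c)<|d (a 9<|a 50<|a 20<|a 8<|a 16<|a 32<|c)<|d (a 15<|a 50<|a 52<|a 8<|a 24<|a 40<|c)<|b));
 (let b:=(d (a 25<|a 30<|a 4<|a 8<|a 16<|a 48<|c)<|d (a 43<|a 2<|a 44<|a 8<|a 24<|a 32<|c)<|d (a 57<|a 26<|a 12<|a 8<|a 16<|a 32<|c)<|d (a 9<|a 54<|a 20<|a 8<|a 16<|a 48<|c)<|b);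
 (d (a 25<|a 14<|a 4<|a 8<|a 16<|a 48<|c)<|d (a 35<|a 2<|a 44<|a 8<|a 24<|a 32<|c)<|d (a 49<|a 26<|a 12<|a 8<|a 16<|a 32<|c)<|
 d (a 61<|a 26<|a 12<|a 8<|a 16<|a 40<|c)<|b)))));
 (let b:=(let b:=(let b:=(let b:=(d (a 1<|a 50<|a 20<|a 8<|a 16<|a 32<|c)<|
 d (a 13<|a 2<|a 4<|a 8<|a 16<|a 40<|c)<|d (a 5<|a 18<|a 4<|a 8<|a 16<|a 40<|c)<|d (a 53<|a 26<|a 12<|a 8<|a 16<|a 40<|c)<|b);
 (d (a 5<|a 2<|a 4<|a 8<|a 16<|a 40<|c)<|d (a 9<|a 18<|a 4<|a 8<|a 16<|a 32<|c)<|d (a 33<|a 2<|a 44<|a 8<|a 16<|a 32<|c)<|d (a 57<|a 10<|a 12<|a 8<|a 16<|a 32<|c)<|b));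
 (let b:=(d (a 25<|a 26<|a 4<|a 8<|a 16<|a 32<|c)<|d (a 1<|a 2<|a 36<|a 8<|a 16<|a 32<|c)<|d (a 49<|a 10<|a 12<|a 8<|a 16<|a 32<|c)<|
 d (a 1<|a 34<|a 20<|a 8<|a 16<|a 32<|c)<|b);
 (d (a 47<|a 42<|a 60<|a 8<|a 24<|a 40<|c)<|
 d (a 15<|a 42<|a 52<|a 8<|a 24<|a 40<|c)<|d (a 63<|a 34<|a 60<|a 8<|a 24<|a 40<|c)<|d (a 47<|a 50<|a 20<|a 8<|a 24<|a 40<|c)<|b)));
 (let b:=(let b:=(d (a 45<|a 58<|a 52<|a 8<|a 16<|a 40<|c)<|d (a 55<|a 34<|a 60<|a 8<|a 24<|a 40<|c)<|d (a 39<|a 42<|a 60<|a 8<|a 24<|a 40<|c)<|d (a 27<|a 18<|a 36<|a 8<|a 24<|a 32<|c)<|b);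
 (d (a 43<|a 58<|a 52<|a 8<|a 24<|a 32<|c)<|d (a 31<|a 10<|a 44<|a 8<|a 24<|a 40<|c)<|d (a 59<|a 50<|a 52<|a 8<|a 24<|a 32<|c)<|
 d (a 11<|a 58<|a 60<|a 8<|a 24<|a 32<|c)<|b));
 (let b:=(d (a 35<|a 58<|a 52<|a 8<|a 24<|a 32<|c)<|
 d (a 7<|a 2<|a 44<|a 8<|a 24<|a 40<|c)<|d (a 39<|a 2<|a 36<|a 8<|a 24<|a 40<|c)<|d (a 55<|a 18<|a 12<|a 8<|a 24<|a 40<|c)<|b);
 (d (a 7<|a 26<|a 44<|a 8<|a 24<|a 40<|c)<|d (a 51<|a 42<|a 52<|a 8<|a 24<|a 32<|c)<|d (a 23<|a 18<|a 44<|a 8<|a 24<|a 40<|c)<|d (a 23<|a 10<|a 44<|a 8<|a 24<|a 40<|c)<|b))));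
 (let b:=(let b:=(let b:=(d (a 41<|a 30<|a 12<|a 8<|a 16<|a 48<|c)<|d (a 43<|a 34<|a 52<|a 8<|a 24<|a 32<|c)<|d (a 57<|a 22<|a 12<|a 8<|a 16<|a 48<|c)<|
 d (a 55<|a 18<|a 36<|a 8<|a 24<|a 40<|c)<|b);
 (d (a 41<|a 18<|a 12<|a 8<|a 16<|a 32<|c)<|
 d (a 45<|a 58<|a 28<|a 8<|a 16<|a 40<|c)<|d (a 13<|a 58<|a 20<|a 8<|a 16<|a 40<|c)<|d (a 61<|a 50<|a 28<|a 8<|a 16<|a 40<|c)<|b));
 (let b:=(d (a 29<|a 26<|a 4<|a 8<|a 16<|a 40<|c)<|d (a 45<|a 18<|a 12<|a 8<|a 16<|a 40<|c)<|d (a 9<|a 22<|a 4<|a 8<|a 16<|a 48<|c)<|d (a 11<|a 2<|a 36<|a 8<|a 24<|a 32<|c)<|b);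
 (d (a 33<|a 2<|a 12<|a 8<|a 16<|a 32<|c)<|d (a 17<|a 26<|a 4<|a 8<|a 16<|a 32<|c)<|d (a 41<|a 2<|a 12<|a 8<|a 16<|a 32<|c)<|
 d (a 21<|a 26<|a 4<|a 8<|a 16<|a 40<|c)<|b)));
 (let b:=(let b:=(d (a 1<|a 22<|a 48<|a 8<|a 6<|a 4<|c)<|
 d (a 1<|a 48<|a 32<|a 8<|a 18<|a 22<|c)<|d (a 1<|a 32<|a 2<|a 8<|a 38<|a 48<|c)<|d (a 1<|a 18<|a 4<|a 8<|a 16<|a 32<|c)<|b);
 (d (a 55<|a 10<|a 36<|a 8<|a 24<|a 40<|c)<|d (a 27<|a 50<|a 60<|a 8<|a 24<|a 32<|c)<|d (a 31<|a 34<|a 52<|a 8<|a 24<|a 40<|c)<|d (a 1<|a 4<|a 22<|a 8<|a 34<|a 2<|c)<|b));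
 (a (a 1<|a 2<|a 4<|a 8<|a 16<|a 32<|c)<|a (a 9<|a 2<|a 4<|a 8<|a 16<|a 32<|c)<|a (a 17<|a 10<|a 4<|a 8<|a 16<|a 32<|c)<|a (a 25<|a 10<|a 4<|a 8<|a 16<|a 32<|c)<|a (a 13<|a 18<|a 4<|a 8<|a 16<|a 40<|c)<|a (a 29<|a 50<|a 20<|a 8<|a 16<|a 40<|c)<|
 a (a 39<|a 26<|a 36<|a 8<|a 24<|a 40<|c)<|b))))))))
  par := (beta% delta% lq268d48dee6 fun a c _ _ f g _ _ _ _ _ _ _ =>
 (let b:=(let b:=(let b:=(let b:=(let b:=(let b:=(let b:=(g (f 13 483)<|g (f 6 489)<|g (f 12 490)<|g (f 13 490)<|c);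
 (g (f 12 476)<|g (f 13 476)<|
 g (f 6 482)<|g (f 12 483)<|b));
 (let b:=(g (f 6 468)<|g (f 12 469)<|g (f 13 469)<|g (f 6 475)<|b);
 (g (f 13 463)<|g (f 6 464)<|g (f 12 465)<|g (f 13 465)<|b)));
 (let b:=(let b:=(g (f 13 460)<|
 g (f 11 463)<|g (f 6 463)<|g (f 12 463)<|b);
 (g (f 12 458)<|g (f 13 458)<|g (f 6 459)<|g (f 12 460)<|b));
 (g (f 12 453)<|g (f 13 453)<|g (f 6 454)<|g (f 12 455)<|g (f 13 455)<|g (f 11 458)<|g (f 6 458)<|b)));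
 (let b:=(let b:=(let b:=(g (f 12 450)<|g (f 13 450)<|g (f 11 453)<|
 g (f 6 453)<|b);
 (g (f 6 448)<|g (f 12 448)<|g (f 13 448)<|g (f 6 449)<|b));
 (let b:=(g (f 6 13)<|g (f 12 13)<|g (f 13 13)<|g (f 11 448)<|b);
 (g (f 12 12)<|
 g (f 13 12)<|g (f 2 13)<|g (f 11 13)<|b)));
 (let b:=(let b:=(g (f 13 11)<|g (f 2 12)<|g (f 11 12)<|g (f 6 12)<|b);
 (g (f 2 11)<|g (f 11 11)<|g (f 6 11)<|g (f 12 11)<|b));
 (g (f 9 65)<|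
 g (f 2 443)<|g (f 2 10)<|g (f 11 10)<|g (f 6 10)<|g (f 12 10)<|g (f 13 10)<|b))));
 (let b:=(let b:=(let b:=(let b:=(g (f 9 56)<|g (f 6 441)<|g (f 9 138)<|g (f 2 441)<|b);
 (g (f 10 436)<|g (f 6 438)<|g (f 9 51)<|g (f 9 5)<|b));
 (let b:=(g (f 2 422)<|g (f 4 423)<|g (f 9 385)<|g (f 6 436)<|b);
 (g (f 5 414)<|g (f 4 415)<|
 g (f 7 416)<|g (f 4 419)<|b)));
 (let b:=(let b:=(g (f 4 410)<|g (f 7 411)<|g (f 5 412)<|g (f 4 413)<|b);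
 (g (f 7 406)<|g (f 5 407)<|g (f 4 408)<|g (f 4 409)<|b));
 (g (f 5 399)<|g (f 4 400)<|g (f 5 401)<|
 g (f 4 402)<|g (f 5 403)<|g (f 5 404)<|g (f 4 405)<|b)));
 (let b:=(let b:=(let b:=(g (f 4 394)<|g (f 7 398)<|g (f 5 398)<|g (f 4 399)<|b);
 (g (f 1 390)<|g (f 5 391)<|g (f 5 392)<|g (f 5 393)<|b));
 (let b:=(g (f 2 388)<|
 g (f 4 388)<|g (f 5 388)<|g (f 4 389)<|b);
 (g (f 7 386)<|g (f 5 386)<|g (f 7 387)<|g (f 5 387)<|b)));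
 (let b:=(let b:=(g (f 4 370)<|g (f 2 375)<|g (f 7 376)<|g (f 1 385)<|b);
 (g (f 1 367)<|g (f 1 368)<|g (f 7 369)<|g (f 5 369)<|b));
 (g (f 7 357)<|g (f 4 364)<|g (f 1 364)<|g (f 1 365)<|g (f 7 366)<|g (f 5 366)<|
 g (f 4 367)<|b)))));
 (let b:=(let b:=(let b:=(let b:=(let b:=(g (f 4 345)<|g (f 7 346)<|g (f 2 347)<|g (f 2 356)<|b);
 (g (f 2 341)<|g (f 0 342)<|g (f 2 343)<|g (f 7 344)<|b));
 (let b:=(g (f 4 328)<|g (f 2 332)<|g (f 7 333)<|g (f 0 340)<|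
 b);
 (g (f 4 323)<|g (f 1 323)<|g (f 5 325)<|g (f 4 326)<|b)));
 (let b:=(let b:=(g (f 5 319)<|g (f 4 320)<|g (f 1 320)<|g (f 5 322)<|b);
 (g (f 7 295)<|g (f 4 296)<|
 g (f 7 297)<|g (f 2 300)<|b));
 (g (f 2 286)<|g (f 0 289)<|g (f 2 290)<|g (f 0 291)<|g (f 2 292)<|g (f 0 293)<|g (f 2 294)<|b)));
 (let b:=(let b:=(let b:=(g (f 4 282)<|g (f 4 283)<|g (f 7 284)<|g (f 0 285)<|b);
 (g (f 5 278)<|g (f 4 279)<|g (f 0 280)<|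
 g (f 5 281)<|b));
 (let b:=(g (f 0 275)<|g (f 4 276)<|g (f 0 276)<|g (f 2 277)<|b);
 (g (f 7 263)<|g (f 2 269)<|g (f 7 270)<|g (f 7 275)<|b)));
 (let b:=(let b:=(g (f 2 259)<|
 g (f 0 260)<|g (f 2 261)<|g (f 2 262)<|b);
 (g (f 4 254)<|g (f 0 256)<|g (f 2 257)<|g (f 0 258)<|b));
 (g (f 2 249)<|g (f 5 249)<|g (f 4 250)<|g (f 2 251)<|g (f 5 251)<|g (f 4 252)<|g (f 5 253)<|b))));
 (let b:=(let b:=(let b:=(let b:=(g (f 4 226)<|g (f 2 247)<|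
 g (f 5 247)<|g (f 4 248)<|b);
 (g (f 5 220)<|g (f 1 222)<|g (f 7 223)<|g (f 7 225)<|b));
 (let b:=(g (f 0 216)<|g (f 2 217)<|g (f 2 218)<|g (f 7 219)<|b);
 (g (f 1 211)<|g (f 7 212)<|g (f 7 214)<|g (f 4 215)<|b)));
 (let b:=(let b:=(g (f 4 205)<|g (f 4 206)<|g (f 7 207)<|g (f 5 209)<|
 b);
 (g (f 5 201)<|g (f 4 202)<|g (f 0 203)<|g (f 5 204)<|b));
 (g (f 7 196)<|
 g (f 0 196)<|g (f 4 197)<|g (f 0 197)<|g (f 2 198)<|g (f 5 199)<|g (f 4 200)<|b)));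
 (let b:=(let b:=(let b:=(g (f 5 193)<|g (f 4 194)<|g (f 7 195)<|g (f 0 195)<|b);
 (g (f 5 190)<|g (f 4 191)<|g (f 7 192)<|g (f 0 192)<|b));
 (g (f 7 186)<|g (f 0 186)<|
 g (f 7 187)<|g (f 5 187)<|g (f 1 188)<|g (f 7 189)<|g (f 5 189)<|b));
 (let b:=(let b:=(g (f 2 182)<|g (f 2 183)<|g (f 7 184)<|g (f 1 185)<|b);
 (g (f 7 177)<|g (f 0 179)<|g (f 2 180)<|g (f 0 181)<|b));
 (g (f 0 168)<|g (f 0 169)<|g (f 2 170)<|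
 g (f 7 173)<|g (f 0 174)<|g (f 2 175)<|g (f 7 176)<|b))))));
 (let b:=(let b:=(let b:=(let b:=(let b:=(let b:=(g (f 0 165)<|g (f 7 167)<|g (f 0 167)<|g (f 7 168)<|b);
 (g (f 2 163)<|g (f 5 163)<|g (f 4 164)<|g (f 7 165)<|b));
 (let b:=(g (f 0 161)<|
 g (f 5 161)<|g (f 0 162)<|g (f 5 162)<|b);
 (g (f 0 153)<|g (f 0 155)<|g (f 0 160)<|g (f 5 160)<|b)));
 (let b:=(let b:=(g (f 7 149)<|g (f 0 149)<|g (f 1 152)<|g (f 7 153)<|b);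
 (g (f 0 143)<|g (f 2 144)<|g (f 5 146)<|g (f 1 147)<|b));
 (g (f 7 137)<|g (f 1 138)<|g (f 7 139)<|g (f 5 140)<|g (f 1 141)<|g (f 4 142)<|
 g (f 7 143)<|b)));
 (let b:=(let b:=(let b:=(g (f 7 134)<|g (f 1 135)<|g (f 2 136)<|g (f 5 136)<|b);
 (g (f 4 130)<|g (f 1 130)<|g (f 5 131)<|g (f 1 133)<|b));
 (let b:=(g (f 0 127)<|g (f 2 128)<|g (f 2 129)<|g (f 5 129)<|
 b);
 (g (f 1 124)<|g (f 7 125)<|g (f 7 126)<|g (f 0 126)<|b)));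
 (let b:=(let b:=(g (f 5 120)<|g (f 4 121)<|g (f 1 121)<|g (f 5 122)<|b);
 (g (f 5 116)<|g (f 4 117)<|
 g (f 7 118)<|g (f 2 120)<|b));
 (g (f 7 112)<|g (f 5 112)<|g (f 7 113)<|g (f 5 113)<|g (f 1 114)<|g (f 7 115)<|g (f 5 115)<|b))));
 (let b:=(let b:=(let b:=(let b:=(g (f 1 109)<|g (f 1 110)<|g (f 7 111)<|g (f 0 111)<|b);
 (g (f 5 106)<|g (f 1 107)<|g (f 7 108)<|
 g (f 5 108)<|b));
 (let b:=(g (f 1 104)<|g (f 7 105)<|g (f 1 105)<|g (f 7 106)<|b);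
 (g (f 0 101)<|g (f 2 102)<|g (f 3 103)<|g (f 1 103)<|b)));
 (let b:=(let b:=(g (f 7 99)<|
 g (f 0 99)<|g (f 7 100)<|g (f 0 100)<|b);
 (g (f 0 95)<|g (f 1 96)<|g (f 1 97)<|g (f 7 98)<|b));
 (g (f 1 89)<|g (f 7 90)<|g (f 0 90)<|g (f 7 91)<|g (f 7 92)<|g (f 1 94)<|g (f 7 95)<|b)));
 (let b:=(let b:=(let b:=(g (f 5 85)<|g (f 1 86)<|g (f 7 87)<|g (f 1 88)<|b);
 (g (f 1 82)<|g (f 1 83)<|g (f 1 84)<|g (f 0 85)<|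
 b));
 (let b:=(g (f 0 75)<|g (f 7 76)<|g (f 7 78)<|g (f 7 79)<|b);
 (g (f 5 72)<|g (f 1 73)<|g (f 4 74)<|g (f 7 75)<|b)));
 (let b:=(let b:=(g (f 7 68)<|g (f 1 69)<|g (f 2 70)<|g (f 7 71)<|b);
 (g (f 0 66)<|g (f 1 66)<|g (f 2 67)<|g (f 5 67)<|
 b));
 (g (f 1 61)<|g (f 5 61)<|g (f 1 62)<|g (f 2 63)<|g (f 5 63)<|g (f 7 64)<|g (f 1 65)<|b)))));
 (let b:=(let b:=(let b:=(let b:=(let b:=(g (f 4 60)<|g (f 1 60)<|g (f 4 61)<|g (f 0 61)<|b);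
 (g (f 0 58)<|g (f 5 58)<|g (f 2 59)<|
 g (f 5 59)<|b));
 (let b:=(g (f 1 55)<|g (f 1 56)<|g (f 7 57)<|g (f 0 57)<|b);
 (g (f 5 53)<|g (f 2 54)<|g (f 5 54)<|g (f 4 55)<|b)));
 (let b:=(let b:=(g (f 5 50)<|g (f 1 51)<|g (f 7 52)<|g (f 0 53)<|b);
 (g (f 1 48)<|g (f 7 49)<|g (f 1 49)<|
 g (f 7 50)<|b));
 (g (f 1 44)<|g (f 7 45)<|g (f 1 45)<|g (f 2 46)<|g (f 3 46)<|g (f 1 46)<|g (f 1 47)<|b)));
 (let b:=(let b:=(let b:=(g (f 0 43)<|g (f 7 44)<|g (f 3 44)<|g (f 4 44)<|b);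
 (g (f 1 40)<|g (f 1 41)<|
 g (f 1 42)<|g (f 7 43)<|b));
 (let b:=(g (f 7 39)<|g (f 1 39)<|g (f 3 40)<|g (f 8 40)<|b);
 (g (f 1 35)<|g (f 1 36)<|g (f 1 37)<|g (f 7 38)<|b)));
 (let b:=(let b:=(g (f 7 34)<|g (f 1 34)<|g (f 3 35)<|g (f 8 35)<|b);
 (g (f 7 30)<|g (f 7 31)<|
 g (f 2 32)<|g (f 1 32)<|b));
 (g (f 1 23)<|g (f 1 24)<|g (f 5 24)<|g (f 1 25)<|g (f 1 26)<|g (f 5 26)<|g (f 7 28)<|b))));
 (let b:=(let b:=(let b:=(let b:=(g (f 1 20)<|g (f 2 21)<|g (f 5 21)<|g (f 7 22)<|b);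
 (g (f 0 19)<|
 g (f 1 19)<|g (f 5 19)<|g (f 0 20)<|b));
 (let b:=(g (f 0 18)<|g (f 1 18)<|g (f 5 18)<|g (f 4 19)<|b);
 (g (f 0 17)<|g (f 5 17)<|g (f 3 18)<|g (f 4 18)<|b)));
 (let b:=(let b:=(g (f 5 15)<|g (f 2 16)<|g (f 1 16)<|g (f 7 17)<|b);
 (g (f 2 14)<|
 g (f 1 14)<|g (f 7 15)<|g (f 0 15)<|b));
 (g (f 2 9)<|g (f 6 9)<|g (f 7 9)<|g (f 3 9)<|g (f 8 9)<|g (f 4 9)<|g (f 1 9)<|b)));
 (let b:=(let b:=(let b:=(g (f 7 8)<|g (f 3 8)<|g (f 8 8)<|g (f 1 8)<|b);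
 (g (f 3 7)<|g (f 8 7)<|g (f 1 7)<|g (f 2 8)<|b));
 (g (f 5 5)<|g (f 2 6)<|g (f 6 6)<|g (f 7 6)<|
 g (f 3 6)<|g (f 6 7)<|g (f 7 7)<|b));
 (let b:=(let b:=(g (f 6 5)<|g (f 4 5)<|g (f 0 5)<|g (f 1 5)<|b);
 (g (f 0 4)<|g (f 1 4)<|g (f 5 4)<|g (f 2 5)<|b));
 (a (f 0 1)<|a (f 1 2)<|a (f 0 3)<|a (f 1 3)<|a (f 2 4)<|a (f 3 4)<|a (f 4 4)<|b))))))))
  root := (beta% delta% lq268d48dee6 fun a c _ e _ _ _ _ _ _ _ _ _ =>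
 (let b:=(let b:=(let b:=(let b:=(let b:=(let b:=(let b:=(e 12<|e 13<|e 13<|e 13<|c);
 (e 11<|e 11<|e 12<|e 12<|b));
 (let b:=(e 10<|e 10<|e 10<|e 11<|b);
 (e 13<|e 13<|
 e 13<|e 13<|b)));
 (let b:=(let b:=(e 12<|e 13<|e 13<|e 13<|b);
 (e 12<|e 12<|e 12<|e 12<|b));
 (let b:=(e 11<|e 11<|e 12<|e 12<|b);
 (e 11<|e 11<|e 11<|e 11<|b))));
 (let b:=(let b:=(let b:=(e 10<|e 10<|e 10<|e 11<|b);
 (e 10<|e 10<|e 10<|e 10<|b));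
 (let b:=(e 13<|e 13<|e 13<|e 13<|b);
 (e 12<|e 12<|e 12<|e 13<|b)));
 (let b:=(let b:=(e 11<|e 11<|e 12<|e 12<|b);
 (e 10<|e 11<|e 11<|e 11<|
 b));
 (let b:=(e 10<|e 10<|e 10<|e 10<|b);
 (e 4<|e 5<|e 4<|e 5<|b)))));
 (let b:=(let b:=(let b:=(let b:=(e 1<|e 5<|e 3<|e 5<|b);
 (e 6<|e 6<|e 6<|e 6<|b));
 (let b:=(e 6<|e 6<|e 6<|e 6<|b);
 (e 6<|e 6<|e 6<|e 6<|b)));
 (let b:=(let b:=(e 6<|e 6<|e 6<|e 6<|b);
 (e 6<|e 6<|e 6<|e 6<|b));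
 (let b:=(e 6<|e 6<|e 6<|e 6<|b);
 (e 6<|e 6<|e 6<|e 6<|b))));
 (let b:=(let b:=(let b:=(e 6<|e 6<|e 6<|e 6<|b);
 (e 6<|e 6<|e 6<|e 6<|b));
 (let b:=(e 6<|e 6<|e 6<|
 e 6<|b);
 (e 9<|e 9<|e 6<|e 6<|b)));
 (let b:=(let b:=(e 6<|e 6<|e 6<|e 6<|b);
 (e 6<|e 6<|e 6<|e 6<|b));
 (e 9<|e 9<|e 9<|e 9<|e 6<|e 6<|e 6<|b)))));
 (let b:=(let b:=(let b:=(let b:=(let b:=(e 9<|e 9<|e 9<|e 9<|b);
 (e 7<|e 7<|e 9<|e 9<|b));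
 (let b:=(e 6<|e 6<|e 6<|e 6<|b);
 (e 6<|e 6<|e 6<|e 6<|b)));
 (let b:=(let b:=(e 9<|e 9<|e 9<|e 6<|b);
 (e 9<|e 9<|e 9<|e 9<|b));
 (let b:=(e 9<|e 9<|e 9<|e 9<|b);
 (e 9<|e 9<|e 9<|e 9<|b))));
 (let b:=(let b:=(let b:=(e 9<|e 9<|e 9<|e 9<|b);
 (e 9<|e 9<|e 9<|e 9<|
 b));
 (let b:=(e 7<|e 8<|e 8<|e 9<|b);
 (e 7<|e 7<|e 7<|e 7<|b)));
 (let b:=(let b:=(e 6<|e 7<|e 7<|e 7<|b);
 (e 6<|e 6<|e 6<|e 6<|b));
 (let b:=(e 6<|e 6<|e 6<|e 6<|b);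
 (e 3<|e 3<|e 6<|e 6<|b)))));
 (let b:=(let b:=(let b:=(let b:=(e 3<|e 3<|e 3<|e 3<|b);
 (e 2<|e 3<|e 3<|e 3<|b));
 (let b:=(e 2<|e 2<|e 2<|e 2<|b);
 (e 9<|e 9<|e 9<|e 9<|b)));
 (let b:=(let b:=(e 9<|e 9<|e 9<|e 9<|b);
 (e 9<|e 9<|e 9<|e 9<|b));
 (let b:=(e 9<|e 9<|e 9<|e 9<|b);
 (e 9<|e 9<|
 e 9<|e 9<|b))));
 (let b:=(let b:=(let b:=(e 9<|e 9<|e 9<|e 9<|b);
 (e 9<|e 9<|e 9<|e 9<|b));
 (let b:=(e 8<|e 8<|e 9<|e 9<|b);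
 (e 8<|e 8<|e 8<|e 8<|b)));
 (let b:=(let b:=(e 8<|e 8<|e 8<|e 8<|b);
 (e 7<|e 7<|e 7<|e 8<|b));
 (e 6<|e 6<|e 7<|e 7<|e 7<|e 7<|e 7<|b))))));
 (let b:=(let b:=(let b:=(let b:=(let b:=(let b:=(e 6<|e 6<|e 6<|e 6<|b);
 (e 4<|e 6<|e 6<|e 6<|b));
 (let b:=(e 4<|e 4<|e 4<|e 4<|b);
 (e 4<|e 4<|e 4<|e 4<|b)));
 (let b:=(let b:=(e 4<|e 4<|e 4<|e 4<|b);
 (e 4<|e 4<|e 4<|e 4<|b));
 (let b:=(e 3<|e 4<|e 4<|
 e 4<|b);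
 (e 3<|e 3<|e 3<|e 3<|b))));
 (let b:=(let b:=(let b:=(e 3<|e 3<|e 3<|e 3<|b);
 (e 2<|e 2<|e 3<|e 3<|b));
 (let b:=(e 2<|e 2<|e 2<|e 2<|b);
 (e 9<|e 9<|e 1<|e 2<|b)));
 (let b:=(let b:=(e 9<|e 9<|e 9<|e 9<|b);
 (e 9<|e 9<|e 9<|e 9<|b));
 (let b:=(e 9<|e 9<|e 9<|e 9<|b);
 (e 9<|e 9<|e 9<|e 9<|b)))));
 (let b:=(let b:=(let b:=(let b:=(e 9<|e 9<|e 9<|e 9<|b);
 (e 8<|e 8<|e 8<|e 9<|b));
 (let b:=(e 8<|e 8<|e 8<|e 8<|b);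
 (e 8<|e 8<|e 8<|e 8<|b)));
 (let b:=(let b:=(e 7<|
 e 7<|e 7<|e 8<|b);
 (e 7<|e 7<|e 7<|e 7<|b));
 (let b:=(e 6<|e 6<|e 6<|e 7<|b);
 (e 5<|e 5<|e 6<|e 6<|b))));
 (let b:=(let b:=(let b:=(e 4<|e 4<|e 4<|e 5<|b);
 (e 4<|e 4<|e 4<|e 4<|b));
 (let b:=(e 4<|e 4<|e 4<|e 4<|b);
 (e 4<|e 4<|e 4<|e 4<|b)));
 (let b:=(let b:=(e 4<|e 4<|e 4<|e 4<|b);
 (e 3<|e 4<|e 4<|e 4<|b));
 (e 3<|e 3<|e 3<|e 3<|e 3<|e 3<|e 3<|b)))));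
 (let b:=(let b:=(let b:=(let b:=(let b:=(e 2<|e 2<|e 2<|e 3<|b);
 (e 1<|e 2<|e 2<|e 2<|b));
 (let b:=(e 9<|e 9<|e 9<|e 1<|b);
 (e 9<|e 9<|
 e 9<|e 9<|b)));
 (let b:=(let b:=(e 9<|e 9<|e 9<|e 9<|b);
 (e 9<|e 9<|e 9<|e 9<|b));
 (let b:=(e 8<|e 8<|e 8<|e 8<|b);
 (e 8<|e 8<|e 8<|e 8<|b))));
 (let b:=(let b:=(let b:=(e 7<|e 7<|e 7<|e 8<|b);
 (e 7<|e 7<|e 7<|e 7<|b));
 (let b:=(e 6<|e 6<|e 6<|e 7<|b);
 (e 5<|e 5<|e 5<|e 6<|b)));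
 (let b:=(let b:=(e 4<|e 5<|e 5<|e 5<|b);
 (e 4<|e 4<|e 4<|e 4<|b));
 (let b:=(e 4<|e 4<|e 4<|e 4<|b);
 (e 4<|e 4<|e 4<|e 4<|b)))));
 (let b:=(let b:=(let b:=(let b:=(e 3<|e 3<|e 4<|e 4<|b);
 (e 2<|e 3<|e 3<|e 3<|b));
 (let b:=(e 1<|e 1<|e 2<|e 2<|
 b);
 (e 9<|e 9<|e 9<|e 9<|b)));
 (let b:=(let b:=(e 8<|e 9<|e 9<|e 9<|b);
 (e 8<|e 8<|e 8<|e 8<|b));
 (let b:=(e 7<|e 7<|e 7<|e 7<|b);
 (e 6<|e 6<|e 6<|e 7<|b))));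
 (let b:=(let b:=(let b:=(e 5<|e 5<|e 5<|e 6<|b);
 (e 4<|e 5<|e 5<|e 5<|b));
 (let b:=(e 4<|e 4<|e 4<|e 4<|b);
 (e 2<|e 3<|e 3<|e 4<|b)));
 (let b:=(let b:=(e 11<|e 12<|e 13<|e 1<|b);
 (e 7<|e 8<|e 9<|e 10<|b));
 (a 0<|a 1<|a 2<|a 3<|a 4<|a 5<|a 6<|b))))))))

theorem fo_fit : fitC fo.Fo = true := by decide +kernel

theorem fo_root : fitN 4 fo.root = true := by decide +kernel

theorem fo_ok : chkF fo = true := by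
  have h1 : fitN 9 (fo.par.map Prod.fst) = true := by decide +kernel
  have h2 : fitN 9 (fo.par.map Prod.snd) = true := by decide +kernel
  have h3 : fitC (fo.Bw.map wordC) = true := by decide +kernel
  have h : (fo.Bw.all okW && fo.Rw.all okW && ((fo.Bw.map wordC).all fun b => LMat.beqL (mulF b b) oneC) &&
      (List.range fo.Rw.length).all (fun i => LMat.beqL (wordC (fo.Rw.getD i [])) (lkC fo.Fo i) &&
        Nat.beq (lkN 4 fo.root i) i) &&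
      (List.range (fo.Fo.length - fo.Rw.length)).all fun i => frcB (lkN 9 (fo.par.map Prod.fst) i) fun p =>
        Nat.blt p fo.Bw.length && Nat.blt (lkN 9 (fo.par.map Prod.snd) i) (fo.Rw.length + i) &&
          LMat.beqL (mulT (mulF (lkC (fo.Bw.map wordC) p) (lkC fo.Fo (lkN 9 (fo.par.map Prod.snd) i)))
            (lkC (fo.Bw.map wordC) p)) (lkC fo.Fo (fo.Rw.length + i)) &&
          Nat.beq (lkN 4 fo.root (lkN 9 (fo.par.map Prod.snd) i)) (lkN 4 fo.root (fo.Rw.length + i))) = true := by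
    decide +kernel
  delta chkF
  simp only [frcB_eq, ← mulT_eq] at h
  simp only [lkC_eq fo_fit, lkC_eq h3, lkN_eq fo_root, lkN_fst h1, lkN_snd h2, mulF_eq]
  exact h

/-- the positions of the squares of the representatives 5, ..., 9 -/
def sidx : List ℕ := [2,53,17,58,3]

end Cfsg.Agent.H942.S62
end

private theorem dce_14be2bc84e8e : _root_.True := by
  try have : _root_.True := by simp only [_root_.Cfsg.Agent.H942.S62.rowX.eq_2]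
  try have : _root_.True := by simp only [_root_.Cfsg.Agent.H942.S62.wordC.eq_2]
  try have : _root_.True := by simp only [_root_.Cfsg.Agent.H942.S62.memN.eq_1]
  try have : _root_.True := by simp only [_root_.Cfsg.Agent.H942.S62.wordE.eq_def]
  try have : _root_.True := by simp only [_root_.Cfsg.Agent.H942.S62.wordE.eq_2]
  try have : _root_.True := by simp only [_root_.Cfsg.Agent.H942.S62.wordC.eq_def]
  try have : _root_.True := by simp only [_root_.Cfsg.Agent.H942.S62.memN.eq_2]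
  try have : _root_.True := by simp only [_root_.Cfsg.Agent.H942.S62.wordC.eq_1]
  try have : _root_.True := by simp only [_root_.Cfsg.sympTransvection.eq_1]
  try have : _root_.True := by simp only [_root_.Cfsg.Agent.H942.S62.rowX.eq_def]
  try have : _root_.True := by simp only [_root_.Cfsg.Agent.H942.S62.okW.eq_1]
  try have : _root_.True := by simp only [_root_.Cfsg.Agent.H942.S62.tvw.eq_1]
  try have : _root_.True := by simp only [_root_.Cfsg.Agent.H942.S62.rowX.eq_1]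
  try have : _root_.True := by simp only [_root_.Cfsg.Agent.H942.S62.nodupN.eq_2]
  try have : _root_.True := by simp only [_root_.Cfsg.Agent.H942.S62.nodupN.eq_def]
  try have : _root_.True := by simp only [_root_.Cfsg.Agent.H942.S62.nodupN.eq_1]
  try have : _root_.True := by simp only [_root_.Cfsg.Agent.H942.S62.wordE.eq_1]
  try have : _root_.True := by simp only [_root_.Cfsg.Agent.H942.S62.memN.eq_def]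
  exact _root_.True.intro
end

-- part: H942/S62/Num
section
prune_inst 0x1030410024220000000405100200000079000002000008000084000201008000000001000a8000100046260000000000000000a00000000000000400000400000880000420000000200006000006000000000000000000000000000000000004000000000
set_option linter.all false
open scoped Cfsg.Agent.FastGrp
private noncomputable def lq26e5b57e8d {T : Sort _} (f :
    type_of% (@_root_.List.cons.{0}) →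
    type_of% (@_root_.List.nil.{0}) →
    type_of% (@_root_.List.cons.{0} (List Nat)) →
    type_of% (@_root_.Prod.mk.{0, 0}) →
    type_of% (@_root_.List.cons.{0} (Nat)) →
    type_of% (@_root_.List.cons.{0} (Prod Nat Nat)) →
    type_of% (@_root_.List.cons.{0} (Prod Nat (Prod Nat Nat))) → T) : T :=
  f (@_root_.List.cons.{0}) (@_root_.List.nil.{0}) (@_root_.List.cons.{0} (List Nat)) (@_root_.Prod.mk.{0, 0}) (@_root_.List.cons.{0} (Nat)) (@_root_.List.cons.{0} (Prod Nat Nat)) (@_root_.List.cons.{0} (Prod Nat (Prod Nat Nat)))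

-- part: H942/S62/DataA
section
/-!
# Subgroups of `Sp₆(2)`: data
-/

set_option autoImplicit false
set_option maxRecDepth 100000

namespace Cfsg.Agent.H942.S62

/-- a table -/
def tb1 : TD where
  E := (beta% delta% lq26e5b57e8d fun a b c _ _ _ _ =>
 (let d:=(let d:=(let d:=(let d:=(let d:=(let d:=(c (a 35<|a 14<|a 12<|a 8<|a 24<|a 56<|b)<|c (a 63<|a 46<|a 20<|a 8<|a 24<|a 48<|b)<|c (a 59<|a 6<|a 12<|a 8<|a 24<|a 56<|b)<|c (a 39<|a 38<|a 20<|a 8<|a 24<|a 48<|b)<|b);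
 (c (a 29<|a 54<|a 44<|a 8<|a 16<|a 56<|b)<|c (a 41<|a 30<|a 60<|a 8<|a 16<|a 48<|b)<|c (a 13<|a 62<|a 44<|a 8<|a 16<|a 56<|b)<|c (a 57<|a 22<|a 60<|a 8<|a 16<|a 48<|b)<|
 d));
 (let d:=(c (a 27<|a 14<|a 4<|a 8<|a 24<|a 56<|b)<|c (a 15<|a 46<|a 28<|a 8<|a 24<|a 48<|b)<|
 c (a 3<|a 6<|a 4<|a 8<|a 24<|a 56<|b)<|c (a 23<|a 38<|a 28<|a 8<|a 24<|a 48<|b)<|d);
 (c (a 37<|a 54<|a 36<|a 8<|a 16<|a 56<|b)<|c (a 25<|a 30<|a 52<|a 8<|a 16<|a 48<|b)<|c (a 53<|a 62<|a 36<|a 8<|a 16<|a 56<|b)<|c (a 9<|a 22<|a 52<|a 8<|a 16<|a 48<|b)<|d)));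
 (let d:=(let d:=(c (a 43<|a 14<|a 12<|a 8<|a 24<|a 56<|b)<|c (a 55<|a 46<|a 20<|a 8<|a 24<|a 48<|b)<|c (a 51<|a 6<|a 12<|a 8<|a 24<|a 56<|b)<|c (a 47<|a 38<|a 20<|a 8<|a 24<|a 48<|b)<|
 d);
 (c (a 21<|a 54<|a 44<|a 8<|a 16<|a 56<|b)<|c (a 33<|a 30<|a 60<|a 8<|a 16<|a 48<|b)<|
 c (a 5<|a 62<|a 44<|a 8<|a 16<|a 56<|b)<|c (a 49<|a 22<|a 60<|a 8<|a 16<|a 48<|b)<|d));
 (let d:=(c (a 19<|a 14<|a 4<|a 8<|a 24<|a 56<|b)<|c (a 7<|a 46<|a 28<|a 8<|a 24<|a 48<|b)<|c (a 11<|a 6<|a 4<|a 8<|a 24<|a 56<|b)<|c (a 31<|a 38<|a 28<|a 8<|a 24<|a 48<|b)<|d);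
 (c (a 45<|a 54<|a 36<|a 8<|a 16<|a 56<|b)<|c (a 17<|a 30<|a 52<|a 8<|a 16<|a 48<|b)<|c (a 61<|a 62<|a 36<|a 8<|a 16<|a 56<|b)<|c (a 1<|a 22<|a 52<|a 8<|a 16<|a 48<|b)<|
 d))));
 (let d:=(let d:=(let d:=(c (a 23<|a 22<|a 4<|a 8<|a 24<|a 48<|b)<|c (a 3<|a 62<|a 28<|a 8<|a 24<|a 56<|b)<|
 c (a 15<|a 30<|a 4<|a 8<|a 24<|a 48<|b)<|c (a 27<|a 54<|a 28<|a 8<|a 24<|a 56<|b)<|d);
 (c (a 57<|a 38<|a 44<|a 8<|a 16<|a 48<|b)<|c (a 13<|a 6<|a 60<|a 8<|a 16<|a 56<|b)<|c (a 41<|a 46<|a 44<|a 8<|a 16<|a 48<|b)<|c (a 29<|a 14<|a 60<|a 8<|a 16<|a 56<|b)<|d));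
 (let d:=(c (a 39<|a 22<|a 12<|a 8<|a 24<|a 48<|b)<|c (a 59<|a 62<|a 20<|a 8<|a 24<|a 56<|b)<|c (a 63<|a 30<|a 12<|a 8<|a 24<|a 48<|b)<|c (a 35<|a 54<|a 20<|a 8<|a 24<|a 56<|b)<|
 d);
 (c (a 9<|a 38<|a 36<|a 8<|a 16<|a 48<|b)<|c (a 53<|a 6<|a 52<|a 8<|a 16<|a 56<|b)<|
 c (a 25<|a 46<|a 36<|a 8<|a 16<|a 48<|b)<|c (a 37<|a 14<|a 52<|a 8<|a 16<|a 56<|b)<|d)));
 (let d:=(let d:=(c (a 31<|a 22<|a 4<|a 8<|a 24<|a 48<|b)<|c (a 11<|a 62<|a 28<|a 8<|a 24<|a 56<|b)<|c (a 7<|a 30<|a 4<|a 8<|a 24<|a 48<|b)<|c (a 19<|a 54<|a 28<|a 8<|a 24<|a 56<|b)<|d);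
 (c (a 49<|a 38<|a 44<|a 8<|a 16<|a 48<|b)<|c (a 5<|a 6<|a 60<|a 8<|a 16<|a 56<|b)<|c (a 33<|a 46<|a 44<|a 8<|a 16<|a 48<|b)<|c (a 21<|a 14<|a 60<|a 8<|a 16<|a 56<|b)<|
 d));
 (let d:=(c (a 47<|a 22<|a 12<|a 8<|a 24<|a 48<|b)<|c (a 51<|a 62<|a 20<|a 8<|a 24<|a 56<|b)<|
 c (a 55<|a 30<|a 12<|a 8<|a 24<|a 48<|b)<|c (a 43<|a 54<|a 20<|a 8<|a 24<|a 56<|b)<|d);
 (c (a 1<|a 38<|a 36<|a 8<|a 16<|a 48<|b)<|c (a 61<|a 6<|a 52<|a 8<|a 16<|a 56<|b)<|c (a 17<|a 46<|a 36<|a 8<|a 16<|a 48<|b)<|c (a 45<|a 14<|a 52<|a 8<|a 16<|a 56<|b)<|d)))));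
 (let d:=(let d:=(let d:=(let d:=(c (a 51<|a 30<|a 12<|a 8<|a 24<|a 56<|b)<|c (a 47<|a 62<|a 20<|a 8<|a 24<|a 48<|b)<|c (a 43<|a 22<|a 12<|a 8<|a 24<|a 56<|b)<|c (a 55<|a 54<|a 20<|a 8<|a 24<|a 48<|b)<|
 d);
 (c (a 29<|a 38<|a 44<|a 8<|a 16<|a 56<|b)<|c (a 41<|a 14<|a 60<|a 8<|a 16<|a 48<|b)<|
 c (a 13<|a 46<|a 44<|a 8<|a 16<|a 56<|b)<|c (a 57<|a 6<|a 60<|a 8<|a 16<|a 48<|b)<|d));
 (let d:=(c (a 11<|a 30<|a 4<|a 8<|a 24<|a 56<|b)<|c (a 31<|a 62<|a 28<|a 8<|a 24<|a 48<|b)<|c (a 19<|a 22<|a 4<|a 8<|a 24<|a 56<|b)<|c (a 7<|a 54<|a 28<|a 8<|a 24<|a 48<|b)<|d);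
 (c (a 37<|a 38<|a 36<|a 8<|a 16<|a 56<|b)<|c (a 25<|a 14<|a 52<|a 8<|a 16<|a 48<|b)<|c (a 53<|a 46<|a 36<|a 8<|a 16<|a 56<|b)<|c (a 9<|a 6<|a 52<|a 8<|a 16<|a 48<|b)<|
 d)));
 (let d:=(let d:=(c (a 59<|a 30<|a 12<|a 8<|a 24<|a 56<|b)<|c (a 39<|a 62<|a 20<|a 8<|a 24<|a 48<|b)<|
 c (a 35<|a 22<|a 12<|a 8<|a 24<|a 56<|b)<|c (a 63<|a 54<|a 20<|a 8<|a 24<|a 48<|b)<|d);
 (c (a 21<|a 38<|a 44<|a 8<|a 16<|a 56<|b)<|c (a 33<|a 14<|a 60<|a 8<|a 16<|a 48<|b)<|c (a 5<|a 46<|a 44<|a 8<|a 16<|a 56<|b)<|c (a 49<|a 6<|a 60<|a 8<|a 16<|a 48<|b)<|d));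
 (let d:=(c (a 3<|a 30<|a 4<|a 8<|a 24<|a 56<|b)<|c (a 23<|a 62<|a 28<|a 8<|a 24<|a 48<|b)<|c (a 27<|a 22<|a 4<|a 8<|a 24<|a 56<|b)<|c (a 15<|a 54<|a 28<|a 8<|a 24<|a 48<|b)<|
 d);
 (c (a 45<|a 38<|a 36<|a 8<|a 16<|a 56<|b)<|c (a 17<|a 14<|a 52<|a 8<|a 16<|a 48<|b)<|
 c (a 61<|a 46<|a 36<|a 8<|a 16<|a 56<|b)<|c (a 1<|a 6<|a 52<|a 8<|a 16<|a 48<|b)<|d))));
 (let d:=(let d:=(let d:=(c (a 7<|a 6<|a 4<|a 8<|a 24<|a 48<|b)<|c (a 19<|a 46<|a 28<|a 8<|a 24<|a 56<|b)<|c (a 31<|a 14<|a 4<|a 8<|a 24<|a 48<|b)<|c (a 11<|a 38<|a 28<|a 8<|a 24<|a 56<|b)<|d);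
 (c (a 57<|a 54<|a 44<|a 8<|a 16<|a 48<|b)<|c (a 13<|a 22<|a 60<|a 8<|a 16<|a 56<|b)<|c (a 41<|a 62<|a 44<|a 8<|a 16<|a 48<|b)<|c (a 29<|a 30<|a 60<|a 8<|a 16<|a 56<|b)<|
 d));
 (let d:=(c (a 55<|a 6<|a 12<|a 8<|a 24<|a 48<|b)<|c (a 43<|a 46<|a 20<|a 8<|a 24<|a 56<|b)<|
 c (a 47<|a 14<|a 12<|a 8<|a 24<|a 48<|b)<|c (a 51<|a 38<|a 20<|a 8<|a 24<|a 56<|b)<|d);
 (c (a 9<|a 54<|a 36<|a 8<|a 16<|a 48<|b)<|c (a 53<|a 22<|a 52<|a 8<|a 16<|a 56<|b)<|c (a 25<|a 62<|a 36<|a 8<|a 16<|a 48<|b)<|c (a 37<|a 30<|a 52<|a 8<|a 16<|a 56<|b)<|d)));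
 (let d:=(let d:=(c (a 15<|a 6<|a 4<|a 8<|a 24<|a 48<|b)<|c (a 27<|a 46<|a 28<|a 8<|a 24<|a 56<|b)<|c (a 23<|a 14<|a 4<|a 8<|a 24<|a 48<|b)<|c (a 3<|a 38<|a 28<|a 8<|a 24<|a 56<|b)<|
 d);
 (c (a 49<|a 54<|a 44<|a 8<|a 16<|a 48<|b)<|c (a 5<|a 22<|a 60<|a 8<|a 16<|a 56<|b)<|
 c (a 33<|a 62<|a 44<|a 8<|a 16<|a 48<|b)<|c (a 21<|a 30<|a 60<|a 8<|a 16<|a 56<|b)<|d));
 (let d:=(c (a 63<|a 6<|a 12<|a 8<|a 24<|a 48<|b)<|c (a 35<|a 46<|a 20<|a 8<|a 24<|a 56<|b)<|c (a 39<|a 14<|a 12<|a 8<|a 24<|a 48<|b)<|c (a 59<|a 38<|a 20<|a 8<|a 24<|a 56<|b)<|d);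
 (c (a 1<|a 54<|a 36<|a 8<|a 16<|a 48<|b)<|c (a 61<|a 22<|a 52<|a 8<|a 16<|a 56<|b)<|c (a 17<|a 62<|a 36<|a 8<|a 16<|a 48<|b)<|c (a 45<|a 30<|a 52<|a 8<|a 16<|a 56<|b)<|
 d))))));
 (let d:=(let d:=(let d:=(let d:=(let d:=(c (a 39<|a 42<|a 60<|a 8<|a 24<|a 40<|b)<|c (a 11<|a 26<|a 36<|a 8<|a 24<|a 32<|b)<|
 c (a 63<|a 34<|a 60<|a 8<|a 24<|a 40<|b)<|c (a 19<|a 18<|a 36<|a 8<|a 24<|a 32<|b)<|d);
 (c (a 45<|a 2<|a 12<|a 8<|a 16<|a 40<|b)<|c (a 57<|a 58<|a 28<|a 8<|a 16<|a 32<|b)<|c (a 61<|a 10<|a 12<|a 8<|a 16<|a 40<|b)<|c (a 41<|a 50<|a 28<|a 8<|a 16<|a 32<|b)<|d));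
 (let d:=(c (a 15<|a 42<|a 52<|a 8<|a 24<|a 40<|b)<|c (a 43<|a 26<|a 44<|a 8<|a 24<|a 32<|b)<|c (a 23<|a 34<|a 52<|a 8<|a 24<|a 40<|b)<|c (a 51<|a 18<|a 44<|a 8<|a 24<|a 32<|b)<|
 d);
 (c (a 5<|a 2<|a 4<|a 8<|a 16<|a 40<|b)<|c (a 25<|a 58<|a 20<|a 8<|a 16<|a 32<|b)<|
 c (a 21<|a 10<|a 4<|a 8<|a 16<|a 40<|b)<|c (a 9<|a 50<|a 20<|a 8<|a 16<|a 32<|b)<|d)));
 (let d:=(let d:=(c (a 47<|a 42<|a 60<|a 8<|a 24<|a 40<|b)<|c (a 3<|a 26<|a 36<|a 8<|a 24<|a 32<|b)<|c (a 55<|a 34<|a 60<|a 8<|a 24<|a 40<|b)<|c (a 27<|a 18<|a 36<|a 8<|a 24<|a 32<|b)<|d);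
 (c (a 37<|a 2<|a 12<|a 8<|a 16<|a 40<|b)<|c (a 49<|a 58<|a 28<|a 8<|a 16<|a 32<|b)<|c (a 53<|a 10<|a 12<|a 8<|a 16<|a 40<|b)<|c (a 33<|a 50<|a 28<|a 8<|a 16<|a 32<|b)<|
 d));
 (let d:=(c (a 7<|a 42<|a 52<|a 8<|a 24<|a 40<|b)<|c (a 35<|a 26<|a 44<|a 8<|a 24<|a 32<|b)<|
 c (a 31<|a 34<|a 52<|a 8<|a 24<|a 40<|b)<|c (a 59<|a 18<|a 44<|a 8<|a 24<|a 32<|b)<|d);
 (c (a 13<|a 2<|a 4<|a 8<|a 16<|a 40<|b)<|c (a 17<|a 58<|a 20<|a 8<|a 16<|a 32<|b)<|c (a 29<|a 10<|a 4<|a 8<|a 16<|a 40<|b)<|c (a 1<|a 50<|a 20<|a 8<|a 16<|a 32<|b)<|d))));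
 (let d:=(let d:=(let d:=(c (a 51<|a 50<|a 52<|a 8<|a 24<|a 32<|b)<|c (a 23<|a 10<|a 44<|a 8<|a 24<|a 40<|b)<|c (a 43<|a 58<|a 52<|a 8<|a 24<|a 32<|b)<|c (a 15<|a 2<|a 44<|a 8<|a 24<|a 40<|b)<|
 d);
 (c (a 41<|a 18<|a 12<|a 8<|a 16<|a 32<|b)<|c (a 61<|a 34<|a 28<|a 8<|a 16<|a 40<|b)<|
 c (a 57<|a 26<|a 12<|a 8<|a 16<|a 32<|b)<|c (a 45<|a 42<|a 28<|a 8<|a 16<|a 40<|b)<|d));
 (let d:=(c (a 19<|a 50<|a 60<|a 8<|a 24<|a 32<|b)<|c (a 63<|a 10<|a 36<|a 8<|a 24<|a 40<|b)<|c (a 11<|a 58<|a 60<|a 8<|a 24<|a 32<|b)<|c (a 39<|a 2<|a 36<|a 8<|a 24<|a 40<|b)<|d);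
 (c (a 9<|a 18<|a 4<|a 8<|a 16<|a 32<|b)<|c (a 21<|a 34<|a 20<|a 8<|a 16<|a 40<|b)<|c (a 25<|a 26<|a 4<|a 8<|a 16<|a 32<|b)<|c (a 5<|a 42<|a 20<|a 8<|a 16<|a 40<|b)<|
 d)));
 (let d:=(let d:=(c (a 59<|a 50<|a 52<|a 8<|a 24<|a 32<|b)<|c (a 31<|a 10<|a 44<|a 8<|a 24<|a 40<|b)<|
 c (a 35<|a 58<|a 52<|a 8<|a 24<|a 32<|b)<|c (a 7<|a 2<|a 44<|a 8<|a 24<|a 40<|b)<|d);
 (c (a 33<|a 18<|a 12<|a 8<|a 16<|a 32<|b)<|c (a 53<|a 34<|a 28<|a 8<|a 16<|a 40<|b)<|c (a 49<|a 26<|a 12<|a 8<|a 16<|a 32<|b)<|c (a 37<|a 42<|a 28<|a 8<|a 16<|a 40<|b)<|d));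
 (let d:=(c (a 27<|a 50<|a 60<|a 8<|a 24<|a 32<|b)<|c (a 55<|a 10<|a 36<|a 8<|a 24<|a 40<|b)<|c (a 3<|a 58<|a 60<|a 8<|a 24<|a 32<|b)<|c (a 47<|a 2<|a 36<|a 8<|a 24<|a 40<|b)<|
 d);
 (c (a 1<|a 18<|a 4<|a 8<|a 16<|a 32<|b)<|c (a 29<|a 34<|a 20<|a 8<|a 16<|a 40<|b)<|
 c (a 17<|a 26<|a 4<|a 8<|a 16<|a 32<|b)<|c (a 13<|a 42<|a 20<|a 8<|a 16<|a 40<|b)<|d)))));
 (let d:=(let d:=(let d:=(let d:=(c (a 55<|a 58<|a 60<|a 8<|a 24<|a 40<|b)<|c (a 27<|a 10<|a 36<|a 8<|a 24<|a 32<|b)<|c (a 47<|a 50<|a 60<|a 8<|a 24<|a 40<|b)<|c (a 3<|a 2<|a 36<|a 8<|a 24<|a 32<|b)<|d);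
 (c (a 45<|a 18<|a 12<|a 8<|a 16<|a 40<|b)<|c (a 57<|a 42<|a 28<|a 8<|a 16<|a 32<|b)<|c (a 61<|a 26<|a 12<|a 8<|a 16<|a 40<|b)<|c (a 41<|a 34<|a 28<|a 8<|a 16<|a 32<|b)<|
 d));
 (let d:=(c (a 31<|a 58<|a 52<|a 8<|a 24<|a 40<|b)<|c (a 59<|a 10<|a 44<|a 8<|a 24<|a 32<|b)<|
 c (a 7<|a 50<|a 52<|a 8<|a 24<|a 40<|b)<|c (a 35<|a 2<|a 44<|a 8<|a 24<|a 32<|b)<|d);
 (c (a 5<|a 18<|a 4<|a 8<|a 16<|a 40<|b)<|c (a 25<|a 42<|a 20<|a 8<|a 16<|a 32<|b)<|c (a 21<|a 26<|a 4<|a 8<|a 16<|a 40<|b)<|c (a 9<|a 34<|a 20<|a 8<|a 16<|a 32<|b)<|d)));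
 (let d:=(let d:=(c (a 63<|a 58<|a 60<|a 8<|a 24<|a 40<|b)<|c (a 19<|a 10<|a 36<|a 8<|a 24<|a 32<|b)<|c (a 39<|a 50<|a 60<|a 8<|a 24<|a 40<|b)<|c (a 11<|a 2<|a 36<|a 8<|a 24<|a 32<|b)<|
 d);
 (c (a 37<|a 18<|a 12<|a 8<|a 16<|a 40<|b)<|c (a 49<|a 42<|a 28<|a 8<|a 16<|a 32<|b)<|
 c (a 53<|a 26<|a 12<|a 8<|a 16<|a 40<|b)<|c (a 33<|a 34<|a 28<|a 8<|a 16<|a 32<|b)<|d));
 (let d:=(c (a 23<|a 58<|a 52<|a 8<|a 24<|a 40<|b)<|c (a 51<|a 10<|a 44<|a 8<|a 24<|a 32<|b)<|c (a 15<|a 50<|a 52<|a 8<|a 24<|a 40<|b)<|c (a 43<|a 2<|a 44<|a 8<|a 24<|a 32<|b)<|d);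
 (c (a 13<|a 18<|a 4<|a 8<|a 16<|a 40<|b)<|c (a 17<|a 42<|a 20<|a 8<|a 16<|a 32<|b)<|c (a 29<|a 26<|a 4<|a 8<|a 16<|a 40<|b)<|c (a 1<|a 34<|a 20<|a 8<|a 16<|a 32<|b)<|
 d))));
 (let d:=(let d:=(let d:=(c (a 35<|a 34<|a 52<|a 8<|a 24<|a 32<|b)<|c (a 7<|a 26<|a 44<|a 8<|a 24<|a 40<|b)<|
 c (a 59<|a 42<|a 52<|a 8<|a 24<|a 32<|b)<|c (a 31<|a 18<|a 44<|a 8<|a 24<|a 40<|b)<|d);
 (c (a 41<|a 2<|a 12<|a 8<|a 16<|a 32<|b)<|c (a 61<|a 50<|a 28<|a 8<|a 16<|a 40<|b)<|c (a 57<|a 10<|a 12<|a 8<|a 16<|a 32<|b)<|c (a 45<|a 58<|a 28<|a 8<|a 16<|a 40<|b)<|d));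
 (let d:=(c (a 3<|a 34<|a 60<|a 8<|a 24<|a 32<|b)<|c (a 47<|a 26<|a 36<|a 8<|a 24<|a 40<|b)<|c (a 27<|a 42<|a 60<|a 8<|a 24<|a 32<|b)<|c (a 55<|a 18<|a 36<|a 8<|a 24<|a 40<|b)<|
 d);
 (c (a 9<|a 2<|a 4<|a 8<|a 16<|a 32<|b)<|c (a 21<|a 50<|a 20<|a 8<|a 16<|a 40<|b)<|
 c (a 25<|a 10<|a 4<|a 8<|a 16<|a 32<|b)<|c (a 5<|a 58<|a 20<|a 8<|a 16<|a 40<|b)<|d)));
 (let d:=(let d:=(c (a 43<|a 34<|a 52<|a 8<|a 24<|a 32<|b)<|c (a 15<|a 26<|a 44<|a 8<|a 24<|a 40<|b)<|c (a 51<|a 42<|a 52<|a 8<|a 24<|a 32<|b)<|c (a 23<|a 18<|a 44<|a 8<|a 24<|a 40<|b)<|d);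
 (c (a 33<|a 2<|a 12<|a 8<|a 16<|a 32<|b)<|c (a 53<|a 50<|a 28<|a 8<|a 16<|a 40<|b)<|c (a 49<|a 10<|a 12<|a 8<|a 16<|a 32<|b)<|c (a 37<|a 58<|a 28<|a 8<|a 16<|a 40<|b)<|
 d));
 (let d:=(c (a 11<|a 34<|a 60<|a 8<|a 24<|a 32<|b)<|c (a 39<|a 26<|a 36<|a 8<|a 24<|a 40<|b)<|
 c (a 19<|a 42<|a 60<|a 8<|a 24<|a 32<|b)<|c (a 63<|a 18<|a 36<|a 8<|a 24<|a 40<|b)<|d);
 (a (a 1<|a 2<|a 4<|a 8<|a 16<|a 32<|b)<|a (a 29<|a 50<|a 20<|a 8<|a 16<|a 40<|b)<|a (a 17<|a 10<|a 4<|a 8<|a 16<|a 32<|b)<|a (a 13<|a 58<|a 20<|a 8<|a 16<|a 40<|b)<|d))))))))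
  Gw := (beta% delta% lq26e5b57e8d fun a b _ _ _ _ _ =>
 (a (a 4<|a 6<|a 34<|a 35<|b)<|a (a 2<|a 6<|a 16<|a 17<|b)<|a (a 1<|b)<|a (a 2<|a 32<|a 33<|b)<|a (a 2<|b)<|a (a 4<|a 36<|a 38<|b)<|b))
  T := (beta% delta% lq26e5b57e8d fun a b c _ _ _ _ =>
 (let d:=(let d:=(let d:=(let d:=(let d:=(let d:=(c (a 229<|a 243<|a 236<|a 198<|a 188<|a 29<|b)<|c (a 230<|a 240<|a 237<|a 199<|a 189<|a 30<|b)<|c (a 231<|a 241<|a 238<|a 196<|a 190<|a 31<|b)<|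
 c (a 228<|a 242<|a 239<|a 197<|a 191<|a 28<|b)<|b);
 (c (a 225<|a 255<|a 232<|a 194<|a 184<|a 25<|b)<|c (a 226<|a 252<|a 233<|a 195<|a 185<|a 26<|b)<|c (a 227<|a 253<|a 234<|a 192<|a 186<|a 27<|b)<|
 c (a 224<|a 254<|a 235<|a 193<|a 187<|a 24<|b)<|d));
 (let d:=(c (a 237<|a 251<|a 228<|a 206<|a 180<|a 21<|b)<|c (a 238<|a 248<|a 229<|a 207<|a 181<|a 22<|b)<|c (a 239<|a 249<|a 230<|a 204<|a 182<|a 23<|b)<|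
 c (a 236<|a 250<|a 231<|a 205<|a 183<|a 20<|b)<|d);
 (c (a 233<|a 247<|a 224<|a 202<|a 176<|a 17<|b)<|c (a 234<|a 244<|a 225<|a 203<|a 177<|a 18<|b)<|c (a 235<|a 245<|a 226<|a 200<|a 178<|a 19<|b)<|
 c (a 232<|a 246<|a 227<|a 201<|a 179<|a 16<|b)<|d)));
 (let d:=(let d:=(c (a 245<|a 227<|a 252<|a 214<|a 172<|a 13<|b)<|c (a 246<|a 224<|a 253<|a 215<|a 173<|a 14<|b)<|c (a 247<|a 225<|a 254<|a 212<|a 174<|a 15<|b)<|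
 c (a 244<|a 226<|a 255<|a 213<|a 175<|a 12<|b)<|d);
 (c (a 241<|a 239<|a 248<|a 210<|a 168<|a 9<|b)<|c (a 242<|a 236<|a 249<|a 211<|a 169<|a 10<|b)<|c (a 243<|a 237<|a 250<|a 208<|a 170<|a 11<|b)<|
 c (a 240<|a 238<|a 251<|a 209<|a 171<|a 8<|b)<|d));
 (let d:=(c (a 253<|a 235<|a 244<|a 222<|a 164<|a 5<|b)<|c (a 254<|a 232<|a 245<|a 223<|a 165<|a 6<|b)<|c (a 255<|a 233<|a 246<|a 220<|a 166<|a 7<|b)<|
 c (a 252<|a 234<|a 247<|a 221<|a 167<|a 4<|b)<|d);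
 (c (a 249<|a 231<|a 240<|a 218<|a 160<|a 1<|b)<|c (a 250<|a 228<|a 241<|a 219<|a 161<|a 2<|b)<|c (a 251<|a 229<|a 242<|a 216<|a 162<|a 3<|b)<|
 c (a 248<|a 230<|a 243<|a 217<|a 163<|a 0<|b)<|d))));
 (let d:=(let d:=(let d:=(c (a 199<|a 217<|a 204<|a 230<|a 156<|a 63<|b)<|c (a 196<|a 218<|a 205<|a 231<|a 157<|a 60<|b)<|c (a 197<|a 219<|a 206<|a 228<|a 158<|a 61<|b)<|
 c (a 198<|a 216<|a 207<|a 229<|a 159<|a 62<|b)<|d);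
 (c (a 195<|a 213<|a 200<|a 226<|a 152<|a 59<|b)<|c (a 192<|a 214<|a 201<|a 227<|a 153<|a 56<|b)<|c (a 193<|a 215<|a 202<|a 224<|a 154<|a 57<|b)<|
 c (a 194<|a 212<|a 203<|a 225<|a 155<|a 58<|b)<|d));
 (let d:=(c (a 207<|a 209<|a 196<|a 238<|a 148<|a 55<|b)<|c (a 204<|a 210<|a 197<|a 239<|a 149<|a 52<|b)<|c (a 205<|a 211<|a 198<|a 236<|a 150<|a 53<|b)<|
 c (a 206<|a 208<|a 199<|a 237<|a 151<|a 54<|b)<|d);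
 (c (a 203<|a 221<|a 192<|a 234<|a 144<|a 51<|b)<|c (a 200<|a 222<|a 193<|a 235<|a 145<|a 48<|b)<|c (a 201<|a 223<|a 194<|a 232<|a 146<|a 49<|b)<|
 c (a 202<|a 220<|a 195<|a 233<|a 147<|a 50<|b)<|d)));
 (let d:=(let d:=(c (a 215<|a 201<|a 220<|a 246<|a 140<|a 47<|b)<|c (a 212<|a 202<|a 221<|a 247<|a 141<|a 44<|b)<|c (a 213<|a 203<|a 222<|a 244<|a 142<|a 45<|b)<|
 c (a 214<|a 200<|a 223<|a 245<|a 143<|a 46<|b)<|d);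
 (c (a 211<|a 197<|a 216<|a 242<|a 136<|a 43<|b)<|c (a 208<|a 198<|a 217<|a 243<|a 137<|a 40<|b)<|c (a 209<|a 199<|a 218<|a 240<|a 138<|a 41<|b)<|
 c (a 210<|a 196<|a 219<|a 241<|a 139<|a 42<|b)<|d));
 (let d:=(c (a 223<|a 193<|a 212<|a 254<|a 132<|a 39<|b)<|c (a 220<|a 194<|a 213<|a 255<|a 133<|a 36<|b)<|c (a 221<|a 195<|a 214<|a 252<|a 134<|a 37<|b)<|
 c (a 222<|a 192<|a 215<|a 253<|a 135<|a 38<|b)<|d);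
 (c (a 219<|a 205<|a 208<|a 250<|a 128<|a 35<|b)<|c (a 216<|a 206<|a 209<|a 251<|a 129<|a 32<|b)<|c (a 217<|a 207<|a 210<|a 248<|a 130<|a 33<|b)<|
 c (a 218<|a 204<|a 211<|a 249<|a 131<|a 34<|b)<|d)))));
 (let d:=(let d:=(let d:=(let d:=(c (a 165<|a 161<|a 172<|a 134<|a 252<|a 93<|b)<|c (a 166<|a 162<|a 173<|a 135<|a 253<|a 94<|b)<|c (a 167<|a 163<|a 174<|a 132<|a 254<|a 95<|b)<|
 c (a 164<|a 160<|a 175<|a 133<|a 255<|a 92<|b)<|d);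
 (c (a 161<|a 173<|a 168<|a 130<|a 248<|a 89<|b)<|c (a 162<|a 174<|a 169<|a 131<|a 249<|a 90<|b)<|c (a 163<|a 175<|a 170<|a 128<|a 250<|a 91<|b)<|
 c (a 160<|a 172<|a 171<|a 129<|a 251<|a 88<|b)<|d));
 (let d:=(c (a 173<|a 169<|a 164<|a 142<|a 244<|a 85<|b)<|c (a 174<|a 170<|a 165<|a 143<|a 245<|a 86<|b)<|c (a 175<|a 171<|a 166<|a 140<|a 246<|a 87<|b)<|
 c (a 172<|a 168<|a 167<|a 141<|a 247<|a 84<|b)<|d);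
 (c (a 169<|a 165<|a 160<|a 138<|a 240<|a 81<|b)<|c (a 170<|a 166<|a 161<|a 139<|a 241<|a 82<|b)<|c (a 171<|a 167<|a 162<|a 136<|a 242<|a 83<|b)<|
 c (a 168<|a 164<|a 163<|a 137<|a 243<|a 80<|b)<|d)));
 (let d:=(let d:=(c (a 181<|a 177<|a 188<|a 150<|a 236<|a 77<|b)<|c (a 182<|a 178<|a 189<|a 151<|a 237<|a 78<|b)<|c (a 183<|a 179<|a 190<|a 148<|a 238<|a 79<|b)<|
 c (a 180<|a 176<|a 191<|a 149<|a 239<|a 76<|b)<|d);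
 (c (a 177<|a 189<|a 184<|a 146<|a 232<|a 73<|b)<|c (a 178<|a 190<|a 185<|a 147<|a 233<|a 74<|b)<|c (a 179<|a 191<|a 186<|a 144<|a 234<|a 75<|b)<|
 c (a 176<|a 188<|a 187<|a 145<|a 235<|a 72<|b)<|d));
 (let d:=(c (a 189<|a 185<|a 180<|a 158<|a 228<|a 69<|b)<|c (a 190<|a 186<|a 181<|a 159<|a 229<|a 70<|b)<|c (a 191<|a 187<|a 182<|a 156<|a 230<|a 71<|b)<|
 c (a 188<|a 184<|a 183<|a 157<|a 231<|a 68<|b)<|d);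
 (c (a 185<|a 181<|a 176<|a 154<|a 224<|a 65<|b)<|c (a 186<|a 182<|a 177<|a 155<|a 225<|a 66<|b)<|c (a 187<|a 183<|a 178<|a 152<|a 226<|a 67<|b)<|
 c (a 184<|a 180<|a 179<|a 153<|a 227<|a 64<|b)<|d))));
 (let d:=(let d:=(let d:=(c (a 135<|a 139<|a 140<|a 166<|a 220<|a 127<|b)<|c (a 132<|a 136<|a 141<|a 167<|a 221<|a 124<|b)<|c (a 133<|a 137<|a 142<|a 164<|a 222<|a 125<|b)<|
 c (a 134<|a 138<|a 143<|a 165<|a 223<|a 126<|b)<|d);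
 (c (a 131<|a 135<|a 136<|a 162<|a 216<|a 123<|b)<|c (a 128<|a 132<|a 137<|a 163<|a 217<|a 120<|b)<|c (a 129<|a 133<|a 138<|a 160<|a 218<|a 121<|b)<|
 c (a 130<|a 134<|a 139<|a 161<|a 219<|a 122<|b)<|d));
 (let d:=(c (a 143<|a 131<|a 132<|a 174<|a 212<|a 119<|b)<|c (a 140<|a 128<|a 133<|a 175<|a 213<|a 116<|b)<|c (a 141<|a 129<|a 134<|a 172<|a 214<|a 117<|b)<|
 c (a 142<|a 130<|a 135<|a 173<|a 215<|a 118<|b)<|d);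
 (c (a 139<|a 143<|a 128<|a 170<|a 208<|a 115<|b)<|c (a 136<|a 140<|a 129<|a 171<|a 209<|a 112<|b)<|c (a 137<|a 141<|a 130<|a 168<|a 210<|a 113<|b)<|
 c (a 138<|a 142<|a 131<|a 169<|a 211<|a 114<|b)<|d)));
 (let d:=(let d:=(c (a 151<|a 155<|a 156<|a 182<|a 204<|a 111<|b)<|c (a 148<|a 152<|a 157<|a 183<|a 205<|a 108<|b)<|c (a 149<|a 153<|a 158<|a 180<|a 206<|a 109<|b)<|
 c (a 150<|a 154<|a 159<|a 181<|a 207<|a 110<|b)<|d);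
 (c (a 147<|a 151<|a 152<|a 178<|a 200<|a 107<|b)<|c (a 144<|a 148<|a 153<|a 179<|a 201<|a 104<|b)<|c (a 145<|a 149<|a 154<|a 176<|a 202<|a 105<|b)<|
 c (a 146<|a 150<|a 155<|a 177<|a 203<|a 106<|b)<|d));
 (let d:=(c (a 159<|a 147<|a 148<|a 190<|a 196<|a 103<|b)<|c (a 156<|a 144<|a 149<|a 191<|a 197<|a 100<|b)<|c (a 157<|a 145<|a 150<|a 188<|a 198<|a 101<|b)<|
 c (a 158<|a 146<|a 151<|a 189<|a 199<|a 102<|b)<|d);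
 (c (a 155<|a 159<|a 144<|a 186<|a 192<|a 99<|b)<|c (a 152<|a 156<|a 145<|a 187<|a 193<|a 96<|b)<|c (a 153<|a 157<|a 146<|a 184<|a 194<|a 97<|b)<|
 c (a 154<|a 158<|a 147<|a 185<|a 195<|a 98<|b)<|d))))));
 (let d:=(let d:=(let d:=(let d:=(let d:=(c (a 127<|a 106<|a 108<|a 92<|a 60<|a 252<|b)<|c (a 124<|a 107<|a 109<|a 93<|a 61<|a 253<|b)<|c (a 125<|a 104<|a 110<|a 94<|a 62<|a 254<|b)<|
 c (a 126<|a 105<|a 111<|a 95<|a 63<|a 255<|b)<|d);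
 (c (a 123<|a 102<|a 104<|a 88<|a 56<|a 248<|b)<|c (a 120<|a 103<|a 105<|a 89<|a 57<|a 249<|b)<|c (a 121<|a 100<|a 106<|a 90<|a 58<|a 250<|b)<|
 c (a 122<|a 101<|a 107<|a 91<|a 59<|a 251<|b)<|d));
 (let d:=(c (a 119<|a 98<|a 100<|a 84<|a 52<|a 244<|b)<|c (a 116<|a 99<|a 101<|a 85<|a 53<|a 245<|b)<|c (a 117<|a 96<|a 102<|a 86<|a 54<|a 246<|b)<|
 c (a 118<|a 97<|a 103<|a 87<|a 55<|a 247<|b)<|d);
 (c (a 115<|a 110<|a 96<|a 80<|a 48<|a 240<|b)<|c (a 112<|a 111<|a 97<|a 81<|a 49<|a 241<|b)<|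
 c (a 113<|a 108<|a 98<|a 82<|a 50<|a 242<|b)<|c (a 114<|a 109<|a 99<|a 83<|a 51<|a 243<|b)<|d)));
 (let d:=(let d:=(c (a 111<|a 122<|a 124<|a 76<|a 44<|a 236<|b)<|
 c (a 108<|a 123<|a 125<|a 77<|a 45<|a 237<|b)<|c (a 109<|a 120<|a 126<|a 78<|a 46<|a 238<|b)<|c (a 110<|a 121<|a 127<|a 79<|a 47<|a 239<|b)<|d);
 (c (a 107<|a 118<|a 120<|a 72<|a 40<|a 232<|b)<|
 c (a 104<|a 119<|a 121<|a 73<|a 41<|a 233<|b)<|c (a 105<|a 116<|a 122<|a 74<|a 42<|a 234<|b)<|c (a 106<|a 117<|a 123<|a 75<|a 43<|a 235<|b)<|d));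
 (let d:=(c (a 103<|a 114<|a 116<|a 68<|a 36<|a 228<|b)<|
 c (a 100<|a 115<|a 117<|a 69<|a 37<|a 229<|b)<|c (a 101<|a 112<|a 118<|a 70<|a 38<|a 230<|b)<|c (a 102<|a 113<|a 119<|a 71<|a 39<|a 231<|b)<|d);
 (c (a 99<|a 126<|a 112<|a 64<|a 32<|a 224<|b)<|c (a 96<|a 127<|a 113<|a 65<|a 33<|a 225<|b)<|c (a 97<|a 124<|a 114<|a 66<|a 34<|a 226<|b)<|c (a 98<|a 125<|a 115<|a 67<|a 35<|a 227<|b)<|d))));
 (let d:=(let d:=(let d:=(c (a 93<|a 66<|a 76<|a 124<|a 28<|a 220<|b)<|c (a 94<|a 67<|a 77<|a 125<|a 29<|a 221<|b)<|c (a 95<|a 64<|a 78<|a 126<|a 30<|a 222<|b)<|c (a 92<|a 65<|a 79<|a 127<|a 31<|a 223<|b)<|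
 d);
 (c (a 89<|a 78<|a 72<|a 120<|a 24<|a 216<|b)<|c (a 90<|a 79<|a 73<|a 121<|a 25<|a 217<|b)<|c (a 91<|a 76<|a 74<|a 122<|a 26<|a 218<|b)<|
 c (a 88<|a 77<|a 75<|a 123<|a 27<|a 219<|b)<|d));
 (let d:=(c (a 85<|a 74<|a 68<|a 116<|a 20<|a 212<|b)<|c (a 86<|a 75<|a 69<|a 117<|a 21<|a 213<|b)<|
 c (a 87<|a 72<|a 70<|a 118<|a 22<|a 214<|b)<|c (a 84<|a 73<|a 71<|a 119<|a 23<|a 215<|b)<|d);
 (c (a 81<|a 70<|a 64<|a 112<|a 16<|a 208<|b)<|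
 c (a 82<|a 71<|a 65<|a 113<|a 17<|a 209<|b)<|c (a 83<|a 68<|a 66<|a 114<|a 18<|a 210<|b)<|c (a 80<|a 69<|a 67<|a 115<|a 19<|a 211<|b)<|d)));
 (let d:=(let d:=(c (a 77<|a 82<|a 92<|a 108<|a 12<|a 204<|b)<|c (a 78<|a 83<|a 93<|a 109<|a 13<|a 205<|b)<|c (a 79<|a 80<|a 94<|a 110<|a 14<|a 206<|b)<|c (a 76<|a 81<|a 95<|a 111<|a 15<|a 207<|b)<|d);
 (c (a 73<|a 94<|a 88<|a 104<|a 8<|a 200<|b)<|c (a 74<|a 95<|a 89<|a 105<|a 9<|a 201<|b)<|c (a 75<|a 92<|a 90<|a 106<|a 10<|a 202<|b)<|c (a 72<|a 93<|a 91<|a 107<|a 11<|a 203<|b)<|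
 d));
 (let d:=(c (a 69<|a 90<|a 84<|a 100<|a 4<|a 196<|b)<|c (a 70<|a 91<|a 85<|a 101<|a 5<|a 197<|b)<|c (a 71<|a 88<|a 86<|a 102<|a 6<|a 198<|b)<|
 c (a 68<|a 89<|a 87<|a 103<|a 7<|a 199<|b)<|d);
 (c (a 65<|a 86<|a 80<|a 96<|a 0<|a 192<|b)<|c (a 66<|a 87<|a 81<|a 97<|a 1<|a 193<|b)<|
 c (a 67<|a 84<|a 82<|a 98<|a 2<|a 194<|b)<|c (a 64<|a 85<|a 83<|a 99<|a 3<|a 195<|b)<|d)))));
 (let d:=(let d:=(let d:=(let d:=(c (a 63<|a 56<|a 44<|a 28<|a 124<|a 188<|b)<|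
 c (a 60<|a 57<|a 45<|a 29<|a 125<|a 189<|b)<|c (a 61<|a 58<|a 46<|a 30<|a 126<|a 190<|b)<|c (a 62<|a 59<|a 47<|a 31<|a 127<|a 191<|b)<|d);
 (c (a 59<|a 52<|a 40<|a 24<|a 120<|a 184<|b)<|c (a 56<|a 53<|a 41<|a 25<|a 121<|a 185<|b)<|c (a 57<|a 54<|a 42<|a 26<|a 122<|a 186<|b)<|c (a 58<|a 55<|a 43<|a 27<|a 123<|a 187<|b)<|d));
 (let d:=(c (a 55<|a 48<|a 36<|a 20<|a 116<|a 180<|b)<|c (a 52<|a 49<|a 37<|a 21<|a 117<|a 181<|b)<|c (a 53<|a 50<|a 38<|a 22<|a 118<|a 182<|b)<|c (a 54<|a 51<|a 39<|a 23<|a 119<|a 183<|b)<|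
 d);
 (c (a 51<|a 60<|a 32<|a 16<|a 112<|a 176<|b)<|c (a 48<|a 61<|a 33<|a 17<|a 113<|a 177<|b)<|c (a 49<|a 62<|a 34<|a 18<|a 114<|a 178<|b)<|
 c (a 50<|a 63<|a 35<|a 19<|a 115<|a 179<|b)<|d)));
 (let d:=(let d:=(c (a 47<|a 40<|a 60<|a 12<|a 108<|a 172<|b)<|c (a 44<|a 41<|a 61<|a 13<|a 109<|a 173<|b)<|
 c (a 45<|a 42<|a 62<|a 14<|a 110<|a 174<|b)<|c (a 46<|a 43<|a 63<|a 15<|a 111<|a 175<|b)<|d);
 (c (a 43<|a 36<|a 56<|a 8<|a 104<|a 168<|b)<|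
 c (a 40<|a 37<|a 57<|a 9<|a 105<|a 169<|b)<|c (a 41<|a 38<|a 58<|a 10<|a 106<|a 170<|b)<|c (a 42<|a 39<|a 59<|a 11<|a 107<|a 171<|b)<|d));
 (let d:=(c (a 39<|a 32<|a 52<|a 4<|a 100<|a 164<|b)<|c (a 36<|a 33<|a 53<|a 5<|a 101<|a 165<|b)<|c (a 37<|a 34<|a 54<|a 6<|a 102<|a 166<|b)<|c (a 38<|a 35<|a 55<|a 7<|a 103<|a 167<|b)<|d);
 (c (a 35<|a 44<|a 48<|a 0<|a 96<|a 160<|b)<|c (a 32<|a 45<|a 49<|a 1<|a 97<|a 161<|b)<|c (a 33<|a 46<|a 50<|a 2<|a 98<|a 162<|b)<|c (a 34<|a 47<|a 51<|a 3<|a 99<|a 163<|b)<|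
 d))));
 (let d:=(let d:=(let d:=(c (a 29<|a 16<|a 12<|a 60<|a 92<|a 156<|b)<|c (a 30<|a 17<|a 13<|a 61<|a 93<|a 157<|b)<|c (a 31<|a 18<|a 14<|a 62<|a 94<|a 158<|b)<|
 c (a 28<|a 19<|a 15<|a 63<|a 95<|a 159<|b)<|d);
 (c (a 25<|a 28<|a 8<|a 56<|a 88<|a 152<|b)<|c (a 26<|a 29<|a 9<|a 57<|a 89<|a 153<|b)<|
 c (a 27<|a 30<|a 10<|a 58<|a 90<|a 154<|b)<|c (a 24<|a 31<|a 11<|a 59<|a 91<|a 155<|b)<|d));
 (let d:=(c (a 21<|a 24<|a 4<|a 52<|a 84<|a 148<|b)<|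
 c (a 22<|a 25<|a 5<|a 53<|a 85<|a 149<|b)<|c (a 23<|a 26<|a 6<|a 54<|a 86<|a 150<|b)<|c (a 20<|a 27<|a 7<|a 55<|a 87<|a 151<|b)<|d);
 (c (a 17<|a 20<|a 0<|a 48<|a 80<|a 144<|b)<|c (a 18<|a 21<|a 1<|a 49<|a 81<|a 145<|b)<|c (a 19<|a 22<|a 2<|a 50<|a 82<|a 146<|b)<|c (a 16<|a 23<|a 3<|a 51<|a 83<|a 147<|b)<|d)));
 (let d:=(let d:=(c (a 13<|a 0<|a 28<|a 44<|a 76<|a 140<|b)<|c (a 14<|a 1<|a 29<|a 45<|a 77<|a 141<|b)<|c (a 15<|a 2<|a 30<|a 46<|a 78<|a 142<|b)<|c (a 12<|a 3<|a 31<|a 47<|a 79<|a 143<|b)<|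
 d);
 (c (a 9<|a 12<|a 24<|a 40<|a 72<|a 136<|b)<|c (a 10<|a 13<|a 25<|a 41<|a 73<|a 137<|b)<|c (a 11<|a 14<|a 26<|a 42<|a 74<|a 138<|b)<|
 c (a 8<|a 15<|a 27<|a 43<|a 75<|a 139<|b)<|d));
 (let d:=(c (a 5<|a 8<|a 20<|a 36<|a 68<|a 132<|b)<|c (a 6<|a 9<|a 21<|a 37<|a 69<|a 133<|b)<|
 c (a 7<|a 10<|a 22<|a 38<|a 70<|a 134<|b)<|c (a 4<|a 11<|a 23<|a 39<|a 71<|a 135<|b)<|d);
 (a (a 1<|a 4<|a 16<|a 32<|a 64<|a 128<|b)<|a (a 2<|a 5<|a 17<|a 33<|a 65<|a 129<|b)<|a (a 3<|a 6<|a 18<|a 34<|a 66<|a 130<|b)<|a (a 0<|a 7<|a 19<|a 35<|a 67<|a 131<|b)<|d))))))))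
  par := (beta% delta% lq26e5b57e8d fun a b _ e _ g _ =>
 (let d:=(let d:=(let d:=(let d:=(let d:=(let d:=(g (e 124 5)<|g (e 125 5)<|g (e 126 5)<|g (e 127 5)<|b);
 (g (e 120 5)<|g (e 121 5)<|g (e 122 5)<|g (e 123 5)<|d));
 (let d:=(g (e 116 5)<|g (e 117 5)<|g (e 118 5)<|
 g (e 119 5)<|d);
 (g (e 112 5)<|g (e 113 5)<|g (e 114 5)<|g (e 115 5)<|d)));
 (let d:=(let d:=(g (e 108 5)<|g (e 109 5)<|g (e 110 5)<|g (e 111 5)<|d);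
 (g (e 104 5)<|
 g (e 105 5)<|g (e 106 5)<|g (e 107 5)<|d));
 (let d:=(g (e 100 5)<|g (e 101 5)<|g (e 102 5)<|g (e 103 5)<|d);
 (g (e 96 5)<|g (e 97 5)<|g (e 98 5)<|g (e 99 5)<|d))));
 (let d:=(let d:=(let d:=(g (e 92 5)<|g (e 93 5)<|g (e 94 5)<|g (e 95 5)<|d);
 (g (e 88 5)<|g (e 89 5)<|
 g (e 90 5)<|g (e 91 5)<|d));
 (let d:=(g (e 84 5)<|g (e 85 5)<|g (e 86 5)<|g (e 87 5)<|d);
 (g (e 80 5)<|g (e 81 5)<|g (e 82 5)<|g (e 83 5)<|d)));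
 (let d:=(let d:=(g (e 76 5)<|g (e 77 5)<|g (e 78 5)<|g (e 79 5)<|d);
 (g (e 72 5)<|g (e 73 5)<|
 g (e 74 5)<|g (e 75 5)<|d));
 (let d:=(g (e 68 5)<|g (e 69 5)<|g (e 70 5)<|g (e 71 5)<|d);
 (g (e 64 5)<|g (e 65 5)<|g (e 66 5)<|g (e 67 5)<|d)))));
 (let d:=(let d:=(let d:=(let d:=(g (e 60 5)<|g (e 61 5)<|g (e 62 5)<|g (e 63 5)<|d);
 (g (e 56 5)<|g (e 57 5)<|
 g (e 58 5)<|g (e 59 5)<|d));
 (let d:=(g (e 52 5)<|g (e 53 5)<|g (e 54 5)<|g (e 55 5)<|d);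
 (g (e 48 5)<|g (e 49 5)<|g (e 50 5)<|g (e 51 5)<|d)));
 (let d:=(let d:=(g (e 44 5)<|g (e 45 5)<|g (e 46 5)<|g (e 47 5)<|d);
 (g (e 40 5)<|g (e 41 5)<|
 g (e 42 5)<|g (e 43 5)<|d));
 (let d:=(g (e 36 5)<|g (e 37 5)<|g (e 38 5)<|g (e 39 5)<|d);
 (g (e 32 5)<|g (e 33 5)<|g (e 34 5)<|g (e 35 5)<|d))));
 (let d:=(let d:=(let d:=(g (e 28 5)<|g (e 29 5)<|g (e 30 5)<|g (e 31 5)<|d);
 (g (e 24 5)<|g (e 25 5)<|
 g (e 26 5)<|g (e 27 5)<|d));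
 (let d:=(g (e 20 5)<|g (e 21 5)<|g (e 22 5)<|g (e 23 5)<|d);
 (g (e 16 5)<|g (e 17 5)<|g (e 18 5)<|g (e 19 5)<|d)));
 (let d:=(let d:=(g (e 12 5)<|g (e 13 5)<|g (e 14 5)<|g (e 15 5)<|d);
 (g (e 8 5)<|g (e 9 5)<|
 g (e 10 5)<|g (e 11 5)<|d));
 (let d:=(g (e 4 5)<|g (e 5 5)<|g (e 6 5)<|g (e 7 5)<|d);
 (g (e 0 5)<|g (e 1 5)<|g (e 2 5)<|g (e 3 5)<|d))))));
 (let d:=(let d:=(let d:=(let d:=(let d:=(g (e 60 4)<|g (e 61 4)<|g (e 62 4)<|g (e 63 4)<|d);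
 (g (e 56 4)<|g (e 57 4)<|g (e 58 4)<|g (e 59 4)<|d));
 (let d:=(g (e 52 4)<|g (e 53 4)<|g (e 54 4)<|g (e 55 4)<|
 d);
 (g (e 48 4)<|g (e 49 4)<|g (e 50 4)<|g (e 51 4)<|d)));
 (let d:=(let d:=(g (e 44 4)<|g (e 45 4)<|g (e 46 4)<|g (e 47 4)<|d);
 (g (e 40 4)<|g (e 41 4)<|g (e 42 4)<|g (e 43 4)<|d));
 (let d:=(g (e 36 4)<|g (e 37 4)<|g (e 38 4)<|g (e 39 4)<|
 d);
 (g (e 32 4)<|g (e 33 4)<|g (e 34 4)<|g (e 35 4)<|d))));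
 (let d:=(let d:=(let d:=(g (e 28 4)<|g (e 29 4)<|g (e 30 4)<|g (e 31 4)<|d);
 (g (e 24 4)<|g (e 25 4)<|g (e 26 4)<|g (e 27 4)<|d));
 (let d:=(g (e 20 4)<|g (e 21 4)<|g (e 22 4)<|g (e 23 4)<|
 d);
 (g (e 16 4)<|g (e 17 4)<|g (e 18 4)<|g (e 19 4)<|d)));
 (let d:=(let d:=(g (e 12 4)<|g (e 13 4)<|g (e 14 4)<|g (e 15 4)<|d);
 (g (e 8 4)<|g (e 9 4)<|g (e 10 4)<|g (e 11 4)<|d));
 (let d:=(g (e 4 4)<|g (e 5 4)<|g (e 6 4)<|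
 g (e 7 4)<|d);
 (g (e 0 4)<|g (e 1 4)<|g (e 2 4)<|g (e 3 4)<|d)))));
 (let d:=(let d:=(let d:=(let d:=(g (e 28 3)<|g (e 29 3)<|g (e 30 3)<|g (e 31 3)<|d);
 (g (e 24 3)<|g (e 25 3)<|g (e 26 3)<|g (e 27 3)<|d));
 (let d:=(g (e 20 3)<|g (e 21 3)<|
 g (e 22 3)<|g (e 23 3)<|d);
 (g (e 16 3)<|g (e 17 3)<|g (e 18 3)<|g (e 19 3)<|d)));
 (let d:=(let d:=(g (e 12 3)<|g (e 13 3)<|g (e 14 3)<|g (e 15 3)<|d);
 (g (e 8 3)<|g (e 9 3)<|g (e 10 3)<|g (e 11 3)<|d));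
 (let d:=(g (e 4 3)<|
 g (e 5 3)<|g (e 6 3)<|g (e 7 3)<|d);
 (g (e 0 3)<|g (e 1 3)<|g (e 2 3)<|g (e 3 3)<|d))));
 (let d:=(let d:=(let d:=(g (e 12 2)<|g (e 13 2)<|g (e 14 2)<|g (e 15 2)<|d);
 (g (e 8 2)<|g (e 9 2)<|g (e 10 2)<|g (e 11 2)<|d));
 (let d:=(g (e 4 2)<|g (e 5 2)<|g (e 6 2)<|g (e 7 2)<|d);
 (g (e 0 2)<|g (e 1 2)<|g (e 2 2)<|
 g (e 3 2)<|d)));
 (let d:=(let d:=(g (e 8 1)<|g (e 9 1)<|g (e 10 1)<|g (e 11 1)<|d);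
 (g (e 4 1)<|g (e 5 1)<|g (e 6 1)<|g (e 7 1)<|d));
 (a (e 0 0)<|a (e 1 0)<|a (e 2 0)<|a (e 0 1)<|a (e 1 1)<|a (e 2 1)<|a (e 3 1)<|d)))))))
  idx := (beta% delta% lq26e5b57e8d fun a b _ _ f _ _ =>
 (let d:=(let d:=(let d:=(let d:=(let d:=(let d:=(f 428<|f 425<|f 417<|f 435<|b);
 (f 270<|f 175<|f 184<|
 f 182<|d));
 (let d:=(f 402<|f 422<|f 413<|f 432<|d);
 (f 357<|f 300<|f 295<|f 290<|d)));
 (let d:=(let d:=(f 405<|f 424<|f 415<|f 411<|d);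
 (f 359<|f 358<|f 383<|f 354<|d));
 (let d:=(f 400<|f 433<|f 389<|f 426<|d);
 (f 273<|f 265<|f 338<|f 271<|d))));
 (let d:=(let d:=(let d:=(f 348<|f 380<|
 f 301<|f 361<|d);
 (f 257<|f 376<|f 261<|f 344<|d));
 (let d:=(f 282<|f 297<|f 205<|f 346<|d);
 (f 347<|f 333<|f 286<|f 263<|d)));
 (let d:=(let d:=(f 206<|f 304<|f 283<|f 351<|d);
 (f 352<|f 373<|f 377<|f 336<|d));
 (let d:=(f 117<|f 288<|f 191<|f 299<|d);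
 (f 334<|
 f 396<|f 330<|f 378<|d)))));
 (let d:=(let d:=(let d:=(let d:=(f 194<|f 362<|f 202<|f 381<|d);
 (f 379<|f 170<|f 397<|f 259<|d));
 (let d:=(f 298<|f 302<|f 287<|f 349<|d);
 (f 374<|f 277<|f 337<|f 341<|d)));
 (let d:=(let d:=(f 200<|f 350<|f 279<|f 303<|d);
 (f 331<|f 343<|f 335<|f 375<|d));
 (let d:=(f 345<|f 284<|f 296<|f 207<|d);
 (f 382<|f 262<|f 353<|f 332<|
 d))));
 (let d:=(let d:=(let d:=(f 423<|f 416<|f 409<|f 406<|d);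
 (f 102<|f 274<|f 180<|f 339<|d));
 (let d:=(f 430<|f 421<|f 420<|f 431<|d);
 (f 198<|f 384<|f 292<|f 360<|d)));
 (let d:=(let d:=(f 394<|f 418<|f 408<|f 429<|d);
 (f 356<|f 363<|f 294<|f 355<|d));
 (let d:=(f 410<|f 434<|f 419<|
 f 427<|d);
 (f 269<|f 266<|f 183<|f 272<|d))))));
 (let d:=(let d:=(let d:=(let d:=(let d:=(f 45<|f 109<|f 49<|f 188<|d);
 (f 133<|f 131<|f 222<|f 220<|d));
 (let d:=(f 48<|f 114<|f 105<|f 107<|d);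
 (f 55<|f 147<|f 121<|f 73<|d)));
 (let d:=(let d:=(f 47<|f 185<|f 44<|f 46<|d);
 (f 124<|f 152<|f 211<|f 239<|d));
 (let d:=(f 104<|f 103<|f 9<|f 110<|
 d);
 (f 60<|f 129<|f 130<|f 59<|d))));
 (let d:=(let d:=(let d:=(f 89<|f 34<|f 39<|f 97<|d);
 (f 23<|f 368<|f 69<|f 365<|d));
 (let d:=(f 86<|f 94<|f 42<|f 37<|d);
 (f 56<|f 390<|f 51<|f 385<|d)));
 (let d:=(let d:=(f 41<|f 40<|f 35<|f 36<|d);
 (f 138<|f 367<|f 65<|f 364<|d));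
 (let d:=(f 8<|f 7<|
 f 88<|f 96<|d);
 (f 14<|f 323<|f 16<|f 320<|d)))));
 (let d:=(let d:=(let d:=(let d:=(f 142<|f 71<|f 154<|f 137<|d);
 (f 20<|f 233<|f 66<|f 234<|d));
 (let d:=(f 151<|f 145<|f 230<|f 64<|d);
 (f 61<|f 141<|f 18<|f 229<|d)));
 (let d:=(let d:=(f 148<|f 227<|f 232<|f 22<|d);
 (f 135<|f 209<|f 62<|f 122<|d));
 (let d:=(f 235<|
 f 139<|f 74<|f 68<|d);
 (f 4<|f 120<|f 19<|f 54<|d))));
 (let d:=(let d:=(let d:=(f 82<|f 31<|f 79<|f 157<|d);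
 (f 17<|f 26<|f 58<|f 24<|d));
 (let d:=(f 83<|f 159<|f 76<|f 30<|d);
 (f 1<|f 160<|f 3<|f 161<|d)));
 (let d:=(let d:=(f 28<|f 158<|f 32<|f 33<|d);
 (f 15<|f 85<|f 53<|f 162<|d));
 (let d:=(f 78<|f 6<|f 84<|f 81<|d);
 (a 0<|a 5<|a 2<|a 25<|d))))))))

theorem tb1_ok : chkT tb1 = true := chkT_of (by decide +kernel)

theorem tb1_idx : chkI fo tb1.E tb1.idx = true := chkI_of fo_fit (by decide +kernel)

theorem tb1_p64 : chkP tb1 64 4 = true := chkP_of (by decide +kernel)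

theorem tb1_p128 : chkP tb1 128 5 = true := chkP_of (by decide +kernel)

theorem tb1_p256 : chkP tb1 256 6 = true := chkP_of (by decide +kernel)

/-- a table -/
def tb2 : TD where
  E := (beta% delta% lq26e5b57e8d fun a b c _ _ _ _ =>
 (let d:=(let d:=(let d:=(let d:=(c (a 25<|a 42<|a 52<|a 8<|a 16<|a 32<|b)<|c (a 41<|a 14<|a 60<|a 8<|a 16<|a 48<|b)<|c (a 45<|a 2<|a 12<|a 8<|a 16<|a 40<|b)<|c (a 45<|a 58<|a 28<|a 8<|a 16<|a 40<|b)<|b);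
 (c (a 13<|a 2<|a 4<|a 8<|a 16<|a 40<|b)<|c (a 13<|a 58<|a 20<|a 8<|a 16<|a 40<|b)<|c (a 37<|a 30<|a 12<|a 8<|a 16<|a 56<|b)<|c (a 9<|a 18<|a 36<|a 8<|a 16<|a 32<|b)<|
 d));
 (let d:=(c (a 21<|a 30<|a 4<|a 8<|a 16<|a 56<|b)<|c (a 33<|a 18<|a 44<|a 8<|a 16<|a 32<|b)<|
 c (a 49<|a 42<|a 60<|a 8<|a 16<|a 32<|b)<|c (a 17<|a 14<|a 52<|a 8<|a 16<|a 48<|b)<|d);
 (c (a 1<|a 38<|a 36<|a 8<|a 16<|a 48<|b)<|c (a 29<|a 50<|a 20<|a 8<|a 16<|a 40<|b)<|c (a 37<|a 54<|a 28<|a 8<|a 16<|a 56<|b)<|c (a 9<|a 34<|a 52<|a 8<|a 16<|a 32<|b)<|d)));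
 (let d:=(let d:=(c (a 57<|a 38<|a 44<|a 8<|a 16<|a 48<|b)<|c (a 61<|a 50<|a 28<|a 8<|a 16<|a 40<|b)<|c (a 21<|a 54<|a 20<|a 8<|a 16<|a 56<|b)<|c (a 33<|a 34<|a 60<|a 8<|a 16<|a 32<|b)<|
 d);
 (c (a 53<|a 22<|a 12<|a 8<|a 16<|a 56<|b)<|c (a 57<|a 6<|a 60<|a 8<|a 16<|a 48<|b)<|
 c (a 5<|a 22<|a 4<|a 8<|a 16<|a 56<|b)<|c (a 1<|a 6<|a 52<|a 8<|a 16<|a 48<|b)<|d));
 (let d:=(c (a 17<|a 46<|a 36<|a 8<|a 16<|a 48<|b)<|c (a 53<|a 62<|a 28<|a 8<|a 16<|a 56<|b)<|c (a 41<|a 46<|a 44<|a 8<|a 16<|a 48<|b)<|c (a 5<|a 62<|a 20<|a 8<|a 16<|a 56<|b)<|d);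
 (c (a 25<|a 26<|a 36<|a 8<|a 16<|a 32<|b)<|c (a 61<|a 10<|a 12<|a 8<|a 16<|a 40<|b)<|c (a 49<|a 26<|a 44<|a 8<|a 16<|a 32<|b)<|c (a 29<|a 10<|a 4<|a 8<|a 16<|a 40<|b)<|
 d))));
 (let d:=(let d:=(let d:=(c (a 1<|a 50<|a 20<|a 8<|a 16<|a 32<|b)<|c (a 49<|a 54<|a 28<|a 8<|a 16<|a 48<|b)<|
 c (a 21<|a 26<|a 44<|a 8<|a 16<|a 40<|b)<|c (a 21<|a 34<|a 60<|a 8<|a 16<|a 40<|b)<|d);
 (c (a 53<|a 26<|a 36<|a 8<|a 16<|a 40<|b)<|c (a 53<|a 34<|a 52<|a 8<|a 16<|a 40<|b)<|c (a 29<|a 38<|a 44<|a 8<|a 16<|a 56<|b)<|c (a 17<|a 10<|a 4<|a 8<|a 16<|a 32<|b)<|d));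
 (let d:=(c (a 45<|a 38<|a 36<|a 8<|a 16<|a 56<|b)<|c (a 57<|a 10<|a 12<|a 8<|a 16<|a 32<|b)<|c (a 41<|a 50<|a 28<|a 8<|a 16<|a 32<|b)<|c (a 9<|a 54<|a 20<|a 8<|a 16<|a 48<|b)<|
 d);
 (c (a 25<|a 30<|a 4<|a 8<|a 16<|a 48<|b)<|c (a 37<|a 42<|a 52<|a 8<|a 16<|a 40<|b)<|
 c (a 29<|a 14<|a 60<|a 8<|a 16<|a 56<|b)<|c (a 17<|a 58<|a 20<|a 8<|a 16<|a 32<|b)<|d)));
 (let d:=(let d:=(c (a 33<|a 30<|a 12<|a 8<|a 16<|a 48<|b)<|c (a 5<|a 42<|a 60<|a 8<|a 16<|a 40<|b)<|c (a 45<|a 14<|a 52<|a 8<|a 16<|a 56<|b)<|c (a 57<|a 58<|a 28<|a 8<|a 16<|a 32<|b)<|d);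
 (c (a 13<|a 46<|a 44<|a 8<|a 16<|a 56<|b)<|c (a 33<|a 62<|a 28<|a 8<|a 16<|a 48<|b)<|c (a 61<|a 46<|a 36<|a 8<|a 16<|a 56<|b)<|c (a 25<|a 62<|a 20<|a 8<|a 16<|a 48<|b)<|
 d));
 (let d:=(c (a 9<|a 22<|a 4<|a 8<|a 16<|a 48<|b)<|c (a 13<|a 6<|a 60<|a 8<|a 16<|a 56<|b)<|
 c (a 49<|a 22<|a 12<|a 8<|a 16<|a 48<|b)<|c (a 61<|a 6<|a 52<|a 8<|a 16<|a 56<|b)<|d);
 (a (a 1<|a 2<|a 4<|a 8<|a 16<|a 32<|b)<|a (a 5<|a 18<|a 44<|a 8<|a 16<|a 40<|b)<|a (a 41<|a 2<|a 12<|a 8<|a 16<|a 32<|b)<|a (a 37<|a 18<|a 36<|a 8<|a 16<|a 40<|b)<|d))))))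
  Gw := (beta% delta% lq26e5b57e8d fun a b _ _ _ _ _ =>
 (a (a 2<|a 4<|a 1<|a 32<|a 33<|b)<|a (a 1<|a 32<|a 34<|b)<|a (a 3<|a 4<|b)<|b))
  T := (beta% delta% lq26e5b57e8d fun a b c _ _ _ _ =>
 (let d:=(let d:=(let d:=(let d:=(c (a 49<|a 36<|a 28<|b)<|c (a 50<|a 34<|a 29<|b)<|c (a 59<|a 40<|a 30<|b)<|c (a 51<|a 37<|a 31<|b)<|b);
 (c (a 53<|a 42<|a 24<|b)<|c (a 47<|a 39<|a 25<|b)<|c (a 48<|a 33<|a 26<|b)<|c (a 56<|a 43<|a 27<|b)<|d));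
 (let d:=(c (a 44<|a 35<|a 20<|b)<|c (a 62<|a 41<|a 21<|b)<|
 c (a 45<|a 38<|a 22<|b)<|c (a 46<|a 32<|a 23<|b)<|d);
 (c (a 42<|a 51<|a 16<|b)<|c (a 54<|a 46<|a 17<|b)<|c (a 43<|a 45<|a 18<|b)<|c (a 57<|a 48<|a 19<|b)<|d)));
 (let d:=(let d:=(c (a 40<|a 47<|a 12<|b)<|c (a 60<|a 50<|a 13<|b)<|c (a 41<|a 49<|a 14<|b)<|c (a 63<|a 44<|a 15<|b)<|d);
 (c (a 36<|a 62<|a 8<|b)<|c (a 37<|a 53<|a 9<|b)<|c (a 38<|a 56<|a 10<|b)<|c (a 39<|a 59<|a 11<|b)<|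
 d));
 (let d:=(c (a 52<|a 60<|a 4<|b)<|c (a 55<|a 63<|a 5<|b)<|c (a 58<|a 54<|a 6<|b)<|c (a 61<|a 57<|a 7<|b)<|d);
 (c (a 35<|a 55<|a 0<|b)<|
 c (a 32<|a 58<|a 1<|b)<|c (a 33<|a 61<|a 2<|b)<|c (a 34<|a 52<|a 3<|b)<|d))));
 (let d:=(let d:=(let d:=(c (a 13<|a 23<|a 60<|b)<|c (a 7<|a 22<|a 61<|b)<|c (a 21<|a 18<|a 62<|b)<|c (a 15<|a 26<|a 63<|b)<|d);
 (c (a 27<|a 14<|a 56<|b)<|c (a 19<|a 20<|a 57<|b)<|c (a 6<|a 31<|a 58<|b)<|c (a 30<|a 16<|a 59<|b)<|d));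
 (let d:=(c (a 4<|a 25<|a 52<|b)<|c (a 24<|a 12<|a 53<|b)<|
 c (a 17<|a 29<|a 54<|b)<|c (a 5<|a 28<|a 55<|b)<|d);
 (c (a 26<|a 27<|a 48<|b)<|c (a 28<|a 10<|a 49<|b)<|c (a 29<|a 30<|a 50<|b)<|c (a 31<|a 11<|a 51<|b)<|d)));
 (let d:=(let d:=(c (a 20<|a 21<|a 44<|b)<|c (a 22<|a 8<|a 45<|b)<|c (a 23<|a 24<|a 46<|b)<|c (a 25<|a 9<|a 47<|b)<|d);
 (c (a 12<|a 13<|a 40<|b)<|c (a 14<|a 15<|a 41<|b)<|c (a 16<|a 17<|a 42<|b)<|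
 c (a 18<|a 19<|a 43<|b)<|d));
 (let d:=(c (a 8<|a 0<|a 36<|b)<|c (a 9<|a 1<|a 37<|b)<|c (a 10<|a 2<|a 38<|b)<|c (a 11<|a 3<|a 39<|b)<|d);
 (a (a 1<|a 4<|a 32<|b)<|a (a 2<|a 5<|a 33<|b)<|a (a 3<|a 6<|a 34<|b)<|a (a 0<|a 7<|a 35<|b)<|d))))))
  par := (beta% delta% lq26e5b57e8d fun a b _ e _ g _ =>
 (let d:=(let d:=(let d:=(let d:=(g (e 28 2)<|g (e 29 2)<|g (e 30 2)<|g (e 31 2)<|b);
 (g (e 24 2)<|g (e 25 2)<|g (e 26 2)<|g (e 27 2)<|d));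
 (let d:=(g (e 20 2)<|
 g (e 21 2)<|g (e 22 2)<|g (e 23 2)<|d);
 (g (e 16 2)<|g (e 17 2)<|g (e 18 2)<|g (e 19 2)<|d)));
 (let d:=(let d:=(g (e 12 2)<|g (e 13 2)<|g (e 14 2)<|g (e 15 2)<|d);
 (g (e 8 2)<|g (e 9 2)<|g (e 10 2)<|g (e 11 2)<|d));
 (let d:=(g (e 4 2)<|g (e 5 2)<|g (e 6 2)<|g (e 7 2)<|d);
 (g (e 0 2)<|g (e 1 2)<|g (e 2 2)<|g (e 3 2)<|
 d))));
 (let d:=(let d:=(let d:=(g (e 17 0)<|g (e 18 0)<|g (e 18 1)<|g (e 19 0)<|d);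
 (g (e 14 1)<|g (e 15 0)<|g (e 16 0)<|g (e 16 1)<|d));
 (let d:=(g (e 12 0)<|g (e 12 1)<|g (e 13 0)<|g (e 14 0)<|d);
 (g (e 10 0)<|g (e 10 1)<|g (e 11 0)<|
 g (e 11 1)<|d)));
 (let d:=(let d:=(g (e 8 0)<|g (e 8 1)<|g (e 9 0)<|g (e 9 1)<|d);
 (g (e 4 0)<|g (e 5 0)<|g (e 6 0)<|g (e 7 0)<|d));
 (a (e 0 0)<|a (e 1 0)<|a (e 2 0)<|a (e 0 1)<|a (e 1 1)<|a (e 2 1)<|a (e 3 1)<|d)))))
  idx := (beta% delta% lq26e5b57e8d fun a b _ _ f _ _ =>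
 (let d:=(let d:=(let d:=(let d:=(f 312<|
 f 170<|f 133<|f 24<|b);
 (f 60<|f 25<|f 252<|f 244<|d));
 (let d:=(f 72<|f 245<|f 243<|f 262<|d);
 (f 334<|f 5<|f 238<|f 153<|d)));
 (let d:=(let d:=(f 257<|f 26<|f 255<|f 219<|d);
 (f 164<|f 259<|f 146<|f 332<|d));
 (let d:=(f 330<|f 150<|f 261<|f 327<|d);
 (f 311<|f 222<|f 313<|f 130<|d))));
 (let d:=(let d:=(let d:=(f 59<|f 321<|f 186<|
 f 276<|d);
 (f 192<|f 342<|f 379<|f 2<|d));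
 (let d:=(f 382<|f 58<|f 220<|f 70<|d);
 (f 67<|f 285<|f 344<|f 129<|d)));
 (let d:=(let d:=(f 250<|f 340<|f 378<|f 131<|d);
 (f 397<|f 324<|f 353<|f 144<|d));
 (let d:=(f 21<|f 376<|f 248<|f 396<|d);
 (a 0<|a 275<|a 17<|a 280<|d))))))

theorem tb2_ok : chkT tb2 = true := chkT_of (by decide +kernel)

theorem tb2_idx : chkI fo tb2.E tb2.idx = true := chkI_of fo_fit (by decide +kernel)

theorem tb2_p32 : chkP tb2 32 2 = true := chkP_of (by decide +kernel)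

theorem tb2_p64 : chkP tb2 64 3 = true := chkP_of (by decide +kernel)

/-- a table -/
def tb3 : TD where
  E := (beta% delta% lq26e5b57e8d fun a b _ _ _ _ _ =>
 (a (a 1<|a 2<|a 4<|a 8<|a 16<|a 32<|b)<|a (a 45<|a 58<|a 28<|a 8<|a 16<|a 40<|b)<|a (a 17<|a 10<|a 4<|a 8<|a 16<|a 32<|b)<|a (a 61<|a 50<|a 28<|a 8<|a 16<|a 40<|b)<|a (a 11<|a 34<|a 60<|a 8<|a 24<|a 32<|b)<|a (a 31<|a 18<|a 44<|a 8<|a 24<|a 40<|b)<|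
 a (a 19<|a 42<|a 60<|a 8<|a 24<|a 32<|b)<|a (a 7<|a 26<|a 44<|a 8<|a 24<|a 40<|b)<|a (a 33<|a 2<|a 12<|a 8<|a 16<|a 32<|b)<|a (a 5<|a 58<|a 20<|a 8<|a 16<|a 40<|b)<|a (a 49<|a 10<|a 12<|a 8<|a 16<|a 32<|b)<|a (a 21<|a 50<|a 20<|a 8<|a 16<|a 40<|b)<|
 a (a 43<|a 34<|a 52<|a 8<|a 24<|a 32<|b)<|a (a 55<|a 18<|a 36<|a 8<|a 24<|a 40<|b)<|a (a 51<|a 42<|a 52<|a 8<|a 24<|a 32<|b)<|a (a 47<|a 26<|a 36<|a 8<|a 24<|a 40<|b)<|a (a 13<|a 18<|a 4<|a 8<|a 16<|a 40<|b)<|a (a 41<|a 34<|a 28<|a 8<|a 16<|a 32<|b)<|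
 a (a 29<|a 26<|a 4<|a 8<|a 16<|a 40<|b)<|a (a 57<|a 42<|a 28<|a 8<|a 16<|a 32<|b)<|a (a 23<|a 58<|a 52<|a 8<|a 24<|a 40<|b)<|a (a 3<|a 2<|a 36<|a 8<|a 24<|a 32<|b)<|a (a 15<|a 50<|a 52<|a 8<|a 24<|a 40<|b)<|a (a 27<|a 10<|a 36<|a 8<|a 24<|a 32<|b)<|
 a (a 37<|a 18<|a 12<|a 8<|a 16<|a 40<|b)<|a (a 9<|a 34<|a 20<|a 8<|a 16<|a 32<|b)<|a (a 53<|a 26<|a 12<|a 8<|a 16<|a 40<|b)<|a (a 25<|a 42<|a 20<|a 8<|a 16<|a 32<|b)<|a (a 63<|a 58<|a 60<|a 8<|a 24<|a 40<|b)<|a (a 35<|a 2<|a 44<|a 8<|a 24<|a 32<|b)<|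
 a (a 39<|a 50<|a 60<|a 8<|a 24<|a 40<|b)<|a (a 59<|a 10<|a 44<|a 8<|a 24<|a 32<|b)<|b))
  Gw := (beta% delta% lq26e5b57e8d fun a b _ _ _ _ _ =>
 (a (a 4<|a 6<|a 36<|a 37<|b)<|a (a 2<|a 6<|a 16<|a 17<|b)<|a (a 2<|a 32<|a 33<|b)<|b))
  T := (beta% delta% lq26e5b57e8d fun a b _ _ _ _ _ =>
 (a (a 1<|a 4<|a 16<|b)<|a (a 2<|a 5<|a 17<|b)<|a (a 3<|a 6<|a 18<|b)<|a (a 0<|a 7<|a 19<|b)<|a (a 5<|a 8<|a 20<|b)<|a (a 6<|a 9<|a 21<|b)<|a (a 7<|a 10<|a 22<|b)<|a (a 4<|a 11<|a 23<|b)<|a (a 9<|a 12<|a 24<|b)<|a (a 10<|a 13<|a 25<|b)<|a (a 11<|a 14<|a 26<|b)<|a (a 8<|a 15<|a 27<|b)<|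
 a (a 13<|a 0<|a 28<|b)<|a (a 14<|a 1<|a 29<|b)<|a (a 15<|a 2<|a 30<|b)<|a (a 12<|a 3<|a 31<|b)<|a (a 19<|a 28<|a 0<|b)<|a (a 16<|a 29<|a 1<|b)<|a (a 17<|a 30<|a 2<|b)<|a (a 18<|a 31<|a 3<|b)<|a (a 23<|a 16<|a 4<|b)<|a (a 20<|a 17<|a 5<|b)<|a (a 21<|a 18<|a 6<|b)<|
 a (a 22<|a 19<|a 7<|b)<|a (a 27<|a 20<|a 8<|b)<|a (a 24<|a 21<|a 9<|b)<|a (a 25<|a 22<|a 10<|b)<|a (a 26<|a 23<|a 11<|b)<|a (a 31<|a 24<|a 12<|b)<|a (a 28<|a 25<|a 13<|b)<|a (a 29<|a 26<|a 14<|b)<|a (a 30<|a 27<|a 15<|b)<|b))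
  par := (beta% delta% lq26e5b57e8d fun a b _ e _ _ _ =>
 (a (e 0 0)<|a (e 1 0)<|a (e 2 0)<|a (e 0 1)<|a (e 1 1)<|a (e 2 1)<|a (e 3 1)<|a (e 4 1)<|a (e 5 1)<|a (e 6 1)<|a (e 7 1)<|a (e 8 1)<|a (e 9 1)<|a (e 10 1)<|a (e 11 1)<|a (e 0 2)<|a (e 1 2)<|a (e 2 2)<|
 a (e 3 2)<|a (e 4 2)<|a (e 5 2)<|a (e 6 2)<|a (e 7 2)<|a (e 8 2)<|a (e 9 2)<|a (e 10 2)<|a (e 11 2)<|a (e 12 2)<|a (e 13 2)<|a (e 14 2)<|a (e 15 2)<|b))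
  idx := (beta% delta% lq26e5b57e8d fun a b _ _ _ _ _ =>
 (a 0<|a 24<|a 2<|a 26<|a 78<|a 157<|a 84<|a 31<|a 15<|a 161<|a 53<|a 160<|a 28<|a 30<|a 32<|a 159<|a 4<|a 234<|a 19<|a 233<|a 235<|a 137<|a 74<|a 71<|a 135<|a 229<|a 62<|a 141<|a 148<|a 64<|a 232<|a 145<|b))

theorem tb3_ok : chkT tb3 = true := chkT_of (by decide +kernel)

theorem tb3_idx : chkI fo tb3.E tb3.idx = true := chkI_of fo_fit (by decide +kernel)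

theorem tb3_p16 : chkP tb3 16 2 = true := chkP_of (by decide +kernel)

theorem tb3_p32 : chkP tb3 32 3 = true := chkP_of (by decide +kernel)

end Cfsg.Agent.H942.S62
end

-- part: H942/S62/DataB
section
/-!
# Subgroups of `Sp₆(2)`: data
-/

set_option autoImplicit false
set_option maxRecDepth 100000

namespace Cfsg.Agent.H942.S62

/-- a table -/
def tb4 : TD where
  E := (beta% delta% lq26e5b57e8d fun a b c _ _ _ _ =>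
 (let d:=(let d:=(let d:=(let d:=(let d:=(c (a 35<|a 34<|a 52<|a 8<|a 24<|a 32<|b)<|c (a 43<|a 34<|a 52<|a 8<|a 24<|a 32<|b)<|
 c (a 51<|a 50<|a 52<|a 8<|a 24<|a 32<|b)<|c (a 59<|a 50<|a 52<|a 8<|a 24<|a 32<|b)<|b);
 (c (a 35<|a 34<|a 20<|a 8<|a 24<|a 32<|b)<|c (a 43<|a 34<|a 20<|a 8<|a 24<|a 32<|b)<|c (a 51<|a 50<|a 20<|a 8<|a 24<|a 32<|b)<|c (a 59<|a 50<|a 20<|a 8<|a 24<|a 32<|b)<|d));
 (let d:=(c (a 35<|a 58<|a 52<|a 8<|a 24<|a 32<|b)<|c (a 43<|a 58<|a 52<|a 8<|a 24<|a 32<|b)<|c (a 51<|a 42<|a 52<|a 8<|a 24<|a 32<|b)<|c (a 59<|a 42<|a 52<|a 8<|a 24<|a 32<|b)<|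
 d);
 (c (a 35<|a 58<|a 20<|a 8<|a 24<|a 32<|b)<|c (a 43<|a 58<|a 20<|a 8<|a 24<|a 32<|b)<|
 c (a 51<|a 42<|a 20<|a 8<|a 24<|a 32<|b)<|c (a 59<|a 42<|a 20<|a 8<|a 24<|a 32<|b)<|d)));
 (let d:=(let d:=(c (a 11<|a 34<|a 28<|a 8<|a 24<|a 32<|b)<|c (a 3<|a 34<|a 28<|a 8<|a 24<|a 32<|b)<|c (a 27<|a 50<|a 28<|a 8<|a 24<|a 32<|b)<|c (a 19<|a 50<|a 28<|a 8<|a 24<|a 32<|b)<|d);
 (c (a 11<|a 34<|a 60<|a 8<|a 24<|a 32<|b)<|c (a 3<|a 34<|a 60<|a 8<|a 24<|a 32<|b)<|c (a 27<|a 50<|a 60<|a 8<|a 24<|a 32<|b)<|c (a 19<|a 50<|a 60<|a 8<|a 24<|a 32<|b)<|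
 d));
 (let d:=(c (a 11<|a 58<|a 28<|a 8<|a 24<|a 32<|b)<|c (a 3<|a 58<|a 28<|a 8<|a 24<|a 32<|b)<|
 c (a 27<|a 42<|a 28<|a 8<|a 24<|a 32<|b)<|c (a 19<|a 42<|a 28<|a 8<|a 24<|a 32<|b)<|d);
 (c (a 11<|a 58<|a 60<|a 8<|a 24<|a 32<|b)<|c (a 3<|a 58<|a 60<|a 8<|a 24<|a 32<|b)<|c (a 27<|a 42<|a 60<|a 8<|a 24<|a 32<|b)<|c (a 19<|a 42<|a 60<|a 8<|a 24<|a 32<|b)<|d))));
 (let d:=(let d:=(let d:=(c (a 35<|a 26<|a 12<|a 8<|a 24<|a 32<|b)<|c (a 43<|a 26<|a 12<|a 8<|a 24<|a 32<|b)<|c (a 51<|a 10<|a 12<|a 8<|a 24<|a 32<|b)<|c (a 59<|a 10<|a 12<|a 8<|a 24<|a 32<|b)<|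
 d);
 (c (a 35<|a 26<|a 44<|a 8<|a 24<|a 32<|b)<|c (a 43<|a 26<|a 44<|a 8<|a 24<|a 32<|b)<|
 c (a 51<|a 10<|a 44<|a 8<|a 24<|a 32<|b)<|c (a 59<|a 10<|a 44<|a 8<|a 24<|a 32<|b)<|d));
 (let d:=(c (a 35<|a 2<|a 12<|a 8<|a 24<|a 32<|b)<|c (a 43<|a 2<|a 12<|a 8<|a 24<|a 32<|b)<|c (a 51<|a 18<|a 12<|a 8<|a 24<|a 32<|b)<|c (a 59<|a 18<|a 12<|a 8<|a 24<|a 32<|b)<|d);
 (c (a 35<|a 2<|a 44<|a 8<|a 24<|a 32<|b)<|c (a 43<|a 2<|a 44<|a 8<|a 24<|a 32<|b)<|c (a 51<|a 18<|a 44<|a 8<|a 24<|a 32<|b)<|c (a 59<|a 18<|a 44<|a 8<|a 24<|a 32<|b)<|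
 d)));
 (let d:=(let d:=(c (a 11<|a 26<|a 36<|a 8<|a 24<|a 32<|b)<|c (a 3<|a 26<|a 36<|a 8<|a 24<|a 32<|b)<|
 c (a 27<|a 10<|a 36<|a 8<|a 24<|a 32<|b)<|c (a 19<|a 10<|a 36<|a 8<|a 24<|a 32<|b)<|d);
 (c (a 11<|a 26<|a 4<|a 8<|a 24<|a 32<|b)<|c (a 3<|a 26<|a 4<|a 8<|a 24<|a 32<|b)<|c (a 27<|a 10<|a 4<|a 8<|a 24<|a 32<|b)<|c (a 19<|a 10<|a 4<|a 8<|a 24<|a 32<|b)<|d));
 (let d:=(c (a 11<|a 2<|a 36<|a 8<|a 24<|a 32<|b)<|c (a 3<|a 2<|a 36<|a 8<|a 24<|a 32<|b)<|c (a 27<|a 18<|a 36<|a 8<|a 24<|a 32<|b)<|c (a 19<|a 18<|a 36<|a 8<|a 24<|a 32<|b)<|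
 d);
 (c (a 11<|a 2<|a 4<|a 8<|a 24<|a 32<|b)<|c (a 3<|a 2<|a 4<|a 8<|a 24<|a 32<|b)<|
 c (a 27<|a 18<|a 4<|a 8<|a 24<|a 32<|b)<|c (a 19<|a 18<|a 4<|a 8<|a 24<|a 32<|b)<|d)))));
 (let d:=(let d:=(let d:=(let d:=(c (a 41<|a 34<|a 60<|a 8<|a 16<|a 32<|b)<|c (a 33<|a 34<|a 60<|a 8<|a 16<|a 32<|b)<|c (a 49<|a 58<|a 60<|a 8<|a 16<|a 32<|b)<|c (a 57<|a 58<|a 60<|a 8<|a 16<|a 32<|b)<|d);
 (c (a 41<|a 34<|a 28<|a 8<|a 16<|a 32<|b)<|c (a 33<|a 34<|a 28<|a 8<|a 16<|a 32<|b)<|c (a 49<|a 58<|a 28<|a 8<|a 16<|a 32<|b)<|c (a 57<|a 58<|a 28<|a 8<|a 16<|a 32<|b)<|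
 d));
 (let d:=(c (a 41<|a 50<|a 60<|a 8<|a 16<|a 32<|b)<|c (a 33<|a 50<|a 60<|a 8<|a 16<|a 32<|b)<|
 c (a 49<|a 42<|a 60<|a 8<|a 16<|a 32<|b)<|c (a 57<|a 42<|a 60<|a 8<|a 16<|a 32<|b)<|d);
 (c (a 41<|a 50<|a 28<|a 8<|a 16<|a 32<|b)<|c (a 33<|a 50<|a 28<|a 8<|a 16<|a 32<|b)<|c (a 49<|a 42<|a 28<|a 8<|a 16<|a 32<|b)<|c (a 57<|a 42<|a 28<|a 8<|a 16<|a 32<|b)<|d)));
 (let d:=(let d:=(c (a 1<|a 34<|a 20<|a 8<|a 16<|a 32<|b)<|c (a 9<|a 34<|a 20<|a 8<|a 16<|a 32<|b)<|c (a 25<|a 58<|a 20<|a 8<|a 16<|a 32<|b)<|c (a 17<|a 58<|a 20<|a 8<|a 16<|a 32<|b)<|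
 d);
 (c (a 1<|a 34<|a 52<|a 8<|a 16<|a 32<|b)<|c (a 9<|a 34<|a 52<|a 8<|a 16<|a 32<|b)<|
 c (a 25<|a 58<|a 52<|a 8<|a 16<|a 32<|b)<|c (a 17<|a 58<|a 52<|a 8<|a 16<|a 32<|b)<|d));
 (let d:=(c (a 1<|a 50<|a 20<|a 8<|a 16<|a 32<|b)<|c (a 9<|a 50<|a 20<|a 8<|a 16<|a 32<|b)<|c (a 25<|a 42<|a 20<|a 8<|a 16<|a 32<|b)<|c (a 17<|a 42<|a 20<|a 8<|a 16<|a 32<|b)<|d);
 (c (a 1<|a 50<|a 52<|a 8<|a 16<|a 32<|b)<|c (a 9<|a 50<|a 52<|a 8<|a 16<|a 32<|b)<|c (a 25<|a 42<|a 52<|a 8<|a 16<|a 32<|b)<|c (a 17<|a 42<|a 52<|a 8<|a 16<|a 32<|b)<|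
 d))));
 (let d:=(let d:=(let d:=(c (a 41<|a 18<|a 12<|a 8<|a 16<|a 32<|b)<|c (a 33<|a 18<|a 12<|a 8<|a 16<|a 32<|b)<|
 c (a 49<|a 10<|a 12<|a 8<|a 16<|a 32<|b)<|c (a 57<|a 10<|a 12<|a 8<|a 16<|a 32<|b)<|d);
 (c (a 41<|a 18<|a 44<|a 8<|a 16<|a 32<|b)<|c (a 33<|a 18<|a 44<|a 8<|a 16<|a 32<|b)<|c (a 49<|a 10<|a 44<|a 8<|a 16<|a 32<|b)<|c (a 57<|a 10<|a 44<|a 8<|a 16<|a 32<|b)<|d));
 (let d:=(c (a 41<|a 2<|a 12<|a 8<|a 16<|a 32<|b)<|c (a 33<|a 2<|a 12<|a 8<|a 16<|a 32<|b)<|c (a 49<|a 26<|a 12<|a 8<|a 16<|a 32<|b)<|c (a 57<|a 26<|a 12<|a 8<|a 16<|a 32<|b)<|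
 d);
 (c (a 41<|a 2<|a 44<|a 8<|a 16<|a 32<|b)<|c (a 33<|a 2<|a 44<|a 8<|a 16<|a 32<|b)<|
 c (a 49<|a 26<|a 44<|a 8<|a 16<|a 32<|b)<|c (a 57<|a 26<|a 44<|a 8<|a 16<|a 32<|b)<|d)));
 (let d:=(let d:=(c (a 1<|a 18<|a 36<|a 8<|a 16<|a 32<|b)<|c (a 9<|a 18<|a 36<|a 8<|a 16<|a 32<|b)<|c (a 25<|a 10<|a 36<|a 8<|a 16<|a 32<|b)<|c (a 17<|a 10<|a 36<|a 8<|a 16<|a 32<|b)<|d);
 (c (a 1<|a 18<|a 4<|a 8<|a 16<|a 32<|b)<|c (a 9<|a 18<|a 4<|a 8<|a 16<|a 32<|b)<|c (a 25<|a 10<|a 4<|a 8<|a 16<|a 32<|b)<|c (a 17<|a 10<|a 4<|a 8<|a 16<|a 32<|b)<|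
 d));
 (let d:=(c (a 1<|a 2<|a 36<|a 8<|a 16<|a 32<|b)<|c (a 9<|a 2<|a 36<|a 8<|a 16<|a 32<|b)<|
 c (a 25<|a 26<|a 36<|a 8<|a 16<|a 32<|b)<|c (a 17<|a 26<|a 36<|a 8<|a 16<|a 32<|b)<|d);
 (a (a 1<|a 2<|a 4<|a 8<|a 16<|a 32<|b)<|a (a 9<|a 2<|a 4<|a 8<|a 16<|a 32<|b)<|a (a 25<|a 26<|a 4<|a 8<|a 16<|a 32<|b)<|a (a 17<|a 26<|a 4<|a 8<|a 16<|a 32<|b)<|d)))))))
  Gw := (beta% delta% lq26e5b57e8d fun a b _ _ _ _ _ =>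
 (a (a 1<|b)<|a (a 3<|b)<|a (a 4<|b)<|a (a 2<|b)<|a (a 5<|b)<|a (a 6<|b)<|a (a 16<|a 17<|b)<|b))
  T := (beta% delta% lq26e5b57e8d fun a b c _ _ _ _ =>
 (let d:=(let d:=(let d:=(let d:=(let d:=(c (a 125<|a 116<|a 120<|a 126<|a 108<|a 67<|a 60<|b)<|
 c (a 124<|a 117<|a 121<|a 127<|a 109<|a 66<|a 61<|b)<|c (a 127<|a 118<|a 122<|a 124<|a 110<|a 65<|a 62<|b)<|c (a 126<|a 119<|a 123<|a 125<|a 111<|a 64<|a 63<|b)<|b);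
 (c (a 121<|a 112<|a 124<|a 122<|a 104<|a 71<|a 56<|b)<|
 c (a 120<|a 113<|a 125<|a 123<|a 105<|a 70<|a 57<|b)<|c (a 123<|a 114<|a 126<|a 120<|a 106<|a 69<|a 58<|b)<|c (a 122<|a 115<|a 127<|a 121<|a 107<|a 68<|a 59<|b)<|d));
 (let d:=(c (a 117<|a 124<|a 112<|a 118<|a 100<|a 75<|a 52<|b)<|
 c (a 116<|a 125<|a 113<|a 119<|a 101<|a 74<|a 53<|b)<|c (a 119<|a 126<|a 114<|a 116<|a 102<|a 73<|a 54<|b)<|c (a 118<|a 127<|a 115<|a 117<|a 103<|a 72<|a 55<|b)<|d);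
 (c (a 113<|a 120<|a 116<|a 114<|a 96<|a 79<|a 48<|b)<|
 c (a 112<|a 121<|a 117<|a 115<|a 97<|a 78<|a 49<|b)<|c (a 115<|a 122<|a 118<|a 112<|a 98<|a 77<|a 50<|b)<|c (a 114<|a 123<|a 119<|a 113<|a 99<|a 76<|a 51<|b)<|d)));
 (let d:=(let d:=(c (a 109<|a 100<|a 104<|a 110<|a 124<|a 83<|a 44<|b)<|
 c (a 108<|a 101<|a 105<|a 111<|a 125<|a 82<|a 45<|b)<|c (a 111<|a 102<|a 106<|a 108<|a 126<|a 81<|a 46<|b)<|c (a 110<|a 103<|a 107<|a 109<|a 127<|a 80<|a 47<|b)<|d);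
 (c (a 105<|a 96<|a 108<|a 106<|a 120<|a 87<|a 40<|b)<|
 c (a 104<|a 97<|a 109<|a 107<|a 121<|a 86<|a 41<|b)<|c (a 107<|a 98<|a 110<|a 104<|a 122<|a 85<|a 42<|b)<|c (a 106<|a 99<|a 111<|a 105<|a 123<|a 84<|a 43<|b)<|d));
 (let d:=(c (a 101<|a 108<|a 96<|a 102<|a 116<|a 91<|a 36<|b)<|
 c (a 100<|a 109<|a 97<|a 103<|a 117<|a 90<|a 37<|b)<|c (a 103<|a 110<|a 98<|a 100<|a 118<|a 89<|a 38<|b)<|c (a 102<|a 111<|a 99<|a 101<|a 119<|a 88<|a 39<|b)<|d);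
 (c (a 97<|a 104<|a 100<|a 98<|a 112<|a 95<|a 32<|b)<|
 c (a 96<|a 105<|a 101<|a 99<|a 113<|a 94<|a 33<|b)<|c (a 99<|a 106<|a 102<|a 96<|a 114<|a 93<|a 34<|b)<|c (a 98<|a 107<|a 103<|a 97<|a 115<|a 92<|a 35<|b)<|d))));
 (let d:=(let d:=(let d:=(c (a 93<|a 84<|a 88<|a 94<|a 76<|a 99<|a 28<|b)<|c (a 92<|a 85<|a 89<|a 95<|a 77<|a 98<|a 29<|b)<|c (a 95<|a 86<|a 90<|a 92<|a 78<|a 97<|a 30<|b)<|c (a 94<|a 87<|a 91<|a 93<|a 79<|a 96<|a 31<|b)<|d);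
 (c (a 89<|a 80<|a 92<|a 90<|a 72<|a 103<|a 24<|b)<|c (a 88<|a 81<|a 93<|a 91<|a 73<|a 102<|a 25<|b)<|c (a 91<|a 82<|a 94<|a 88<|a 74<|a 101<|a 26<|b)<|c (a 90<|a 83<|a 95<|a 89<|a 75<|a 100<|a 27<|b)<|
 d));
 (let d:=(c (a 85<|a 92<|a 80<|a 86<|a 68<|a 107<|a 20<|b)<|c (a 84<|a 93<|a 81<|a 87<|a 69<|a 106<|a 21<|b)<|c (a 87<|a 94<|a 82<|a 84<|a 70<|a 105<|a 22<|b)<|c (a 86<|a 95<|a 83<|a 85<|a 71<|a 104<|a 23<|b)<|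
 d);
 (c (a 81<|a 88<|a 84<|a 82<|a 64<|a 111<|a 16<|b)<|c (a 80<|a 89<|a 85<|a 83<|a 65<|a 110<|a 17<|b)<|c (a 83<|a 90<|a 86<|a 80<|a 66<|a 109<|a 18<|b)<|c (a 82<|a 91<|a 87<|a 81<|a 67<|a 108<|a 19<|b)<|
 d)));
 (let d:=(let d:=(c (a 77<|a 68<|a 72<|a 78<|a 92<|a 115<|a 12<|b)<|c (a 76<|a 69<|a 73<|a 79<|a 93<|a 114<|a 13<|b)<|c (a 79<|a 70<|a 74<|a 76<|a 94<|a 113<|a 14<|b)<|c (a 78<|a 71<|a 75<|a 77<|a 95<|a 112<|a 15<|b)<|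
 d);
 (c (a 73<|a 64<|a 76<|a 74<|a 88<|a 119<|a 8<|b)<|c (a 72<|a 65<|a 77<|a 75<|a 89<|a 118<|a 9<|b)<|c (a 75<|a 66<|a 78<|a 72<|a 90<|a 117<|a 10<|b)<|c (a 74<|a 67<|a 79<|a 73<|a 91<|a 116<|a 11<|b)<|
 d));
 (let d:=(c (a 69<|a 76<|a 64<|a 70<|a 84<|a 123<|a 4<|b)<|c (a 68<|a 77<|a 65<|a 71<|a 85<|a 122<|a 5<|b)<|c (a 71<|a 78<|a 66<|a 68<|a 86<|a 121<|a 6<|b)<|
 c (a 70<|a 79<|a 67<|a 69<|a 87<|a 120<|a 7<|b)<|d);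
 (c (a 65<|a 72<|a 68<|a 66<|a 80<|a 127<|a 0<|b)<|c (a 64<|a 73<|a 69<|a 67<|a 81<|a 126<|a 1<|b)<|
 c (a 67<|a 74<|a 70<|a 64<|a 82<|a 125<|a 2<|b)<|c (a 66<|a 75<|a 71<|a 65<|a 83<|a 124<|a 3<|b)<|d)))));
 (let d:=(let d:=(let d:=(let d:=(c (a 61<|a 62<|a 56<|a 52<|a 44<|a 28<|a 124<|b)<|
 c (a 60<|a 63<|a 57<|a 53<|a 45<|a 29<|a 125<|b)<|c (a 63<|a 60<|a 58<|a 54<|a 46<|a 30<|a 126<|b)<|c (a 62<|a 61<|a 59<|a 55<|a 47<|a 31<|a 127<|b)<|d);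
 (c (a 57<|a 58<|a 60<|a 48<|a 40<|a 24<|a 120<|b)<|
 c (a 56<|a 59<|a 61<|a 49<|a 41<|a 25<|a 121<|b)<|c (a 59<|a 56<|a 62<|a 50<|a 42<|a 26<|a 122<|b)<|c (a 58<|a 57<|a 63<|a 51<|a 43<|a 27<|a 123<|b)<|d));
 (let d:=(c (a 53<|a 54<|a 48<|a 60<|a 36<|a 20<|a 116<|b)<|
 c (a 52<|a 55<|a 49<|a 61<|a 37<|a 21<|a 117<|b)<|c (a 55<|a 52<|a 50<|a 62<|a 38<|a 22<|a 118<|b)<|c (a 54<|a 53<|a 51<|a 63<|a 39<|a 23<|a 119<|b)<|d);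
 (c (a 49<|a 50<|a 52<|a 56<|a 32<|a 16<|a 112<|b)<|
 c (a 48<|a 51<|a 53<|a 57<|a 33<|a 17<|a 113<|b)<|c (a 51<|a 48<|a 54<|a 58<|a 34<|a 18<|a 114<|b)<|c (a 50<|a 49<|a 55<|a 59<|a 35<|a 19<|a 115<|b)<|d)));
 (let d:=(let d:=(c (a 45<|a 46<|a 40<|a 36<|a 60<|a 12<|a 108<|b)<|
 c (a 44<|a 47<|a 41<|a 37<|a 61<|a 13<|a 109<|b)<|c (a 47<|a 44<|a 42<|a 38<|a 62<|a 14<|a 110<|b)<|c (a 46<|a 45<|a 43<|a 39<|a 63<|a 15<|a 111<|b)<|d);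
 (c (a 41<|a 42<|a 44<|a 32<|a 56<|a 8<|a 104<|b)<|c (a 40<|a 43<|a 45<|a 33<|a 57<|a 9<|a 105<|b)<|c (a 43<|a 40<|a 46<|a 34<|a 58<|a 10<|a 106<|b)<|c (a 42<|a 41<|a 47<|a 35<|a 59<|a 11<|a 107<|b)<|d));
 (let d:=(c (a 37<|a 38<|a 32<|a 44<|a 52<|a 4<|a 100<|b)<|c (a 36<|a 39<|a 33<|a 45<|a 53<|a 5<|a 101<|b)<|c (a 39<|a 36<|a 34<|a 46<|a 54<|a 6<|a 102<|b)<|c (a 38<|a 37<|a 35<|a 47<|a 55<|a 7<|a 103<|b)<|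
 d);
 (c (a 33<|a 34<|a 36<|a 40<|a 48<|a 0<|a 96<|b)<|c (a 32<|a 35<|a 37<|a 41<|a 49<|a 1<|a 97<|b)<|c (a 35<|a 32<|a 38<|a 42<|a 50<|a 2<|a 98<|b)<|
 c (a 34<|a 33<|a 39<|a 43<|a 51<|a 3<|a 99<|b)<|d))));
 (let d:=(let d:=(let d:=(c (a 29<|a 30<|a 24<|a 20<|a 12<|a 60<|a 92<|b)<|c (a 28<|a 31<|a 25<|a 21<|a 13<|a 61<|a 93<|b)<|
 c (a 31<|a 28<|a 26<|a 22<|a 14<|a 62<|a 94<|b)<|c (a 30<|a 29<|a 27<|a 23<|a 15<|a 63<|a 95<|b)<|d);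
 (c (a 25<|a 26<|a 28<|a 16<|a 8<|a 56<|a 88<|b)<|
 c (a 24<|a 27<|a 29<|a 17<|a 9<|a 57<|a 89<|b)<|c (a 27<|a 24<|a 30<|a 18<|a 10<|a 58<|a 90<|b)<|c (a 26<|a 25<|a 31<|a 19<|a 11<|a 59<|a 91<|b)<|d));
 (let d:=(c (a 21<|a 22<|a 16<|a 28<|a 4<|a 52<|a 84<|b)<|c (a 20<|a 23<|a 17<|a 29<|a 5<|a 53<|a 85<|b)<|c (a 23<|a 20<|a 18<|a 30<|a 6<|a 54<|a 86<|b)<|c (a 22<|a 21<|a 19<|a 31<|a 7<|a 55<|a 87<|b)<|d);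
 (c (a 17<|a 18<|a 20<|a 24<|a 0<|a 48<|a 80<|b)<|c (a 16<|a 19<|a 21<|a 25<|a 1<|a 49<|a 81<|b)<|c (a 19<|a 16<|a 22<|a 26<|a 2<|a 50<|a 82<|b)<|c (a 18<|a 17<|a 23<|a 27<|a 3<|a 51<|a 83<|b)<|
 d)));
 (let d:=(let d:=(c (a 13<|a 14<|a 8<|a 4<|a 28<|a 44<|a 76<|b)<|c (a 12<|a 15<|a 9<|a 5<|a 29<|a 45<|a 77<|b)<|c (a 15<|a 12<|a 10<|a 6<|a 30<|a 46<|a 78<|b)<|
 c (a 14<|a 13<|a 11<|a 7<|a 31<|a 47<|a 79<|b)<|d);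
 (c (a 9<|a 10<|a 12<|a 0<|a 24<|a 40<|a 72<|b)<|c (a 8<|a 11<|a 13<|a 1<|a 25<|a 41<|a 73<|b)<|
 c (a 11<|a 8<|a 14<|a 2<|a 26<|a 42<|a 74<|b)<|c (a 10<|a 9<|a 15<|a 3<|a 27<|a 43<|a 75<|b)<|d));
 (let d:=(c (a 5<|a 6<|a 0<|a 12<|a 20<|a 36<|a 68<|b)<|
 c (a 4<|a 7<|a 1<|a 13<|a 21<|a 37<|a 69<|b)<|c (a 7<|a 4<|a 2<|a 14<|a 22<|a 38<|a 70<|b)<|c (a 6<|a 5<|a 3<|a 15<|a 23<|a 39<|a 71<|b)<|d);
 (a (a 1<|a 2<|a 4<|a 8<|a 16<|a 32<|a 64<|b)<|a (a 0<|a 3<|a 5<|a 9<|a 17<|a 33<|a 65<|b)<|a (a 3<|a 0<|a 6<|a 10<|a 18<|a 34<|a 66<|b)<|a (a 2<|a 1<|a 7<|a 11<|a 19<|a 35<|a 67<|b)<|d)))))))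
  par := (beta% delta% lq26e5b57e8d fun a b _ e _ g _ =>
 (let d:=(let d:=(let d:=(let d:=(let d:=(g (e 60 6)<|g (e 61 6)<|g (e 62 6)<|g (e 63 6)<|b);
 (g (e 56 6)<|g (e 57 6)<|g (e 58 6)<|g (e 59 6)<|d));
 (let d:=(g (e 52 6)<|g (e 53 6)<|g (e 54 6)<|g (e 55 6)<|
 d);
 (g (e 48 6)<|g (e 49 6)<|g (e 50 6)<|g (e 51 6)<|d)));
 (let d:=(let d:=(g (e 44 6)<|g (e 45 6)<|g (e 46 6)<|g (e 47 6)<|d);
 (g (e 40 6)<|g (e 41 6)<|g (e 42 6)<|g (e 43 6)<|d));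
 (let d:=(g (e 36 6)<|g (e 37 6)<|g (e 38 6)<|g (e 39 6)<|
 d);
 (g (e 32 6)<|g (e 33 6)<|g (e 34 6)<|g (e 35 6)<|d))));
 (let d:=(let d:=(let d:=(g (e 28 6)<|g (e 29 6)<|g (e 30 6)<|g (e 31 6)<|d);
 (g (e 24 6)<|g (e 25 6)<|g (e 26 6)<|g (e 27 6)<|d));
 (let d:=(g (e 20 6)<|g (e 21 6)<|g (e 22 6)<|g (e 23 6)<|
 d);
 (g (e 16 6)<|g (e 17 6)<|g (e 18 6)<|g (e 19 6)<|d)));
 (let d:=(let d:=(g (e 12 6)<|g (e 13 6)<|g (e 14 6)<|g (e 15 6)<|d);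
 (g (e 8 6)<|g (e 9 6)<|g (e 10 6)<|g (e 11 6)<|d));
 (let d:=(g (e 4 6)<|g (e 5 6)<|g (e 6 6)<|g (e 7 6)<|
 d);
 (g (e 0 6)<|g (e 1 6)<|g (e 2 6)<|g (e 3 6)<|d)))));
 (let d:=(let d:=(let d:=(let d:=(g (e 28 5)<|g (e 29 5)<|g (e 30 5)<|g (e 31 5)<|d);
 (g (e 24 5)<|g (e 25 5)<|g (e 26 5)<|g (e 27 5)<|d));
 (let d:=(g (e 20 5)<|g (e 21 5)<|g (e 22 5)<|
 g (e 23 5)<|d);
 (g (e 16 5)<|g (e 17 5)<|g (e 18 5)<|g (e 19 5)<|d)));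
 (let d:=(let d:=(g (e 12 5)<|g (e 13 5)<|g (e 14 5)<|g (e 15 5)<|d);
 (g (e 8 5)<|g (e 9 5)<|g (e 10 5)<|g (e 11 5)<|d));
 (let d:=(g (e 4 5)<|g (e 5 5)<|
 g (e 6 5)<|g (e 7 5)<|d);
 (g (e 0 5)<|g (e 1 5)<|g (e 2 5)<|g (e 3 5)<|d))));
 (let d:=(let d:=(let d:=(g (e 12 4)<|g (e 13 4)<|g (e 14 4)<|g (e 15 4)<|d);
 (g (e 8 4)<|g (e 9 4)<|g (e 10 4)<|g (e 11 4)<|d));
 (let d:=(g (e 4 4)<|g (e 5 4)<|g (e 6 4)<|g (e 7 4)<|d);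
 (g (e 0 4)<|g (e 1 4)<|g (e 2 4)<|g (e 3 4)<|
 d)));
 (let d:=(let d:=(g (e 4 3)<|g (e 5 3)<|g (e 6 3)<|g (e 7 3)<|d);
 (g (e 0 3)<|g (e 1 3)<|g (e 2 3)<|g (e 3 3)<|d));
 (a (e 0 0)<|a (e 0 1)<|a (e 1 1)<|a (e 0 2)<|a (e 1 2)<|a (e 2 2)<|a (e 3 2)<|d))))))
  idx := (beta% delta% lq26e5b57e8d fun a b _ _ f _ _ =>
 (let d:=(let d:=(let d:=(let d:=(let d:=(f 82<|
 f 28<|f 89<|f 41<|b);
 (f 407<|f 369<|f 281<|f 116<|d));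
 (let d:=(f 35<|f 39<|f 32<|f 79<|d);
 (f 190<|f 204<|f 391<|f 392<|d)));
 (let d:=(let d:=(f 366<|f 398<|f 199<|f 193<|d);
 (f 78<|f 83<|f 8<|f 86<|d));
 (let d:=(f 201<|f 278<|f 387<|f 386<|d);
 (f 42<|f 88<|f 76<|f 84<|d))));
 (let d:=(let d:=(let d:=(f 93<|
 f 264<|f 306<|f 315<|d);
 (f 103<|f 114<|f 139<|f 145<|d));
 (let d:=(f 212<|f 223<|f 166<|f 178<|d);
 (f 64<|f 68<|f 107<|f 110<|d)));
 (let d:=(let d:=(f 109<|f 185<|f 71<|f 227<|d);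
 (f 268<|f 171<|f 225<|f 214<|d));
 (let d:=(f 22<|f 137<|f 46<|f 188<|d);
 (f 134<|f 125<|f 267<|f 172<|d)))));
 (let d:=(let d:=(let d:=(let d:=(f 240<|f 219<|f 127<|
 f 208<|d);
 (f 234<|f 122<|f 152<|f 131<|d));
 (let d:=(f 241<|f 236<|f 243<|f 218<|d);
 (f 220<|f 239<|f 209<|f 233<|d)));
 (let d:=(let d:=(f 54<|f 229<|f 147<|f 129<|d);
 (f 128<|f 153<|f 155<|f 242<|d));
 (let d:=(f 59<|f 73<|f 141<|f 120<|d);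
 (f 119<|f 216<|
 f 312<|f 237<|d))));
 (let d:=(let d:=(let d:=(f 23<|f 138<|f 53<|f 58<|d);
 (f 310<|f 245<|f 143<|f 149<|d));
 (let d:=(f 17<|f 15<|f 65<|f 69<|d);
 (f 118<|f 57<|f 313<|f 246<|d)));
 (let d:=(let d:=(f 217<|f 244<|f 75<|f 231<|d);
 (f 14<|f 56<|f 3<|f 2<|d));
 (let d:=(f 52<|f 126<|f 311<|f 156<|d);
 (a 0<|a 1<|a 51<|a 16<|d)))))))

theorem tb4_ok : chkT tb4 = true := chkT_of (by decide +kernel)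

theorem tb4_idx : chkI fo tb4.E tb4.idx = true := chkI_of fo_fit (by decide +kernel)

theorem tb4_p64 : chkP tb4 64 6 = true := chkP_of (by decide +kernel)

theorem tb4_p128 : chkP tb4 128 7 = true := chkP_of (by decide +kernel)

/-- a table -/
def tb5 : TD where
  E := (beta% delta% lq26e5b57e8d fun a b _ _ _ _ _ =>
 (a (a 1<|a 2<|a 4<|a 8<|a 16<|a 32<|b)<|a (a 5<|a 44<|a 18<|a 8<|a 40<|a 16<|b)<|a (a 23<|a 10<|a 4<|a 8<|a 24<|a 40<|b)<|a (a 19<|a 36<|a 18<|a 8<|a 32<|a 24<|b)<|a (a 57<|a 10<|a 12<|a 8<|a 16<|a 32<|b)<|a (a 53<|a 36<|a 26<|a 8<|a 40<|a 16<|b)<|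
 a (a 47<|a 2<|a 12<|a 8<|a 24<|a 40<|b)<|a (a 35<|a 44<|a 26<|a 8<|a 32<|a 24<|b)<|a (a 31<|a 28<|a 4<|a 8<|a 14<|a 62<|b)<|a (a 27<|a 50<|a 18<|a 8<|a 54<|a 14<|b)<|a (a 9<|a 20<|a 4<|a 8<|a 6<|a 54<|b)<|a (a 13<|a 58<|a 18<|a 8<|a 62<|a 6<|b)<|
 a (a 39<|a 20<|a 12<|a 8<|a 14<|a 62<|b)<|a (a 43<|a 58<|a 26<|a 8<|a 54<|a 14<|b)<|a (a 49<|a 28<|a 12<|a 8<|a 6<|a 54<|b)<|a (a 61<|a 50<|a 26<|a 8<|a 62<|a 6<|b)<|b))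
  Gw := (beta% delta% lq26e5b57e8d fun a b _ _ _ _ _ =>
 (a (a 38<|a 39<|a 1<|a 6<|a 50<|a 53<|b)<|a (a 6<|a 7<|b)<|a (a 51<|b)<|b))
  T := (beta% delta% lq26e5b57e8d fun a b _ _ _ _ _ =>
 (a (a 1<|a 4<|a 8<|b)<|a (a 2<|a 5<|a 9<|b)<|a (a 3<|a 6<|a 10<|b)<|a (a 0<|a 7<|a 11<|b)<|a (a 5<|a 0<|a 12<|b)<|a (a 6<|a 1<|a 13<|b)<|a (a 7<|a 2<|a 14<|b)<|a (a 4<|a 3<|a 15<|b)<|a (a 9<|a 12<|a 0<|b)<|a (a 10<|a 13<|a 1<|b)<|a (a 11<|a 14<|a 2<|b)<|a (a 8<|a 15<|a 3<|b)<|a (a 13<|a 8<|a 4<|b)<|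
 a (a 14<|a 9<|a 5<|b)<|a (a 15<|a 10<|a 6<|b)<|a (a 12<|a 11<|a 7<|b)<|b))
  par := (beta% delta% lq26e5b57e8d fun a b _ e _ _ _ =>
 (a (e 0 0)<|a (e 1 0)<|a (e 2 0)<|a (e 0 1)<|a (e 1 1)<|a (e 2 1)<|a (e 3 1)<|a (e 0 2)<|a (e 1 2)<|a (e 2 2)<|a (e 3 2)<|a (e 4 2)<|a (e 5 2)<|a (e 6 2)<|a (e 7 2)<|b))
  idx := (beta% delta% lq26e5b57e8d fun a b _ _ _ _ _ =>
 (a 0<|a 436<|a 308<|a 437<|a 58<|a 438<|a 318<|a 439<|a 440<|a 441<|a 442<|a 443<|a 444<|a 445<|a 446<|a 447<|b))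

theorem tb5_ok : chkT tb5 = true := chkT_of (by decide +kernel)

theorem tb5_idx : chkI fo tb5.E tb5.idx = true := chkI_of fo_fit (by decide +kernel)

theorem tb5_p8 : chkP tb5 8 2 = true := chkP_of (by decide +kernel)

theorem tb5_p16 : chkP tb5 16 3 = true := chkP_of (by decide +kernel)

/-- a table -/
def tb6 : TD where
  E := (beta% delta% lq26e5b57e8d fun a b c _ _ _ _ =>
 (let d:=(let d:=(let d:=(let d:=(c (a 51<|a 6<|a 12<|a 8<|a 24<|a 56<|b)<|c (a 59<|a 6<|a 12<|a 8<|a 24<|a 56<|b)<|c (a 35<|a 14<|a 12<|a 8<|a 24<|a 56<|b)<|c (a 43<|a 14<|a 12<|a 8<|a 24<|a 56<|b)<|b);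
 (c (a 3<|a 6<|a 4<|a 8<|a 24<|a 56<|b)<|c (a 11<|a 6<|a 4<|a 8<|a 24<|a 56<|b)<|c (a 19<|a 14<|a 4<|a 8<|a 24<|a 56<|b)<|c (a 27<|a 14<|a 4<|a 8<|a 24<|a 56<|b)<|
 d));
 (let d:=(c (a 55<|a 6<|a 12<|a 8<|a 24<|a 48<|b)<|c (a 63<|a 6<|a 12<|a 8<|a 24<|a 48<|b)<|
 c (a 39<|a 14<|a 12<|a 8<|a 24<|a 48<|b)<|c (a 47<|a 14<|a 12<|a 8<|a 24<|a 48<|b)<|d);
 (c (a 15<|a 6<|a 4<|a 8<|a 24<|a 48<|b)<|c (a 7<|a 6<|a 4<|a 8<|a 24<|a 48<|b)<|c (a 31<|a 14<|a 4<|a 8<|a 24<|a 48<|b)<|c (a 23<|a 14<|a 4<|a 8<|a 24<|a 48<|b)<|d)));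
 (let d:=(let d:=(c (a 61<|a 6<|a 12<|a 8<|a 16<|a 56<|b)<|c (a 53<|a 6<|a 12<|a 8<|a 16<|a 56<|b)<|c (a 37<|a 14<|a 12<|a 8<|a 16<|a 56<|b)<|c (a 45<|a 14<|a 12<|a 8<|a 16<|a 56<|b)<|
 d);
 (c (a 13<|a 6<|a 4<|a 8<|a 16<|a 56<|b)<|c (a 5<|a 6<|a 4<|a 8<|a 16<|a 56<|b)<|
 c (a 21<|a 14<|a 4<|a 8<|a 16<|a 56<|b)<|c (a 29<|a 14<|a 4<|a 8<|a 16<|a 56<|b)<|d));
 (let d:=(c (a 57<|a 6<|a 12<|a 8<|a 16<|a 48<|b)<|c (a 49<|a 6<|a 12<|a 8<|a 16<|a 48<|b)<|c (a 33<|a 14<|a 12<|a 8<|a 16<|a 48<|b)<|c (a 41<|a 14<|a 12<|a 8<|a 16<|a 48<|b)<|d);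
 (c (a 1<|a 6<|a 4<|a 8<|a 16<|a 48<|b)<|c (a 9<|a 6<|a 4<|a 8<|a 16<|a 48<|b)<|c (a 25<|a 14<|a 4<|a 8<|a 16<|a 48<|b)<|c (a 17<|a 14<|a 4<|a 8<|a 16<|a 48<|b)<|
 d))));
 (let d:=(let d:=(let d:=(c (a 39<|a 2<|a 12<|a 8<|a 24<|a 40<|b)<|c (a 47<|a 2<|a 12<|a 8<|a 24<|a 40<|b)<|
 c (a 55<|a 10<|a 12<|a 8<|a 24<|a 40<|b)<|c (a 63<|a 10<|a 12<|a 8<|a 24<|a 40<|b)<|d);
 (c (a 7<|a 2<|a 4<|a 8<|a 24<|a 40<|b)<|c (a 15<|a 2<|a 4<|a 8<|a 24<|a 40<|b)<|c (a 23<|a 10<|a 4<|a 8<|a 24<|a 40<|b)<|c (a 31<|a 10<|a 4<|a 8<|a 24<|a 40<|b)<|d));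
 (let d:=(c (a 35<|a 2<|a 12<|a 8<|a 24<|a 32<|b)<|c (a 43<|a 2<|a 12<|a 8<|a 24<|a 32<|b)<|c (a 51<|a 10<|a 12<|a 8<|a 24<|a 32<|b)<|c (a 59<|a 10<|a 12<|a 8<|a 24<|a 32<|b)<|
 d);
 (c (a 11<|a 2<|a 4<|a 8<|a 24<|a 32<|b)<|c (a 3<|a 2<|a 4<|a 8<|a 24<|a 32<|b)<|
 c (a 27<|a 10<|a 4<|a 8<|a 24<|a 32<|b)<|c (a 19<|a 10<|a 4<|a 8<|a 24<|a 32<|b)<|d)));
 (let d:=(let d:=(c (a 45<|a 2<|a 12<|a 8<|a 16<|a 40<|b)<|c (a 37<|a 2<|a 12<|a 8<|a 16<|a 40<|b)<|c (a 53<|a 10<|a 12<|a 8<|a 16<|a 40<|b)<|c (a 61<|a 10<|a 12<|a 8<|a 16<|a 40<|b)<|d);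
 (c (a 13<|a 2<|a 4<|a 8<|a 16<|a 40<|b)<|c (a 5<|a 2<|a 4<|a 8<|a 16<|a 40<|b)<|c (a 21<|a 10<|a 4<|a 8<|a 16<|a 40<|b)<|c (a 29<|a 10<|a 4<|a 8<|a 16<|a 40<|b)<|
 d));
 (let d:=(c (a 41<|a 2<|a 12<|a 8<|a 16<|a 32<|b)<|c (a 33<|a 2<|a 12<|a 8<|a 16<|a 32<|b)<|
 c (a 49<|a 10<|a 12<|a 8<|a 16<|a 32<|b)<|c (a 57<|a 10<|a 12<|a 8<|a 16<|a 32<|b)<|d);
 (a (a 1<|a 2<|a 4<|a 8<|a 16<|a 32<|b)<|a (a 9<|a 2<|a 4<|a 8<|a 16<|a 32<|b)<|a (a 25<|a 10<|a 4<|a 8<|a 16<|a 32<|b)<|a (a 17<|a 10<|a 4<|a 8<|a 16<|a 32<|b)<|d))))))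
  Gw := (beta% delta% lq26e5b57e8d fun a b _ _ _ _ _ =>
 (a (a 1<|b)<|a (a 2<|a 3<|b)<|a (a 4<|a 5<|b)<|a (a 32<|a 33<|b)<|a (a 16<|a 17<|b)<|a (a 1<|a 3<|a 33<|a 35<|b)<|b))
  T := (beta% delta% lq26e5b57e8d fun a b c _ _ _ _ =>
 (let d:=(let d:=(let d:=(let d:=(c (a 61<|a 62<|a 59<|a 52<|a 37<|a 28<|b)<|c (a 60<|a 63<|a 58<|a 53<|a 36<|a 29<|b)<|
 c (a 63<|a 60<|a 57<|a 54<|a 39<|a 30<|b)<|c (a 62<|a 61<|a 56<|a 55<|a 38<|a 31<|b)<|b);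
 (c (a 57<|a 58<|a 63<|a 48<|a 33<|a 24<|b)<|
 c (a 56<|a 59<|a 62<|a 49<|a 32<|a 25<|b)<|c (a 59<|a 56<|a 61<|a 50<|a 35<|a 26<|b)<|c (a 58<|a 57<|a 60<|a 51<|a 34<|a 27<|b)<|d));
 (let d:=(c (a 53<|a 54<|a 51<|a 60<|a 45<|a 20<|b)<|c (a 52<|a 55<|a 50<|a 61<|a 44<|a 21<|b)<|c (a 55<|a 52<|a 49<|a 62<|a 47<|a 22<|b)<|c (a 54<|a 53<|a 48<|a 63<|a 46<|a 23<|b)<|d);
 (c (a 49<|a 50<|a 55<|a 56<|a 41<|a 16<|b)<|c (a 48<|a 51<|a 54<|a 57<|a 40<|a 17<|b)<|c (a 51<|a 48<|a 53<|a 58<|a 43<|a 18<|b)<|c (a 50<|a 49<|a 52<|a 59<|a 42<|a 19<|b)<|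
 d)));
 (let d:=(let d:=(c (a 45<|a 46<|a 43<|a 36<|a 53<|a 12<|b)<|c (a 44<|a 47<|a 42<|a 37<|a 52<|a 13<|b)<|c (a 47<|a 44<|a 41<|a 38<|a 55<|a 14<|b)<|
 c (a 46<|a 45<|a 40<|a 39<|a 54<|a 15<|b)<|d);
 (c (a 41<|a 42<|a 47<|a 32<|a 49<|a 8<|b)<|c (a 40<|a 43<|a 46<|a 33<|a 48<|a 9<|b)<|
 c (a 43<|a 40<|a 45<|a 34<|a 51<|a 10<|b)<|c (a 42<|a 41<|a 44<|a 35<|a 50<|a 11<|b)<|d));
 (let d:=(c (a 37<|a 38<|a 35<|a 44<|a 61<|a 4<|b)<|c (a 36<|a 39<|a 34<|a 45<|a 60<|a 5<|b)<|c (a 39<|a 36<|a 33<|a 46<|a 63<|a 6<|b)<|c (a 38<|a 37<|a 32<|a 47<|a 62<|a 7<|b)<|d);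
 (c (a 33<|a 34<|a 39<|a 40<|a 57<|a 0<|b)<|c (a 32<|a 35<|a 38<|a 41<|a 56<|a 1<|b)<|c (a 35<|a 32<|a 37<|a 42<|a 59<|a 2<|b)<|c (a 34<|a 33<|a 36<|a 43<|a 58<|a 3<|b)<|
 d))));
 (let d:=(let d:=(let d:=(c (a 29<|a 30<|a 24<|a 20<|a 12<|a 60<|b)<|c (a 28<|a 31<|a 25<|a 21<|a 13<|a 61<|b)<|
 c (a 31<|a 28<|a 26<|a 22<|a 14<|a 62<|b)<|c (a 30<|a 29<|a 27<|a 23<|a 15<|a 63<|b)<|d);
 (c (a 25<|a 26<|a 28<|a 16<|a 8<|a 56<|b)<|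
 c (a 24<|a 27<|a 29<|a 17<|a 9<|a 57<|b)<|c (a 27<|a 24<|a 30<|a 18<|a 10<|a 58<|b)<|c (a 26<|a 25<|a 31<|a 19<|a 11<|a 59<|b)<|d));
 (let d:=(c (a 21<|a 22<|a 16<|a 28<|a 4<|a 52<|b)<|c (a 20<|a 23<|a 17<|a 29<|a 5<|a 53<|b)<|c (a 23<|a 20<|a 18<|a 30<|a 6<|a 54<|b)<|c (a 22<|a 21<|a 19<|a 31<|a 7<|a 55<|b)<|d);
 (c (a 17<|a 18<|a 20<|a 24<|a 0<|a 48<|b)<|c (a 16<|a 19<|a 21<|a 25<|a 1<|a 49<|b)<|c (a 19<|a 16<|a 22<|a 26<|a 2<|a 50<|b)<|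
 c (a 18<|a 17<|a 23<|a 27<|a 3<|a 51<|b)<|d)));
 (let d:=(let d:=(c (a 13<|a 14<|a 8<|a 4<|a 28<|a 44<|b)<|
 c (a 12<|a 15<|a 9<|a 5<|a 29<|a 45<|b)<|c (a 15<|a 12<|a 10<|a 6<|a 30<|a 46<|b)<|c (a 14<|a 13<|a 11<|a 7<|a 31<|a 47<|b)<|d);
 (c (a 9<|a 10<|a 12<|a 0<|a 24<|a 40<|b)<|c (a 8<|a 11<|a 13<|a 1<|a 25<|a 41<|b)<|c (a 11<|a 8<|a 14<|a 2<|a 26<|a 42<|b)<|c (a 10<|a 9<|a 15<|a 3<|a 27<|a 43<|b)<|d));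
 (let d:=(c (a 5<|a 6<|a 0<|a 12<|a 20<|a 36<|b)<|c (a 4<|a 7<|a 1<|a 13<|a 21<|a 37<|b)<|c (a 7<|a 4<|a 2<|a 14<|a 22<|a 38<|b)<|
 c (a 6<|a 5<|a 3<|a 15<|a 23<|a 39<|b)<|d);
 (a (a 1<|a 2<|a 4<|a 8<|a 16<|a 32<|b)<|a (a 0<|a 3<|a 5<|a 9<|a 17<|a 33<|b)<|a (a 3<|a 0<|a 6<|a 10<|a 18<|a 34<|b)<|a (a 2<|a 1<|a 7<|a 11<|a 19<|a 35<|b)<|d))))))
  par := (beta% delta% lq26e5b57e8d fun a b _ e _ g _ =>
 (let d:=(let d:=(let d:=(let d:=(g (e 28 5)<|g (e 29 5)<|g (e 30 5)<|g (e 31 5)<|b);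
 (g (e 24 5)<|g (e 25 5)<|g (e 26 5)<|g (e 27 5)<|d));
 (let d:=(g (e 20 5)<|g (e 21 5)<|g (e 22 5)<|
 g (e 23 5)<|d);
 (g (e 16 5)<|g (e 17 5)<|g (e 18 5)<|g (e 19 5)<|d)));
 (let d:=(let d:=(g (e 12 5)<|g (e 13 5)<|g (e 14 5)<|g (e 15 5)<|d);
 (g (e 8 5)<|g (e 9 5)<|g (e 10 5)<|g (e 11 5)<|d));
 (let d:=(g (e 4 5)<|g (e 5 5)<|
 g (e 6 5)<|g (e 7 5)<|d);
 (g (e 0 5)<|g (e 1 5)<|g (e 2 5)<|g (e 3 5)<|d))));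
 (let d:=(let d:=(let d:=(g (e 12 4)<|g (e 13 4)<|g (e 14 4)<|g (e 15 4)<|d);
 (g (e 8 4)<|g (e 9 4)<|g (e 10 4)<|g (e 11 4)<|d));
 (let d:=(g (e 4 4)<|g (e 5 4)<|g (e 6 4)<|g (e 7 4)<|d);
 (g (e 0 4)<|g (e 1 4)<|g (e 2 4)<|g (e 3 4)<|
 d)));
 (let d:=(let d:=(g (e 4 3)<|g (e 5 3)<|g (e 6 3)<|g (e 7 3)<|d);
 (g (e 0 3)<|g (e 1 3)<|g (e 2 3)<|g (e 3 3)<|d));
 (a (e 0 0)<|a (e 0 1)<|a (e 1 1)<|a (e 0 2)<|a (e 1 2)<|a (e 2 2)<|a (e 3 2)<|d)))))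
  idx := (beta% delta% lq26e5b57e8d fun a b _ _ f _ _ =>
 (let d:=(let d:=(let d:=(let d:=(f 415<|
 f 417<|f 428<|f 405<|b);
 (f 413<|f 389<|f 400<|f 402<|d));
 (let d:=(f 430<|f 410<|f 419<|f 420<|d);
 (f 394<|f 423<|f 409<|f 408<|d)));
 (let d:=(let d:=(f 371<|f 322<|f 319<|f 329<|d);
 (f 228<|f 213<|f 305<|f 140<|d));
 (let d:=(f 249<|f 395<|f 372<|f 247<|d);
 (f 123<|f 136<|f 63<|f 210<|d))));
 (let d:=(let d:=(let d:=(f 309<|f 318<|f 307<|f 316<|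
 d);
 (f 215<|f 226<|f 308<|f 317<|d));
 (let d:=(f 212<|f 223<|f 306<|f 315<|d);
 (f 134<|f 125<|f 225<|f 214<|d)));
 (let d:=(let d:=(f 133<|f 124<|f 211<|f 222<|d);
 (f 60<|f 55<|f 121<|f 130<|d));
 (let d:=(f 17<|f 15<|f 53<|f 58<|d);
 (a 0<|a 1<|a 3<|a 2<|d))))))

theorem tb6_ok : chkT tb6 = true := chkT_of (by decide +kernel)

theorem tb6_idx : chkI fo tb6.E tb6.idx = true := chkI_of fo_fit (by decide +kernel)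

theorem tb6_p32 : chkP tb6 32 5 = true := chkP_of (by decide +kernel)

theorem tb6_p64 : chkP tb6 64 6 = true := chkP_of (by decide +kernel)

/-- a table -/
def tb7 : TD where
  E := (beta% delta% lq26e5b57e8d fun a b _ _ _ _ _ =>
 (a (a 1<|a 2<|a 4<|a 8<|a 16<|a 32<|b)<|a (a 41<|a 2<|a 12<|a 8<|a 16<|a 32<|b)<|a (a 57<|a 10<|a 12<|a 8<|a 16<|a 32<|b)<|a (a 17<|a 10<|a 4<|a 8<|a 16<|a 32<|b)<|a (a 13<|a 2<|a 4<|a 8<|a 16<|a 40<|b)<|a (a 45<|a 2<|a 12<|a 8<|a 16<|a 40<|b)<|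
 a (a 61<|a 10<|a 12<|a 8<|a 16<|a 40<|b)<|a (a 29<|a 10<|a 4<|a 8<|a 16<|a 40<|b)<|a (a 11<|a 2<|a 4<|a 8<|a 24<|a 32<|b)<|a (a 35<|a 2<|a 12<|a 8<|a 24<|a 32<|b)<|a (a 59<|a 10<|a 12<|a 8<|a 24<|a 32<|b)<|a (a 19<|a 10<|a 4<|a 8<|a 24<|a 32<|b)<|
 a (a 7<|a 2<|a 4<|a 8<|a 24<|a 40<|b)<|a (a 39<|a 2<|a 12<|a 8<|a 24<|a 40<|b)<|a (a 63<|a 10<|a 12<|a 8<|a 24<|a 40<|b)<|a (a 31<|a 10<|a 4<|a 8<|a 24<|a 40<|b)<|a (a 1<|a 22<|a 4<|a 8<|a 16<|a 48<|b)<|a (a 57<|a 22<|a 12<|a 8<|a 16<|a 48<|b)<|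
 a (a 41<|a 30<|a 12<|a 8<|a 16<|a 48<|b)<|a (a 17<|a 30<|a 4<|a 8<|a 16<|a 48<|b)<|a (a 13<|a 22<|a 4<|a 8<|a 16<|a 56<|b)<|a (a 61<|a 22<|a 12<|a 8<|a 16<|a 56<|b)<|a (a 45<|a 30<|a 12<|a 8<|a 16<|a 56<|b)<|a (a 29<|a 30<|a 4<|a 8<|a 16<|a 56<|b)<|
 a (a 31<|a 22<|a 4<|a 8<|a 24<|a 48<|b)<|a (a 39<|a 22<|a 12<|a 8<|a 24<|a 48<|b)<|a (a 63<|a 30<|a 12<|a 8<|a 24<|a 48<|b)<|a (a 7<|a 30<|a 4<|a 8<|a 24<|a 48<|b)<|a (a 19<|a 22<|a 4<|a 8<|a 24<|a 56<|b)<|a (a 35<|a 22<|a 12<|a 8<|a 24<|a 56<|b)<|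
 a (a 59<|a 30<|a 12<|a 8<|a 24<|a 56<|b)<|a (a 11<|a 30<|a 4<|a 8<|a 24<|a 56<|b)<|b))
  Gw := (beta% delta% lq26e5b57e8d fun a b _ _ _ _ _ =>
 (a (a 4<|a 5<|b)<|a (a 6<|a 7<|b)<|a (a 32<|a 33<|b)<|a (a 16<|a 17<|b)<|a (a 32<|a 34<|b)<|b))
  T := (beta% delta% lq26e5b57e8d fun a b _ _ _ _ _ =>
 (a (a 1<|a 2<|a 4<|a 8<|a 16<|b)<|a (a 0<|a 3<|a 5<|a 9<|a 17<|b)<|a (a 3<|a 0<|a 6<|a 10<|a 18<|b)<|a (a 2<|a 1<|a 7<|a 11<|a 19<|b)<|a (a 5<|a 6<|a 0<|a 12<|a 20<|b)<|a (a 4<|a 7<|a 1<|a 13<|a 21<|b)<|a (a 7<|a 4<|a 2<|a 14<|a 22<|b)<|a (a 6<|a 5<|a 3<|a 15<|a 23<|b)<|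
 a (a 9<|a 10<|a 12<|a 0<|a 24<|b)<|a (a 8<|a 11<|a 13<|a 1<|a 25<|b)<|a (a 11<|a 8<|a 14<|a 2<|a 26<|b)<|a (a 10<|a 9<|a 15<|a 3<|a 27<|b)<|a (a 13<|a 14<|a 8<|a 4<|a 28<|b)<|a (a 12<|a 15<|a 9<|a 5<|a 29<|b)<|a (a 15<|a 12<|a 10<|a 6<|a 30<|b)<|
 a (a 14<|a 13<|a 11<|a 7<|a 31<|b)<|a (a 18<|a 17<|a 20<|a 31<|a 0<|b)<|a (a 19<|a 16<|a 21<|a 30<|a 1<|b)<|a (a 16<|a 19<|a 22<|a 29<|a 2<|b)<|a (a 17<|a 18<|a 23<|a 28<|a 3<|b)<|a (a 22<|a 21<|a 16<|a 27<|a 4<|b)<|a (a 23<|a 20<|a 17<|a 26<|a 5<|b)<|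
 a (a 20<|a 23<|a 18<|a 25<|a 6<|b)<|a (a 21<|a 22<|a 19<|a 24<|a 7<|b)<|a (a 26<|a 25<|a 28<|a 23<|a 8<|b)<|a (a 27<|a 24<|a 29<|a 22<|a 9<|b)<|a (a 24<|a 27<|a 30<|a 21<|a 10<|b)<|a (a 25<|a 26<|a 31<|a 20<|a 11<|b)<|a (a 30<|a 29<|a 24<|a 19<|a 12<|b)<|
 a (a 31<|a 28<|a 25<|a 18<|a 13<|b)<|a (a 28<|a 31<|a 26<|a 17<|a 14<|b)<|a (a 29<|a 30<|a 27<|a 16<|a 15<|b)<|b))
  par := (beta% delta% lq26e5b57e8d fun a b _ e _ _ _ =>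
 (a (e 0 0)<|a (e 0 1)<|a (e 1 1)<|a (e 0 2)<|a (e 1 2)<|a (e 2 2)<|a (e 3 2)<|a (e 0 3)<|a (e 1 3)<|a (e 2 3)<|a (e 3 3)<|a (e 4 3)<|a (e 5 3)<|a (e 6 3)<|a (e 7 3)<|a (e 0 4)<|a (e 1 4)<|a (e 2 4)<|a (e 3 4)<|
 a (e 4 4)<|a (e 5 4)<|a (e 6 4)<|a (e 7 4)<|a (e 8 4)<|a (e 9 4)<|a (e 10 4)<|a (e 11 4)<|a (e 12 4)<|a (e 13 4)<|a (e 14 4)<|a (e 15 4)<|b))
  idx := (beta% delta% lq26e5b57e8d fun a b _ _ _ _ _ =>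
 (a 0<|a 17<|a 58<|a 2<|a 60<|a 133<|a 222<|a 130<|a 134<|a 212<|a 315<|a 214<|a 215<|a 309<|a 316<|a 317<|a 132<|a 29<|a 27<|a 221<|a 314<|a 80<|a 77<|a 224<|a 206<|a 282<|a 205<|a 283<|a 287<|a 279<|a 200<|
 a 298<|b))

theorem tb7_ok : chkT tb7 = true := chkT_of (by decide +kernel)

theorem tb7_idx : chkI fo tb7.E tb7.idx = true := chkI_of fo_fit (by decide +kernel)

theorem tb7_p16 : chkP tb7 16 4 = true := chkP_of (by decide +kernel)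

theorem tb7_p32 : chkP tb7 32 5 = true := chkP_of (by decide +kernel)

/-- a table -/
def tb8 : TD where
  E := (beta% delta% lq26e5b57e8d fun a b c _ _ _ _ =>
 (let d:=(let d:=(let d:=(let d:=(c (a 7<|a 40<|a 2<|a 8<|a 46<|a 48<|b)<|c (a 35<|a 32<|a 2<|a 8<|a 46<|a 56<|b)<|c (a 19<|a 32<|a 10<|a 8<|a 46<|a 56<|b)<|
 c (a 61<|a 40<|a 10<|a 8<|a 46<|a 56<|b)<|c (a 13<|a 40<|a 2<|a 8<|a 46<|a 56<|b)<|b);
 (c (a 29<|a 40<|a 10<|a 8<|a 38<|a 56<|b)<|c (a 45<|a 40<|a 2<|a 8<|a 38<|a 56<|b)<|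
 c (a 41<|a 32<|a 2<|a 8<|a 46<|a 48<|b)<|c (a 17<|a 32<|a 10<|a 8<|a 46<|a 48<|b)<|c (a 63<|a 40<|a 10<|a 8<|a 46<|a 48<|b)<|d));
 (let d:=(c (a 57<|a 32<|a 10<|a 8<|a 38<|a 48<|b)<|
 c (a 31<|a 40<|a 10<|a 8<|a 38<|a 48<|b)<|c (a 39<|a 40<|a 2<|a 8<|a 38<|a 48<|b)<|c (a 11<|a 32<|a 2<|a 8<|a 38<|a 56<|b)<|c (a 59<|a 32<|a 10<|a 8<|a 38<|a 56<|b)<|d);
 (c (a 17<|a 48<|a 32<|a 8<|a 26<|a 30<|b)<|c (a 7<|a 48<|a 40<|a 8<|a 26<|a 30<|b)<|c (a 29<|a 56<|a 40<|a 8<|a 26<|a 30<|b)<|c (a 11<|a 56<|a 32<|a 8<|a 26<|a 30<|b)<|c (a 1<|a 32<|a 2<|a 8<|a 38<|a 48<|b)<|d)));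
 (let d:=(let d:=(c (a 59<|a 56<|a 32<|a 8<|a 18<|a 30<|b)<|c (a 57<|a 48<|a 32<|a 8<|a 26<|a 22<|b)<|c (a 39<|a 48<|a 40<|a 8<|a 26<|a 22<|b)<|c (a 61<|a 56<|a 40<|a 8<|a 26<|a 22<|b)<|c (a 35<|a 56<|a 32<|a 8<|a 26<|a 22<|b)<|
 d);
 (c (a 13<|a 56<|a 40<|a 8<|a 18<|a 22<|b)<|c (a 19<|a 56<|a 32<|a 8<|a 18<|a 22<|b)<|c (a 41<|a 48<|a 32<|a 8<|a 18<|a 30<|b)<|c (a 63<|a 48<|a 40<|a 8<|a 18<|a 30<|b)<|
 c (a 45<|a 56<|a 40<|a 8<|a 18<|a 30<|b)<|d));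
 (let d:=(c (a 35<|a 22<|a 56<|a 8<|a 14<|a 12<|b)<|c (a 45<|a 30<|a 56<|a 8<|a 14<|a 12<|b)<|c (a 41<|a 30<|a 48<|a 8<|a 14<|a 12<|b)<|
 c (a 1<|a 48<|a 32<|a 8<|a 18<|a 22<|b)<|c (a 31<|a 48<|a 40<|a 8<|a 18<|a 22<|b)<|d);
 (c (a 31<|a 22<|a 48<|a 8<|a 14<|a 4<|b)<|c (a 19<|a 22<|a 56<|a 8<|a 14<|a 4<|b)<|
 c (a 29<|a 30<|a 56<|a 8<|a 14<|a 4<|b)<|c (a 17<|a 30<|a 48<|a 8<|a 14<|a 4<|b)<|c (a 39<|a 22<|a 48<|a 8<|a 14<|a 12<|b)<|d))));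
 (let d:=(let d:=(let d:=(c (a 7<|a 30<|a 48<|a 8<|a 6<|a 4<|b)<|
 c (a 57<|a 22<|a 48<|a 8<|a 6<|a 12<|b)<|c (a 61<|a 22<|a 56<|a 8<|a 6<|a 12<|b)<|c (a 59<|a 30<|a 56<|a 8<|a 6<|a 12<|b)<|c (a 63<|a 30<|a 48<|a 8<|a 6<|a 12<|b)<|d);
 (c (a 59<|a 12<|a 30<|a 8<|a 42<|a 10<|b)<|c (a 57<|a 12<|a 22<|a 8<|a 42<|a 10<|b)<|c (a 1<|a 22<|a 48<|a 8<|a 6<|a 4<|b)<|c (a 13<|a 22<|a 56<|a 8<|a 6<|a 4<|b)<|c (a 11<|a 30<|a 56<|a 8<|a 6<|a 4<|b)<|d));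
 (let d:=(c (a 7<|a 4<|a 30<|a 8<|a 42<|a 2<|b)<|c (a 45<|a 12<|a 30<|a 8<|a 42<|a 2<|b)<|c (a 39<|a 12<|a 22<|a 8<|a 42<|a 2<|b)<|c (a 19<|a 4<|a 22<|a 8<|a 42<|a 10<|b)<|c (a 17<|a 4<|a 30<|a 8<|a 42<|a 10<|b)<|
 d);
 (c (a 31<|a 4<|a 22<|a 8<|a 34<|a 10<|b)<|c (a 29<|a 4<|a 30<|a 8<|a 34<|a 10<|b)<|c (a 63<|a 12<|a 30<|a 8<|a 34<|a 10<|b)<|c (a 61<|a 12<|a 22<|a 8<|a 34<|a 10<|b)<|
 c (a 13<|a 4<|a 22<|a 8<|a 42<|a 2<|b)<|d)));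
 (let d:=(let d:=(c (a 31<|a 10<|a 4<|a 8<|a 24<|a 40<|b)<|c (a 1<|a 4<|a 22<|a 8<|a 34<|a 2<|b)<|c (a 11<|a 4<|a 30<|a 8<|a 34<|a 2<|b)<|
 c (a 41<|a 12<|a 30<|a 8<|a 34<|a 2<|b)<|c (a 35<|a 12<|a 22<|a 8<|a 34<|a 2<|b)<|d);
 (c (a 59<|a 10<|a 12<|a 8<|a 24<|a 32<|b)<|c (a 19<|a 10<|a 4<|a 8<|a 24<|a 32<|b)<|
 c (a 7<|a 2<|a 4<|a 8<|a 24<|a 40<|b)<|c (a 39<|a 2<|a 12<|a 8<|a 24<|a 40<|b)<|c (a 63<|a 10<|a 12<|a 8<|a 24<|a 40<|b)<|d));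
 (let d:=(c (a 45<|a 2<|a 12<|a 8<|a 16<|a 40<|b)<|
 c (a 61<|a 10<|a 12<|a 8<|a 16<|a 40<|b)<|c (a 29<|a 10<|a 4<|a 8<|a 16<|a 40<|b)<|c (a 11<|a 2<|a 4<|a 8<|a 24<|a 32<|b)<|c (a 35<|a 2<|a 12<|a 8<|a 24<|a 32<|b)<|d);
 (a (a 1<|a 2<|a 4<|a 8<|a 16<|a 32<|b)<|a (a 41<|a 2<|a 12<|a 8<|a 16<|a 32<|b)<|a (a 57<|a 10<|a 12<|a 8<|a 16<|a 32<|b)<|a (a 17<|a 10<|a 4<|a 8<|a 16<|a 32<|b)<|a (a 13<|a 2<|a 4<|a 8<|a 16<|a 40<|b)<|d))))))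
  Gw := (beta% delta% lq26e5b57e8d fun a b _ _ _ _ _ =>
 (a (a 4<|a 5<|b)<|a (a 6<|a 7<|b)<|a (a 32<|a 33<|b)<|a (a 16<|a 17<|b)<|a (a 4<|a 36<|a 38<|a 22<|b)<|b))
  T := (beta% delta% lq26e5b57e8d fun a b c _ _ _ _ =>
 (let d:=(let d:=(let d:=(let d:=(c (a 67<|a 74<|a 68<|a 79<|a 11<|b)<|c (a 68<|a 77<|a 67<|a 72<|a 12<|b)<|c (a 69<|a 76<|a 66<|a 73<|a 13<|b)<|c (a 70<|a 79<|a 65<|a 74<|a 14<|b)<|
 c (a 71<|a 78<|a 64<|a 75<|a 15<|b)<|b);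
 (c (a 78<|a 71<|a 73<|a 66<|a 6<|b)<|c (a 79<|a 70<|a 72<|a 67<|a 7<|b)<|
 c (a 64<|a 73<|a 71<|a 76<|a 8<|b)<|c (a 65<|a 72<|a 70<|a 77<|a 9<|b)<|c (a 66<|a 75<|a 69<|a 78<|a 10<|b)<|d));
 (let d:=(c (a 73<|a 64<|a 78<|a 69<|a 1<|b)<|c (a 74<|a 67<|a 77<|a 70<|a 2<|b)<|c (a 75<|a 66<|a 76<|a 71<|a 3<|b)<|c (a 76<|a 69<|a 75<|a 64<|a 4<|b)<|c (a 77<|a 68<|a 74<|a 65<|a 5<|b)<|d);
 (c (a 56<|a 52<|a 62<|a 51<|a 76<|b)<|c (a 57<|a 53<|a 63<|a 50<|a 77<|b)<|c (a 58<|a 54<|a 60<|a 49<|a 78<|b)<|c (a 59<|a 55<|a 61<|a 48<|a 79<|b)<|c (a 72<|a 65<|a 79<|a 68<|a 0<|b)<|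
 d)));
 (let d:=(let d:=(c (a 51<|a 63<|a 53<|a 56<|a 71<|b)<|c (a 60<|a 48<|a 58<|a 55<|a 72<|b)<|c (a 61<|a 49<|a 59<|a 54<|a 73<|b)<|
 c (a 62<|a 50<|a 56<|a 53<|a 74<|b)<|c (a 63<|a 51<|a 57<|a 52<|a 75<|b)<|d);
 (c (a 54<|a 58<|a 48<|a 61<|a 66<|b)<|c (a 55<|a 59<|a 49<|a 60<|a 67<|b)<|
 c (a 48<|a 60<|a 54<|a 59<|a 68<|b)<|c (a 49<|a 61<|a 55<|a 58<|a 69<|b)<|c (a 50<|a 62<|a 52<|a 57<|a 70<|b)<|d));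
 (let d:=(c (a 34<|a 41<|a 44<|a 47<|a 61<|b)<|
 c (a 33<|a 42<|a 47<|a 44<|a 62<|b)<|c (a 32<|a 43<|a 46<|a 45<|a 63<|b)<|c (a 52<|a 56<|a 50<|a 63<|a 64<|b)<|c (a 53<|a 57<|a 51<|a 62<|a 65<|b)<|d);
 (c (a 39<|a 44<|a 41<|a 42<|a 56<|b)<|c (a 38<|a 45<|a 40<|a 43<|a 57<|b)<|c (a 37<|a 46<|a 43<|a 40<|a 58<|b)<|c (a 36<|a 47<|a 42<|a 41<|a 59<|b)<|c (a 35<|a 40<|a 45<|a 46<|a 60<|b)<|d))));
 (let d:=(let d:=(let d:=(c (a 44<|a 39<|a 34<|a 33<|a 51<|b)<|c (a 43<|a 32<|a 37<|a 38<|a 52<|b)<|c (a 42<|a 33<|a 36<|a 39<|a 53<|b)<|c (a 41<|a 34<|a 39<|a 36<|a 54<|b)<|c (a 40<|a 35<|a 38<|a 37<|a 55<|b)<|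
 d);
 (c (a 28<|a 17<|a 22<|a 31<|a 46<|b)<|c (a 29<|a 16<|a 23<|a 30<|a 47<|b)<|c (a 47<|a 36<|a 33<|a 34<|a 48<|b)<|c (a 46<|a 37<|a 32<|a 35<|a 49<|b)<|
 c (a 45<|a 38<|a 35<|a 32<|a 50<|b)<|d));
 (let d:=(c (a 27<|a 22<|a 17<|a 24<|a 41<|b)<|c (a 24<|a 21<|a 18<|a 27<|a 42<|b)<|c (a 25<|a 20<|a 19<|a 26<|a 43<|b)<|
 c (a 30<|a 19<|a 20<|a 29<|a 44<|b)<|c (a 31<|a 18<|a 21<|a 28<|a 45<|b)<|d);
 (c (a 22<|a 27<|a 28<|a 21<|a 36<|b)<|c (a 23<|a 26<|a 29<|a 20<|a 37<|b)<|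
 c (a 20<|a 25<|a 30<|a 23<|a 38<|b)<|c (a 21<|a 24<|a 31<|a 22<|a 39<|b)<|c (a 26<|a 23<|a 16<|a 25<|a 40<|b)<|d)));
 (let d:=(let d:=(c (a 14<|a 13<|a 11<|a 7<|a 31<|b)<|c (a 18<|a 31<|a 24<|a 17<|a 32<|b)<|c (a 19<|a 30<|a 25<|a 16<|a 33<|b)<|c (a 16<|a 29<|a 26<|a 19<|a 34<|b)<|c (a 17<|a 28<|a 27<|a 18<|a 35<|b)<|d);
 (c (a 11<|a 8<|a 14<|a 2<|a 26<|b)<|c (a 10<|a 9<|a 15<|a 3<|a 27<|b)<|c (a 13<|a 14<|a 8<|a 4<|a 28<|b)<|c (a 12<|a 15<|a 9<|a 5<|a 29<|b)<|c (a 15<|a 12<|a 10<|a 6<|a 30<|b)<|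
 d));
 (let d:=(c (a 4<|a 7<|a 1<|a 13<|a 21<|b)<|c (a 7<|a 4<|a 2<|a 14<|a 22<|b)<|c (a 6<|a 5<|a 3<|a 15<|a 23<|b)<|
 c (a 9<|a 10<|a 12<|a 0<|a 24<|b)<|c (a 8<|a 11<|a 13<|a 1<|a 25<|b)<|d);
 (a (a 1<|a 2<|a 4<|a 8<|a 16<|b)<|a (a 0<|a 3<|a 5<|a 9<|a 17<|b)<|a (a 3<|a 0<|a 6<|a 10<|a 18<|b)<|a (a 2<|a 1<|a 7<|a 11<|a 19<|b)<|a (a 5<|a 6<|a 0<|a 12<|a 20<|b)<|d))))))
  par := (beta% delta% lq26e5b57e8d fun a b _ e _ g _ =>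
 (let d:=(let d:=(let d:=(let d:=(g (e 59 4)<|g (e 60 4)<|g (e 61 4)<|g (e 62 4)<|g (e 63 4)<|b);
 (g (e 54 4)<|g (e 55 4)<|g (e 56 4)<|g (e 57 4)<|g (e 58 4)<|d));
 (let d:=(g (e 49 4)<|g (e 50 4)<|g (e 51 4)<|g (e 52 4)<|
 g (e 53 4)<|d);
 (g (e 44 4)<|g (e 45 4)<|g (e 46 4)<|g (e 47 4)<|g (e 48 4)<|d)));
 (let d:=(let d:=(g (e 39 4)<|g (e 40 4)<|g (e 41 4)<|g (e 42 4)<|g (e 43 4)<|d);
 (g (e 34 4)<|g (e 35 4)<|g (e 36 4)<|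
 g (e 37 4)<|g (e 38 4)<|d));
 (let d:=(g (e 29 4)<|g (e 30 4)<|g (e 31 4)<|g (e 32 4)<|g (e 33 4)<|d);
 (g (e 24 4)<|g (e 25 4)<|g (e 26 4)<|g (e 27 4)<|g (e 28 4)<|d))));
 (let d:=(let d:=(let d:=(g (e 19 4)<|g (e 20 4)<|
 g (e 21 4)<|g (e 22 4)<|g (e 23 4)<|d);
 (g (e 14 4)<|g (e 15 4)<|g (e 16 4)<|g (e 17 4)<|g (e 18 4)<|d));
 (let d:=(g (e 9 4)<|g (e 10 4)<|g (e 11 4)<|g (e 12 4)<|g (e 13 4)<|d);
 (g (e 4 4)<|g (e 5 4)<|g (e 6 4)<|g (e 7 4)<|g (e 8 4)<|d)));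
 (let d:=(let d:=(g (e 7 3)<|g (e 0 4)<|g (e 1 4)<|g (e 2 4)<|g (e 3 4)<|
 d);
 (g (e 2 3)<|g (e 3 3)<|g (e 4 3)<|g (e 5 3)<|g (e 6 3)<|d));
 (let d:=(g (e 1 2)<|g (e 2 2)<|g (e 3 2)<|g (e 0 3)<|g (e 1 3)<|d);
 (a (e 0 0)<|a (e 0 1)<|a (e 1 1)<|a (e 0 2)<|d))))))
  idx := (beta% delta% lq26e5b57e8d fun a b _ _ f _ _ =>
 (let d:=(let d:=(let d:=(let d:=(f 465<|f 463<|f 505<|f 506<|f 492<|b);
 (f 489<|f 490<|f 495<|f 466<|f 464<|d));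
 (let d:=(f 493<|f 494<|f 467<|f 507<|f 491<|d);
 (f 488<|f 485<|f 502<|f 459<|f 13<|d)));
 (let d:=(let d:=(f 458<|f 482<|f 486<|f 462<|
 f 504<|d);
 (f 484<|f 487<|f 503<|f 461<|f 460<|d));
 (let d:=(f 479<|f 456<|f 476<|f 12<|f 483<|d);
 (f 454<|f 501<|f 453<|f 480<|f 478<|d))));
 (let d:=(let d:=(let d:=(f 481<|f 477<|f 455<|f 457<|f 499<|d);
 (f 449<|f 473<|f 11<|f 500<|f 475<|d));
 (let d:=(f 448<|f 470<|f 496<|f 450<|f 452<|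
 d);
 (f 471<|f 469<|f 497<|f 468<|f 498<|d)));
 (let d:=(let d:=(f 317<|f 10<|f 474<|f 472<|f 451<|d);
 (f 315<|f 214<|f 215<|f 309<|f 316<|d));
 (let d:=(f 133<|f 222<|f 130<|f 134<|f 212<|d);
 (a 0<|a 17<|a 58<|a 2<|a 60<|d))))))

theorem tb8_ok : chkT tb8 = true := chkT_of (by decide +kernel)

theorem tb8_idx : chkI fo tb8.E tb8.idx = true := chkI_of fo_fit (by decide +kernel)

theorem tb8_p80 : chkP tb8 80 5 = true := chkP_of (by decide +kernel)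

end Cfsg.Agent.H942.S62
end

-- part: H942/S62/Cert
section
/-!
# The linear system of `Sp₆(2)` has one solution
-/

set_option autoImplicit false
set_option maxRecDepth 100000

namespace Cfsg.Agent.H942.S62

/-- scalar product -/
def dot : List ℕ → List ℕ → ℕ
  | x :: xs, y :: ys => x * y + dot xs ys
  | _, _ => 0

/-- divisibility and size -/
def okE (p : ℕ × List ℕ) (u : List ℕ) : Bool := Nat.beq (dot p.2 u % p.1) 0 && Nat.ble 8 (dot p.2 u / p.1)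

/-- monotonicity -/
def leE (p q : ℕ × List ℕ) (u : List ℕ) : Bool := Nat.ble (dot q.2 u / q.1) (dot p.2 u / p.1)

theorem okE_of {n d : ℕ} {c u : List ℕ} (hn : 0 < n) (h : dot c u = n * (d + 8)) : okE (n, c) u = true := by
  rw [okE, Bool.and_eq_true]
  constructor
  · show Nat.beq (dot c u % n) 0 = true
    rw [h, Nat.mul_mod_right]
    rfl
  · show Nat.ble 8 (dot c u / n) = true
    rw [h, Nat.mul_div_cancel_left _ hn, Nat.ble_eq]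
    omega

theorem leE_of {n d n' d' : ℕ} {c c' u : List ℕ} (hn : 0 < n) (h : dot c u = n * (d + 8)) (hn' : 0 < n')
    (h' : dot c' u = n' * (d' + 8)) (hd : d' ≤ d) : leE (n, c) (n', c') u = true := by
  show Nat.ble (dot c' u / n') (dot c u / n) = true
  rw [h, h', Nat.mul_div_cancel_left _ hn, Nat.mul_div_cancel_left _ hn', Nat.ble_eq]
  omega

/-- the possible values at the elements of order 4 with given square -/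
def dom (x : ℕ) : List ℕ := bif Nat.beq x 0 then [8, 16, 72] else [4, 12, 36, 140]

/-- the tables -/
def q7a : ℕ × List ℕ := (16, [1, 0, 5, 10, 0, 0, 0, 0, 0, 0])
def q7b : ℕ × List ℕ := (32, [1, 0, 5, 14, 0, 4, 0, 0, 0, 8])
def q6a : ℕ × List ℕ := (32, [1, 1, 15, 15, 0, 0, 0, 0, 0, 0])
def q6b : ℕ × List ℕ := (64, [1, 1, 19, 15, 4, 0, 24, 0, 0, 0])
def q5a : ℕ × List ℕ := (8, [1, 0, 1, 2, 0, 0, 4, 0, 0, 0])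
def q5b : ℕ × List ℕ := (16, [1, 1, 1, 3, 2, 4, 4, 0, 0, 0])
def q4a : ℕ × List ℕ := (64, [1, 7, 7, 21, 28, 0, 0, 0, 0, 0])
def q4b : ℕ × List ℕ := (128, [1, 7, 11, 25, 36, 4, 12, 8, 8, 16])
def q3a : ℕ × List ℕ := (16, [1, 0, 3, 0, 0, 6, 6, 0, 0, 0])
def q3b : ℕ × List ℕ := (32, [1, 0, 3, 0, 16, 6, 6, 0, 0, 0])
def q2a : ℕ × List ℕ := (32, [1, 0, 1, 6, 4, 0, 4, 0, 0, 16])
def q2b : ℕ × List ℕ := (64, [1, 0, 1, 14, 12, 4, 8, 8, 0, 16])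
def q1a : ℕ × List ℕ := (64, [1, 1, 7, 3, 28, 12, 12, 0, 0, 0])
def q1b : ℕ × List ℕ := (128, [1, 3, 11, 13, 36, 12, 20, 8, 8, 16])
def q1c : ℕ × List ℕ := (256, [1, 3, 11, 13, 36, 12, 52, 24, 24, 80])

/-- all conditions -/
def good (u : List ℕ) : Bool :=
  okE q7a u && okE q6a u && okE q4a u && okE q5a u && okE q3a u && okE q3b u && okE q5b u && okE q6b u &&
  okE q1a u && okE q7b u && okE q4b u && okE q2a u && okE q2b u && okE q1b u && okE q1c u &&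
  leE q7a q7b u && leE q6a q6b u && leE q5a q5b u && leE q4a q4b u && leE q3a q3b u && leE q2a q2b u &&
  leE q1a q1b u && leE q1b q1c u

/-- the solution -/
def target (u1 u2 u3 u4 u5 u6 u7 u8 u9 : ℕ) : Bool :=
  Nat.beq u1 32 && Nat.beq u2 0 && Nat.beq u3 32 && Nat.beq u4 0 && Nat.beq u5 72 && Nat.beq u6 8 && Nat.beq u7 12 &&
  Nat.beq u8 12 && Nat.beq u9 12

/-- the conditions on the first six values -/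
def preS (u : List ℕ) : Bool :=
  okE q4a u && okE q3a u && okE q3b u && okE q5b u && okE q6b u && okE q1a u && leE q6a q6b u && leE q5a q5b u &&
  leE q3a q3b u

/-- other conditions -/
def restS (u : List ℕ) : Bool :=
  okE q7b u && okE q4b u && okE q2a u && okE q2b u && okE q1b u && okE q1c u &&
  leE q7a q7b u && leE q4a q4b u && leE q2a q2b u && leE q1a q1b u && leE q1b q1c u

theorem preS_of {u0 u1 u2 u3 u4 u5 u6 u7 u8 u9 : ℕ} (h : good [u0, u1, u2, u3, u4, u5, u6, u7, u8, u9] = true) :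
    preS [u0, u1, u2, u3, u4, u5, u6] = true ∧ restS [u0, u1, u2, u3, u4, u5, u6, u7, u8, u9] = true := by
  have e : ∀ a0 a1 a2 a3 a4 a5 a6 : ℕ, (beta% delta% lq26e5b57e8d fun a b _ _ _ _ _ =>
 dot (a a0<|a a1<|a a2<|a a3<|a a4<|a a5<|a a6<|a 0<|a 0<|a 0<|b) (a u0<|a u1<|a u2<|a u3<|a u4<|a u5<|a u6<|b) :
 ℕ) =
      (beta% delta% lq26e5b57e8d fun a b _ _ _ _ _ =>
 dot (a a0<|a a1<|a a2<|a a3<|a a4<|a a5<|a a6<|a 0<|a 0<|a 0<|b) (a u0<|a u1<|a u2<|a u3<|a u4<|a u5<|a u6<|a u7<|a u8<|a u9<|b) :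
 ℕ) := by
    intro a0 a1 a2 a3 a4 a5 a6
    have : dot [0, 0, 0] [u7, u8, u9] = 0 := by
      show 0 * u7 + (0 * u8 + (0 * u9 + 0)) = 0
      rw [Nat.zero_mul, Nat.zero_mul, Nat.zero_mul]
    show _ = a0 * u0 + (a1 * u1 + (a2 * u2 + (a3 * u3 + (a4 * u4 + (a5 * u5 + (a6 * u6 + dot [0, 0, 0] [u7, u8, u9]))))))
    rw [this]
    rfl
  have e1 : ∀ n a0 a1 a2 a3 a4 a5 a6 : ℕ, (beta% delta% lq26e5b57e8d fun a b _ e _ _ _ =>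
 okE (e n (a a0<|a a1<|a a2<|a a3<|a a4<|a a5<|a a6<|a 0<|a 0<|a 0<|b)) (a u0<|a u1<|a u2<|a u3<|a u4<|a u5<|a u6<|b) :
 Bool) =
      (beta% delta% lq26e5b57e8d fun a b _ e _ _ _ =>
 okE (e n (a a0<|a a1<|a a2<|a a3<|a a4<|a a5<|a a6<|a 0<|a 0<|a 0<|b)) (a u0<|a u1<|a u2<|a u3<|a u4<|a u5<|a u6<|a u7<|a u8<|a u9<|b) :
 Bool) := by
    intro n a0 a1 a2 a3 a4 a5 a6
    delta okE
    rw [e]
  have e2 : ∀ n a0 a1 a2 a3 a4 a5 a6 m b0 b1 b2 b3 b4 b5 b6 : ℕ,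
      (beta% delta% lq26e5b57e8d fun a b _ e _ _ _ =>
 leE (e n (a a0<|a a1<|a a2<|a a3<|a a4<|a a5<|a a6<|a 0<|a 0<|a 0<|b)) (e m (a b0<|a b1<|a b2<|a b3<|a b4<|a b5<|a b6<|a 0<|a 0<|a 0<|b)) (a u0<|a u1<|a u2<|a u3<|a u4<|a u5<|a u6<|b) :
 Bool) =
      (beta% delta% lq26e5b57e8d fun a b _ e _ _ _ =>
 leE (e n (a a0<|a a1<|a a2<|a a3<|a a4<|a a5<|a a6<|a 0<|a 0<|a 0<|b)) (e m (a b0<|a b1<|a b2<|a b3<|a b4<|a b5<|a b6<|a 0<|a 0<|a 0<|b))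
 (a u0<|a u1<|a u2<|a u3<|a u4<|a u5<|a u6<|a u7<|a u8<|a u9<|b) :
 Bool) := by
    intro n a0 a1 a2 a3 a4 a5 a6 m b0 b1 b2 b3 b4 b5 b6
    delta leE
    rw [e, e]
  delta good at h
  simp only [Bool.and_eq_true] at h
  obtain ⟨⟨⟨⟨⟨⟨⟨⟨⟨⟨⟨⟨⟨⟨⟨⟨⟨⟨⟨⟨⟨⟨-, -⟩, a3⟩, -⟩, a5⟩, a6⟩, a7⟩, a8⟩, a9⟩, a10⟩, a11⟩, a12⟩, a13⟩, a14⟩, a15⟩, b1⟩, b2⟩, b3⟩,
    b4⟩, b5⟩, b6⟩, b7⟩, b8⟩ := h
  constructor
  · delta preS q6a q4a q5a q3a q3b q5b q6b q1a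
    simp only [e1, e2, Bool.and_eq_true]
    exact ⟨⟨⟨⟨⟨⟨⟨⟨a3, a5⟩, a6⟩, a7⟩, a8⟩, a9⟩, b2⟩, b3⟩, b5⟩
  · delta restS
    simp only [Bool.and_eq_true]
    exact ⟨⟨⟨⟨⟨⟨⟨⟨⟨⟨a10, a11⟩, a12⟩, a13⟩, a14⟩, a15⟩, b1⟩, b4⟩, b6⟩, b7⟩, b8⟩

/-- **The certificate.** -/
theorem cert : ((beta% delta% lq26e5b57e8d fun a b _ _ _ _ _ =>
 (a 0<|a 32<|b).all fun u1 => (a 0<|a 32<|b).all fun u2 => (a 0<|a 32<|b).all fun u3 => (a 0<|a 32<|b).all fun u4 =>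
 (dom u2).all fun u5 => (dom u2).all fun u6 => (dom u3).all fun u7 => (dom u3).all fun u8 => (dom u3).all fun u9 =>
 (!good (a 256<|a u1<|a u2<|a u3<|a u4<|a u5<|a u6<|a u7<|a u8<|a u9<|b)) || target u1 u2 u3 u4 u5 u6 u7 u8 u9 :
 Bool)) = true := by
  have h : ((beta% delta% lq26e5b57e8d fun a b _ _ _ _ _ =>
 (a 0<|a 32<|b).all fun u1 => (a 0<|a 32<|b).all fun u2 => (a 0<|a 32<|b).all fun u3 => (a 0<|a 32<|b).all fun u4 =>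
 (dom u2).all fun u5 => (dom u2).all fun u6 => (!preS (a 256<|a u1<|a u2<|a u3<|a u4<|a u5<|a u6<|b)) ||
 (dom u3).all fun u7 => (dom u3).all fun u8 => (dom u3).all fun u9 =>
 (!restS (a 256<|a u1<|a u2<|a u3<|a u4<|a u5<|a u6<|a u7<|a u8<|a u9<|b)) || target u1 u2 u3 u4 u5 u6 u7 u8 u9 :
 Bool)) = true := by
    decide +kernel
  simp only [List.all_eq_true] at h ⊢
  intro u1 h1 u2 h2 u3 h3 u4 h4 u5 h5 u6 h6 u7 h7 u8 h8 u9 h9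
  have h' := h u1 h1 u2 h2 u3 h3 u4 h4 u5 h5 u6 h6
  cases hg : good [256, u1, u2, u3, u4, u5, u6, u7, u8, u9] with
  | false => rfl
  | true =>
    rw [(preS_of hg).1, Bool.not_true, Bool.false_or] at h'
    simp only [List.all_eq_true] at h'
    have := h' u7 h7 u8 h8 u9 h9
    rwa [(preS_of hg).2] at this

theorem cert' {u1 u2 u3 u4 u5 u6 u7 u8 u9 : ℕ} (h1 : u1 = 0 ∨ u1 = 32) (h2 : u2 = 0 ∨ u2 = 32)
    (h3 : u3 = 0 ∨ u3 = 32) (h4 : u4 = 0 ∨ u4 = 32) (h5 : u5 ∈ dom u2) (h6 : u6 ∈ dom u2) (h7 : u7 ∈ dom u3)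
    (h8 : u8 ∈ dom u3) (h9 : u9 ∈ dom u3) (h : good [256, u1, u2, u3, u4, u5, u6, u7, u8, u9] = true) :
    u1 = 32 ∧ u2 = 0 ∧ u3 = 32 ∧ u4 = 0 ∧ u5 = 72 ∧ u6 = 8 ∧ u7 = 12 ∧ u8 = 12 ∧ u9 = 12 := by
  have c := cert
  rw [List.all_eq_true] at c
  have c1 := c u1 (by simpa using h1)
  rw [List.all_eq_true] at c1
  have c2 := c1 u2 (by simpa using h2)
  rw [List.all_eq_true] at c2
  have c3 := c2 u3 (by simpa using h3)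
  rw [List.all_eq_true] at c3
  have c4 := c3 u4 (by simpa using h4)
  rw [List.all_eq_true] at c4
  have c5 := c4 u5 h5
  rw [List.all_eq_true] at c5
  have c6 := c5 u6 h6
  rw [List.all_eq_true] at c6
  have c7 := c6 u7 h7
  rw [List.all_eq_true] at c7
  have c8 := c7 u8 h8
  rw [List.all_eq_true] at c8
  have c9 := c8 u9 h9
  rw [h] at c9
  simp only [target, Bool.not_true, Bool.false_or, Bool.and_eq_true] at c9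
  obtain ⟨⟨⟨⟨⟨⟨⟨⟨e1, e2⟩, e3⟩, e4⟩, e5⟩, e6⟩, e7⟩, e8⟩, e9⟩ := c9
  exact ⟨Nat.eq_of_beq_eq_true e1, Nat.eq_of_beq_eq_true e2, Nat.eq_of_beq_eq_true e3, Nat.eq_of_beq_eq_true e4,
    Nat.eq_of_beq_eq_true e5, Nat.eq_of_beq_eq_true e6, Nat.eq_of_beq_eq_true e7, Nat.eq_of_beq_eq_true e8,
    Nat.eq_of_beq_eq_true e9⟩

end Cfsg.Agent.H942.S62
end

-- part: H942/S62/Vals
section
/-!
# The values of the character at the 2-elements of `Sp₆(2)`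
-/

set_option autoImplicit false
set_option maxRecDepth 100000

namespace Cfsg.Agent.H942.S62

open Cfsg Cfsg.Lie Module IsLocalRing
open Cfsg.Agent.H657 Cfsg.Agent.H942.E8Alc Cfsg.Agent.H942.E8Val
open Cfsg.Agent.H942.LMat Cfsg.Agent.H942.Enum Cfsg.Agent.H942.Forest Cfsg.Agent.H942.Common
open Cfsg.Agent.H540.E8C.End

/-! ### the representatives -/

theorem okR : fo.Rw.all okW = true := by decide +kernel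

theorem Rlen : fo.Rw.length = 14 := by decide +kernel

theorem Flen : fo.Fo.length = 508 := by decide +kernel

theorem FoR : ∀ k < 14, wordC (fo.Rw.getD k []) = fo.Fo.getD k [] := by decide +kernel

theorem enc_rep {k : ℕ} (hk : k < 14) : enc (fo.rep k) = fo.Fo.getD k [] := by
  rw [← FoR k hk]
  refine enc_word ?_
  have h := okR
  rw [List.all_eq_true] at h
  refine h _ ?_
  rw [List.getD_eq_getElem _ _ (by rw [Rlen]; exact hk)]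
  exact List.getElem_mem _

theorem invC : ∀ k < 5, mulC (fo.Fo.getD k []) (fo.Fo.getD k []) = oneC := by decide +kernel

theorem neC : ∀ k < 14, k ≠ 0 → fo.Fo.getD k [] ≠ oneC := by decide +kernel

theorem fourC : ∀ k < 10, mulC (mulC (fo.Fo.getD k []) (fo.Fo.getD k [])) (mulC (fo.Fo.getD k []) (fo.Fo.getD k [])) =
    oneC := by decide +kernel

theorem rep_zero : fo.rep 0 = 1 := rfl

theorem rep_ne {k : ℕ} (hk : k < 14) (h0 : k ≠ 0) : fo.rep k ≠ 1 := by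
  intro h
  refine neC k hk h0 ?_
  rw [← enc_rep hk, h, enc_one]

theorem rep_sq {k : ℕ} (hk : k < 5) : fo.rep k ^ 2 = 1 := by
  apply enc_inj
  rw [pow_two, enc_mul, enc_rep (by omega), invC k hk, enc_one]

theorem rep_four {k : ℕ} (hk : k < 10) : fo.rep k ^ 4 = 1 := by
  apply enc_inj
  rw [show (4 : ℕ) = 2 * 2 from rfl, pow_mul, pow_two, pow_two, enc_mul, enc_mul, enc_rep (by omega), fourC k hk,
    enc_one]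

theorem sqR : ∀ i < 5, mulC (fo.Fo.getD (i + 5) []) (fo.Fo.getD (i + 5) []) = fo.Fo.getD (sidx.getD i 0) [] ∧
    sidx.getD i 0 < 508 ∧ fo.root.getD (sidx.getD i 0) 0 = bif Nat.blt i 2 then 2 else 3 := by decide +kernel

theorem rep_sq' {i : ℕ} (hi : i < 5) : ∃ x : Sp2, fo.rep (i + 5) ^ 2 = x⁻¹ * fo.rep (bif Nat.blt i 2 then 2 else 3) * x := by
  obtain ⟨h1, h2, h3⟩ := sqR i hi
  obtain ⟨g, x, hg, -, hgx⟩ := forest fo_ok _ (by rw [Flen]; exact h2)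
  refine ⟨x, ?_⟩
  rw [← h3, ← hgx]
  apply enc_inj
  rw [pow_two, enc_mul, enc_rep (by omega), h1, hg]

theorem enc_y0 : enc y0 = fo.Fo.getD 10 [] := by decide +kernel

theorem rep10 : fo.rep 10 = y0 := enc_inj (by rw [enc_rep (by norm_num), enc_y0])

theorem ypC : mulC (fo.Fo.getD 10 []) (fo.Fo.getD 10 []) = fo.Fo.getD 11 [] ∧
    mulC (fo.Fo.getD 11 []) (fo.Fo.getD 10 []) = fo.Fo.getD 12 [] ∧
    mulC (fo.Fo.getD 12 []) (fo.Fo.getD 10 []) = fo.Fo.getD 13 [] := by decide +kernel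

theorem rep11 : fo.rep 11 = y0 ^ 2 := enc_inj (by
  rw [enc_rep (by norm_num), pow_two, enc_mul, enc_y0, ypC.1])

theorem rep12 : fo.rep 12 = y0 ^ 3 := enc_inj (by
  rw [enc_rep (by norm_num), pow_succ, ← rep11, enc_mul, enc_y0, enc_rep (by norm_num), ypC.2.1])

theorem rep13 : fo.rep 13 = y0 ^ 4 := enc_inj (by
  rw [enc_rep (by norm_num), pow_succ, ← rep12, enc_mul, enc_y0, enc_rep (by norm_num), ypC.2.2])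

/-! ### the values -/

section

variable {V : ValuationSubring ℂ} [CharP (ResidueField V) 3]

/-- the values at elements of order 4 -/
def domZ (x : ℤ) : List ℤ := if x = -8 then [0, 8, 64] else [-4, 4, 28, 132]

theorem exists_vals {F : Sp2 →* E} (hF : Function.Injective F) : ∃ t : ℕ → ℤ,
    (∀ k < 14, bc 3 (adj V F) (fo.rep k) = t k) ∧ t 0 = 248 ∧ (∀ k, k = 1 ∨ k = 2 ∨ k = 3 ∨ k = 4 → t k = -8 ∨ t k = 24) ∧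
    (∀ k, k = 5 ∨ k = 6 → t k ∈ domZ (t 2)) ∧ (∀ k, k = 7 ∨ k = 8 ∨ k = 9 → t k ∈ domZ (t 3)) ∧
    (t 11 = t 10 ∧ t 12 = t 10 ∧ t 13 = t 10) := by
  have h0 : ∀ k, ∃ z : ℤ, k < 14 → bc 3 (adj V F) (fo.rep k) = z := by
    intro k
    by_cases h1 : k < 10
    · obtain ⟨a, a2, a4, La, ea, ea2, ea4, fa, fa2, fa4⟩ := val8 V F (g := fo.rep k) (by
        rw [show (8 : ℕ) = 4 * 2 from rfl, pow_mul, rep_four h1, one_pow])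
      exact ⟨a, fun _ => ea⟩
    · by_cases h2 : k < 14
      · obtain ⟨z, hz, hz2, -⟩ := val5 V F (g := y0) y0_pow
        refine ⟨z, fun _ => ?_⟩
        have h3 : k = 10 ∨ k = 11 ∨ k = 12 ∨ k = 13 := by omega
        rcases h3 with rfl | rfl | rfl | rfl
        · rw [rep10]
          have := hz2 1 (by norm_num)
          rwa [pow_one] at this
        · rw [rep11]; exact hz2 2 (by norm_num)
        · rw [rep12]; exact hz2 3 (by norm_num)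
        · rw [rep13]; exact hz2 4 (by norm_num)
      · exact ⟨0, fun h => absurd h h2⟩
  choose t ht using h0
  have key : ∀ {k : ℕ}, k < 10 → ∃ a2 a4 : ℤ, (t k, a2, a4) ∈ L8 ∧ bc 3 (adj V F) (fo.rep k ^ 2) = a2 ∧
      (F (fo.rep k) = 1 ↔ t k = 248) ∧ (F (fo.rep k ^ 2) = 1 ↔ a2 = 248) ∧ a4 = 248 := by
    intro k hk
    obtain ⟨a, a2, a4, La, ea, ea2, ea4, fa, fa2, fa4⟩ := val8 V F (g := fo.rep k) (by
      rw [show (8 : ℕ) = 4 * 2 from rfl, pow_mul, rep_four hk, one_pow])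
    have h1 : a = t k := by
      have : (a : ℂ) = t k := by rw [← ea, ht k (by omega)]
      exact_mod_cast this
    subst h1
    exact ⟨a2, a4, La, ea2, fa, fa2, fa4.1 (by rw [rep_four hk, map_one])⟩
  refine ⟨t, ht, ?_, ?_, ?_, ?_, ?_⟩
  · obtain ⟨a2, a4, -, -, h, -⟩ := key (k := 0) (by norm_num)
    exact h.1 (by rw [rep_zero, map_one])
  · intro k hk
    have hk5 : k < 5 := by omega
    obtain ⟨a2, a4, La, -, h, h2, h4⟩ := key (k := k) (by omega)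
    have h3 : a2 = 248 := h2.1 (by rw [rep_sq hk5, map_one])
    have h5 : t k ≠ 248 := by
      intro h6
      exact rep_ne (show k < 14 by omega) (by omega) (hF ((h.2 h6).trans (map_one F).symm))
    rw [h3, h4] at La
    simp [L8] at La
    omega
  · intro k hk
    obtain ⟨a2, a4, La, e2, -, -, h4⟩ := key (k := k) (by omega)
    obtain ⟨x, hx⟩ := rep_sq' (i := k - 5) (by omega)
    have hk5 : k - 5 + 5 = k := by omega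
    have hb : (bif Nat.blt (k - 5) 2 then 2 else 3) = 2 := by
      rcases hk with rfl | rfl <;> rfl
    rw [hk5, hb] at hx
    have h5 : a2 = t 2 := by
      have : (a2 : ℂ) = t 2 := by rw [← e2, hx, bc_conj', ht 2 (by norm_num)]
      exact_mod_cast this
    rw [h4, h5] at La
    have h6 : t 2 = -8 ∨ t 2 = 24 := by
      obtain ⟨b2, b4, Lb, -, h, h2, h4⟩ := key (k := 2) (by omega)
      have h3 : b2 = 248 := h2.1 (by rw [rep_sq (by norm_num), map_one])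
      have h5 : t 2 ≠ 248 := by
        intro h6
        exact rep_ne (show 2 < 14 by omega) (by omega) (hF ((h.2 h6).trans (map_one F).symm))
      rw [h3, h4] at Lb
      simp [L8] at Lb
      omega
    unfold domZ
    rcases h6 with h6 | h6 <;> rw [h6] at La ⊢ <;> simp [L8] at La ⊢ <;> omega
  · intro k hk
    obtain ⟨a2, a4, La, e2, -, -, h4⟩ := key (k := k) (by omega)
    obtain ⟨x, hx⟩ := rep_sq' (i := k - 5) (by omega)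
    have hk5 : k - 5 + 5 = k := by omega
    have hb : (bif Nat.blt (k - 5) 2 then 2 else 3) = 3 := by
      rcases hk with rfl | rfl | rfl <;> rfl
    rw [hk5, hb] at hx
    have h5 : a2 = t 3 := by
      have : (a2 : ℂ) = t 3 := by rw [← e2, hx, bc_conj', ht 3 (by norm_num)]
      exact_mod_cast this
    rw [h4, h5] at La
    have h6 : t 3 = -8 ∨ t 3 = 24 := by
      obtain ⟨b2, b4, Lb, -, h, h2, h4⟩ := key (k := 3) (by omega)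
      have h3 : b2 = 248 := h2.1 (by rw [rep_sq (by norm_num), map_one])
      have h5 : t 3 ≠ 248 := by
        intro h6
        exact rep_ne (show 3 < 14 by omega) (by omega) (hF ((h.2 h6).trans (map_one F).symm))
      rw [h3, h4] at Lb
      simp [L8] at Lb
      omega
    unfold domZ
    rcases h6 with h6 | h6 <;> rw [h6] at La ⊢ <;> simp [L8] at La ⊢ <;> omega
  · obtain ⟨z, -, hz2, -⟩ := val5 V F (g := y0) y0_pow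
    have e1 := ht 10 (by norm_num)
    have e2 := ht 11 (by norm_num)
    have e3 := ht 12 (by norm_num)
    have e4 := ht 13 (by norm_num)
    have f1 := hz2 1 (by norm_num)
    rw [pow_one] at f1
    rw [rep10, f1] at e1
    rw [rep11, hz2 2 (by norm_num)] at e2
    rw [rep12, hz2 3 (by norm_num)] at e3
    rw [rep13, hz2 4 (by norm_num)] at e4
    refine ⟨?_, ?_, ?_⟩
    · exact_mod_cast e2.symm.trans e1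
    · exact_mod_cast e3.symm.trans e1
    · exact_mod_cast e4.symm.trans e1

end

end Cfsg.Agent.H942.S62
end

-- part: H942/S62/Dims
section
/-!
# The dimensions of the fixed spaces
-/

set_option autoImplicit false
set_option maxRecDepth 100000

namespace Cfsg.Agent.H942.S62

open Cfsg Cfsg.Lie Module IsLocalRing
open Cfsg.Agent.H657 Cfsg.Agent.H942.E8Alc Cfsg.Agent.H942.E8Val
open Cfsg.Agent.H942.LMat Cfsg.Agent.H942.Enum Cfsg.Agent.H942.Forest Cfsg.Agent.H942.Common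
open Cfsg.Agent.H540.E8C.End

/-- the counts -/
def cc (D : TD) (n : ℕ) : List ℕ := (List.range 14).map (cntK n (fun i => fo.root.getD (D.idx.getD i 0) 0))

theorem cc_of {D : TD} {n : ℕ} {l : List ℕ} (h : (fitN 9 D.idx &&
    beqL ((List.range 14).map (cntK n fun i => lkN 4 fo.root (lkN 9 D.idx i))) l) = true) : cc D n = l := by
  rw [Bool.and_eq_true] at h
  delta cc
  simp only [lkN_eq fo_root, lkN_eq h.1]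
  exact beqL_eq h.2

theorem c1a : cc tb1 64 = (beta% delta% lq26e5b57e8d fun a b _ _ _ _ _ =>
 (a 1<|a 1<|a 7<|a 3<|a 28<|a 12<|a 12<|a 0<|a 0<|a 0<|a 0<|a 0<|a 0<|a 0<|b) :
 List ℕ) := cc_of (by decide +kernel)
theorem c1b : cc tb1 128 = (beta% delta% lq26e5b57e8d fun a b _ _ _ _ _ =>
 (a 1<|a 3<|a 11<|a 13<|a 36<|a 12<|a 20<|a 8<|a 8<|a 16<|a 0<|a 0<|a 0<|a 0<|b) :
 List ℕ) := cc_of (by decide +kernel)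
theorem c1c : cc tb1 256 = (beta% delta% lq26e5b57e8d fun a b _ _ _ _ _ =>
 (a 1<|a 3<|a 11<|a 13<|a 36<|a 12<|a 52<|a 24<|a 24<|a 80<|a 0<|a 0<|a 0<|a 0<|b) :
 List ℕ) := cc_of (by decide +kernel)
theorem c2a : cc tb2 32 = (beta% delta% lq26e5b57e8d fun a b _ _ _ _ _ =>
 (a 1<|a 0<|a 1<|a 6<|a 4<|a 0<|a 4<|a 0<|a 0<|a 16<|a 0<|a 0<|a 0<|a 0<|b) :
 List ℕ) := cc_of (by decide +kernel)
theorem c2b : cc tb2 64 = (beta% delta% lq26e5b57e8d fun a b _ _ _ _ _ =>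
 (a 1<|a 0<|a 1<|a 14<|a 12<|a 4<|a 8<|a 8<|a 0<|a 16<|a 0<|a 0<|a 0<|a 0<|b) :
 List ℕ) := cc_of (by decide +kernel)
theorem c3a : cc tb3 16 = (beta% delta% lq26e5b57e8d fun a b _ _ _ _ _ =>
 (a 1<|a 0<|a 3<|a 0<|a 0<|a 6<|a 6<|a 0<|a 0<|a 0<|a 0<|a 0<|a 0<|a 0<|b) :
 List ℕ) := cc_of (by decide +kernel)
theorem c3b : cc tb3 32 = (beta% delta% lq26e5b57e8d fun a b _ _ _ _ _ =>
 (a 1<|a 0<|a 3<|a 0<|a 16<|a 6<|a 6<|a 0<|a 0<|a 0<|a 0<|a 0<|a 0<|a 0<|b) :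
 List ℕ) := cc_of (by decide +kernel)
theorem c4a : cc tb4 64 = (beta% delta% lq26e5b57e8d fun a b _ _ _ _ _ =>
 (a 1<|a 7<|a 7<|a 21<|a 28<|a 0<|a 0<|a 0<|a 0<|a 0<|a 0<|a 0<|a 0<|a 0<|b) :
 List ℕ) := cc_of (by decide +kernel)
theorem c4b : cc tb4 128 = (beta% delta% lq26e5b57e8d fun a b _ _ _ _ _ =>
 (a 1<|a 7<|a 11<|a 25<|a 36<|a 4<|a 12<|a 8<|a 8<|a 16<|a 0<|a 0<|a 0<|a 0<|b) :
 List ℕ) := cc_of (by decide +kernel)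
theorem c5a : cc tb5 8 = (beta% delta% lq26e5b57e8d fun a b _ _ _ _ _ =>
 (a 1<|a 0<|a 1<|a 2<|a 0<|a 0<|a 4<|a 0<|a 0<|a 0<|a 0<|a 0<|a 0<|a 0<|b) :
 List ℕ) := cc_of (by decide +kernel)
theorem c5b : cc tb5 16 = (beta% delta% lq26e5b57e8d fun a b _ _ _ _ _ =>
 (a 1<|a 1<|a 1<|a 3<|a 2<|a 4<|a 4<|a 0<|a 0<|a 0<|a 0<|a 0<|a 0<|a 0<|b) :
 List ℕ) := cc_of (by decide +kernel)
theorem c6a : cc tb6 32 = (beta% delta% lq26e5b57e8d fun a b _ _ _ _ _ =>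
 (a 1<|a 1<|a 15<|a 15<|a 0<|a 0<|a 0<|a 0<|a 0<|a 0<|a 0<|a 0<|a 0<|a 0<|b) :
 List ℕ) := cc_of (by decide +kernel)
theorem c6b : cc tb6 64 = (beta% delta% lq26e5b57e8d fun a b _ _ _ _ _ =>
 (a 1<|a 1<|a 19<|a 15<|a 4<|a 0<|a 24<|a 0<|a 0<|a 0<|a 0<|a 0<|a 0<|a 0<|b) :
 List ℕ) := cc_of (by decide +kernel)
theorem c7a : cc tb7 16 = (beta% delta% lq26e5b57e8d fun a b _ _ _ _ _ =>
 (a 1<|a 0<|a 5<|a 10<|a 0<|a 0<|a 0<|a 0<|a 0<|a 0<|a 0<|a 0<|a 0<|a 0<|b) :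
 List ℕ) := cc_of (by decide +kernel)
theorem c7b : cc tb7 32 = (beta% delta% lq26e5b57e8d fun a b _ _ _ _ _ =>
 (a 1<|a 0<|a 5<|a 14<|a 0<|a 4<|a 0<|a 0<|a 0<|a 8<|a 0<|a 0<|a 0<|a 0<|b) :
 List ℕ) := cc_of (by decide +kernel)
theorem c8b : cc tb8 80 = (beta% delta% lq26e5b57e8d fun a b _ _ _ _ _ =>
 (a 1<|a 0<|a 5<|a 10<|a 0<|a 0<|a 0<|a 0<|a 0<|a 0<|a 16<|a 16<|a 16<|a 16<|b) :
 List ℕ) := cc_of (by decide +kernel)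

section

variable {M : Ideal AlgInt} {V : ValuationSubring ℂ} [CharP (ResidueField V) 3]

theorem eqn2 (hM : IsPModular 3 M) (hV : Above M V) (F : Sp2 →* E) {D : TD}
    (hT : chkT D = true) (hI : chkI fo D.E D.idx = true) {n m : ℕ} (hP : chkP D n m = true) (hn : n.Coprime 3)
    {t : ℕ → ℤ} (ht : ∀ k < 14, bc 3 (adj V F) (fo.rep k) = t k)
    {a0 a1 a2 a3 a4 a5 a6 a7 a8 a9 a10 a11 a12 a13 : ℕ}
    (hc : cc D n = (beta% delta% lq26e5b57e8d fun a b _ _ _ _ _ =>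
 (a a0<|a a1<|a a2<|a a3<|a a4<|a a5<|a a6<|a a7<|a a8<|a a9<|a a10<|a a11<|a a12<|a a13<|b) :
 List ℕ)) :
    a0 * t 0 + a1 * t 1 + a2 * t 2 + a3 * t 3 + a4 * t 4 + a5 * t 5 + a6 * t 6 + a7 * t 7 + a8 * t 8 + a9 * t 9 +
      a10 * t 10 + a11 * t 11 + a12 * t 12 + a13 * t 13 =
      (n : ℤ) * (finrank (ZMod 3) ↥(fixW F (D.Gw.take m)) : ℤ) := by
  have h1 := eqn hM hV F fo_ok hT hI hP hn (t := t) (fun k hk => ht k (by rw [Rlen] at hk; exact hk))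
  rw [Rlen] at h1
  rw [← h1]
  unfold cc at hc
  simp only [List.range_succ, List.range_zero, List.nil_append, List.map_cons, List.map_nil,
    List.cons_append, List.cons.injEq] at hc
  obtain ⟨e0, e1, e2, e3, e4, e5, e6, e7, e8, e9, e10, e11, e12, e13, -⟩ := hc
  simp only [Finset.sum_range_succ, Finset.sum_range_zero, zero_add]
  rw [e0, e1, e2, e3, e4, e5, e6, e7, e8, e9, e10, e11, e12, e13]

/-- **The dimensions.** -/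
structure Dims (F : Sp2 →* E) : Prop where
  d4a : finrank (ZMod 3) ↥(fixW F (tb4.Gw.take 6)) = 10
  d4b : finrank (ZMod 3) ↥(fixW F (tb4.Gw.take 7)) = 8
  d5a : finrank (ZMod 3) ↥(fixW F (tb5.Gw.take 2)) = 36
  d5b : finrank (ZMod 3) ↥(fixW F (tb5.Gw.take 3)) = 36
  d6a : finrank (ZMod 3) ↥(fixW F (tb6.Gw.take 5)) = 16
  d6b : finrank (ZMod 3) ↥(fixW F (tb6.Gw.take 6)) = 7
  d7a : finrank (ZMod 3) ↥(fixW F (tb7.Gw.take 4)) = 28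
  d7b : finrank (ZMod 3) ↥(fixW F (tb7.Gw.take 5)) = 26
  d8 : ∃ z : ℤ, (∀ k : ℕ, ¬ 5 ∣ k → bc 3 (adj V F) (y0 ^ k) = z) ∧
    448 + 64 * z = 80 * (finrank (ZMod 3) ↥(fixW F (tb8.Gw.take 5)) : ℤ)

theorem take_le {F : Sp2 →* E} (l : List (List ℕ)) {a b : ℕ} (h : a ≤ b) :
    finrank (ZMod 3) ↥(fixW F (l.take b)) ≤ finrank (ZMod 3) ↥(fixW F (l.take a)) :=
  Submodule.finrank_mono (fixW_anti fun _ hw => List.take_subset_take_left l h hw)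

theorem conv {a0 a1 a2 a3 a4 a5 a6 a7 a8 a9 n d u1 u2 u3 u4 u5 u6 u7 u8 u9 : ℕ} {t : ℕ → ℤ}
    (h0 : t 0 = 248) (hu1 : (u1 : ℤ) = t 1 + 8) (hu2 : (u2 : ℤ) = t 2 + 8) (hu3 : (u3 : ℤ) = t 3 + 8)
    (hu4 : (u4 : ℤ) = t 4 + 8) (hu5 : (u5 : ℤ) = t 5 + 8) (hu6 : (u6 : ℤ) = t 6 + 8) (hu7 : (u7 : ℤ) = t 7 + 8)
    (hu8 : (u8 : ℤ) = t 8 + 8) (hu9 : (u9 : ℤ) = t 9 + 8)
    (e : a0 * t 0 + a1 * t 1 + a2 * t 2 + a3 * t 3 + a4 * t 4 + a5 * t 5 + a6 * t 6 + a7 * t 7 + a8 * t 8 + a9 * t 9 +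
      (0 : ℕ) * t 10 + (0 : ℕ) * t 11 + (0 : ℕ) * t 12 + (0 : ℕ) * t 13 = (n : ℤ) * (d : ℤ))
    (hs : a0 + a1 + a2 + a3 + a4 + a5 + a6 + a7 + a8 + a9 = n) :
    (beta% delta% lq26e5b57e8d fun a b _ _ _ _ _ =>
 dot (a a0<|a a1<|a a2<|a a3<|a a4<|a a5<|a a6<|a a7<|a a8<|a a9<|b) (a 256<|a u1<|a u2<|a u3<|a u4<|a u5<|a u6<|a u7<|a u8<|a u9<|b) :
 ℕ) = n * (d + 8) := by
  have hs' : (a0 : ℤ) + a1 + a2 + a3 + a4 + a5 + a6 + a7 + a8 + a9 = n := by exact_mod_cast hs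
  have h1 : (((beta% delta% lq26e5b57e8d fun a b _ _ _ _ _ =>
 dot (a a0<|a a1<|a a2<|a a3<|a a4<|a a5<|a a6<|a a7<|a a8<|a a9<|b) (a 256<|a u1<|a u2<|a u3<|a u4<|a u5<|a u6<|a u7<|a u8<|a u9<|b)) : ℕ) : ℤ) =
      ((n * (d + 8) : ℕ) : ℤ) := by
    simp only [dot]
    push_cast
    rw [hu1, hu2, hu3, hu4, hu5, hu6, hu7, hu8, hu9]
    rw [h0] at e
    push_cast at e
    linear_combination e + 8 * hs'
  exact_mod_cast h1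

theorem solve {n d s : ℕ} {c u : List ℕ} (h : dot c u = n * (d + 8)) (hn : 0 < n) (hc : dot c u = n * (s + 8)) :
    d = s := by
  have h1 : n * (d + 8) = n * (s + 8) := h.symm.trans hc
  have h2 := Nat.eq_of_mul_eq_mul_left hn h1
  omega

theorem n0 {x : ℤ} (h : x = -8 ∨ x = 24) : ∃ u : ℕ, (u : ℤ) = x + 8 ∧ (u = 0 ∨ u = 32) := by
  rcases h with h | h
  · exact ⟨0, by rw [h]; norm_num, Or.inl rfl⟩
  · exact ⟨32, by rw [h]; norm_num, Or.inr rfl⟩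

theorem n1 {x z : ℤ} {u : ℕ} (hu : (u : ℤ) = x + 8) (h0 : u = 0 ∨ u = 32) (hz : z ∈ domZ x) :
    ∃ w : ℕ, (w : ℤ) = z + 8 ∧ w ∈ dom u := by
  rcases h0 with rfl | rfl
  · have hx : x = -8 := by push_cast at hu; omega
    subst hx
    simp [domZ] at hz
    rcases hz with rfl | rfl | rfl
    · exact ⟨8, by norm_num, by decide⟩
    · exact ⟨16, by norm_num, by decide⟩
    · exact ⟨72, by norm_num, by decide⟩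
  · have hx : x = 24 := by push_cast at hu; omega
    subst hx
    simp [domZ] at hz
    rcases hz with rfl | rfl | rfl | rfl
    · exact ⟨4, by norm_num, by decide⟩
    · exact ⟨12, by norm_num, by decide⟩
    · exact ⟨36, by norm_num, by decide⟩
    · exact ⟨140, by norm_num, by decide⟩

theorem dims (hM : IsPModular 3 M) (hV : Above M V) {F : Sp2 →* E} (hF : Function.Injective F) : Dims (V := V) F := by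
  obtain ⟨t, ht, t0, tinv, t2, t3, t5⟩ := exists_vals (V := V) hF
  obtain ⟨u1, hu1, o1⟩ := n0 (tinv 1 (by norm_num))
  obtain ⟨u2, hu2, o2⟩ := n0 (tinv 2 (by norm_num))
  obtain ⟨u3, hu3, o3⟩ := n0 (tinv 3 (by norm_num))
  obtain ⟨u4, hu4, o4⟩ := n0 (tinv 4 (by norm_num))
  obtain ⟨u5, hu5, o5⟩ := n1 hu2 o2 (t2 5 (by norm_num))
  obtain ⟨u6, hu6, o6⟩ := n1 hu2 o2 (t2 6 (by norm_num))
  obtain ⟨u7, hu7, o7⟩ := n1 hu3 o3 (t3 7 (by norm_num))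
  obtain ⟨u8, hu8, o8⟩ := n1 hu3 o3 (t3 8 (by norm_num))
  obtain ⟨u9, hu9, o9⟩ := n1 hu3 o3 (t3 9 (by norm_num))
  have g1a := conv t0 hu1 hu2 hu3 hu4 hu5 hu6 hu7 hu8 hu9
    (eqn2 hM hV F tb1_ok tb1_idx tb1_p64 (by norm_num) ht c1a) rfl
  have g1b := conv t0 hu1 hu2 hu3 hu4 hu5 hu6 hu7 hu8 hu9
    (eqn2 hM hV F tb1_ok tb1_idx tb1_p128 (by norm_num) ht c1b) rfl
  have g1c := conv t0 hu1 hu2 hu3 hu4 hu5 hu6 hu7 hu8 hu9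
    (eqn2 hM hV F tb1_ok tb1_idx tb1_p256 (by norm_num) ht c1c) rfl
  have g2a := conv t0 hu1 hu2 hu3 hu4 hu5 hu6 hu7 hu8 hu9
    (eqn2 hM hV F tb2_ok tb2_idx tb2_p32 (by norm_num) ht c2a) rfl
  have g2b := conv t0 hu1 hu2 hu3 hu4 hu5 hu6 hu7 hu8 hu9
    (eqn2 hM hV F tb2_ok tb2_idx tb2_p64 (by norm_num) ht c2b) rfl
  have g3a := conv t0 hu1 hu2 hu3 hu4 hu5 hu6 hu7 hu8 hu9
    (eqn2 hM hV F tb3_ok tb3_idx tb3_p16 (by norm_num) ht c3a) rfl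
  have g3b := conv t0 hu1 hu2 hu3 hu4 hu5 hu6 hu7 hu8 hu9
    (eqn2 hM hV F tb3_ok tb3_idx tb3_p32 (by norm_num) ht c3b) rfl
  have g4a := conv t0 hu1 hu2 hu3 hu4 hu5 hu6 hu7 hu8 hu9
    (eqn2 hM hV F tb4_ok tb4_idx tb4_p64 (by norm_num) ht c4a) rfl
  have g4b := conv t0 hu1 hu2 hu3 hu4 hu5 hu6 hu7 hu8 hu9
    (eqn2 hM hV F tb4_ok tb4_idx tb4_p128 (by norm_num) ht c4b) rfl
  have g5a := conv t0 hu1 hu2 hu3 hu4 hu5 hu6 hu7 hu8 hu9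
    (eqn2 hM hV F tb5_ok tb5_idx tb5_p8 (by norm_num) ht c5a) rfl
  have g5b := conv t0 hu1 hu2 hu3 hu4 hu5 hu6 hu7 hu8 hu9
    (eqn2 hM hV F tb5_ok tb5_idx tb5_p16 (by norm_num) ht c5b) rfl
  have g6a := conv t0 hu1 hu2 hu3 hu4 hu5 hu6 hu7 hu8 hu9
    (eqn2 hM hV F tb6_ok tb6_idx tb6_p32 (by norm_num) ht c6a) rfl
  have g6b := conv t0 hu1 hu2 hu3 hu4 hu5 hu6 hu7 hu8 hu9
    (eqn2 hM hV F tb6_ok tb6_idx tb6_p64 (by norm_num) ht c6b) rfl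
  have g7a := conv t0 hu1 hu2 hu3 hu4 hu5 hu6 hu7 hu8 hu9
    (eqn2 hM hV F tb7_ok tb7_idx tb7_p16 (by norm_num) ht c7a) rfl
  have g7b := conv t0 hu1 hu2 hu3 hu4 hu5 hu6 hu7 hu8 hu9
    (eqn2 hM hV F tb7_ok tb7_idx tb7_p32 (by norm_num) ht c7b) rfl
  have e8b := eqn2 hM hV F tb8_ok tb8_idx tb8_p80 (by norm_num) ht c8b
  have hg : good [256, u1, u2, u3, u4, u5, u6, u7, u8, u9] = true := by
    unfold good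
    simp only [Bool.and_eq_true]
    exact ⟨⟨⟨⟨⟨⟨⟨⟨⟨⟨⟨⟨⟨⟨⟨⟨⟨⟨⟨⟨⟨⟨okE_of (by norm_num) g7a, okE_of (by norm_num) g6a⟩, okE_of (by norm_num) g4a⟩,
      okE_of (by norm_num) g5a⟩, okE_of (by norm_num) g3a⟩, okE_of (by norm_num) g3b⟩, okE_of (by norm_num) g5b⟩,
      okE_of (by norm_num) g6b⟩, okE_of (by norm_num) g1a⟩, okE_of (by norm_num) g7b⟩, okE_of (by norm_num) g4b⟩,
      okE_of (by norm_num) g2a⟩, okE_of (by norm_num) g2b⟩, okE_of (by norm_num) g1b⟩, okE_of (by norm_num) g1c⟩,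
      leE_of (by norm_num) g7a (by norm_num) g7b (take_le _ (by norm_num))⟩,
      leE_of (by norm_num) g6a (by norm_num) g6b (take_le _ (by norm_num))⟩,
      leE_of (by norm_num) g5a (by norm_num) g5b (take_le _ (by norm_num))⟩,
      leE_of (by norm_num) g4a (by norm_num) g4b (take_le _ (by norm_num))⟩,
      leE_of (by norm_num) g3a (by norm_num) g3b (take_le _ (by norm_num))⟩,
      leE_of (by norm_num) g2a (by norm_num) g2b (take_le _ (by norm_num))⟩,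
      leE_of (by norm_num) g1a (by norm_num) g1b (take_le _ (by norm_num))⟩,
      leE_of (by norm_num) g1b (by norm_num) g1c (take_le _ (by norm_num))⟩
  obtain ⟨f1, f2, f3, f4, f5, f6, f7, f8, f9⟩ := cert' o1 o2 o3 o4 o5 o6 o7 o8 o9 hg
  subst f1 f2 f3 f4 f5 f6 f7 f8 f9
  obtain ⟨t11, t12, t13⟩ := t5
  refine ⟨solve g4a (by norm_num) (by decide +kernel), solve g4b (by norm_num) (by decide +kernel),
    solve g5a (by norm_num) (by decide +kernel), solve g5b (by norm_num) (by decide +kernel),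
    solve g6a (by norm_num) (by decide +kernel), solve g6b (by norm_num) (by decide +kernel),
    solve g7a (by norm_num) (by decide +kernel), solve g7b (by norm_num) (by decide +kernel), ?_⟩
  obtain ⟨z, -, hz, -⟩ := val5 V F (g := y0) y0_pow
  refine ⟨z, hz, ?_⟩
  have h10 : t 10 = z := by
    have h1 := ht 10 (by norm_num)
    have h2 := hz 1 (by norm_num)
    rw [pow_one] at h2
    rw [rep10, h2] at h1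
    exact_mod_cast h1.symm
  have h2 : t 2 = -8 := by push_cast at hu2; linarith only [hu2]
  have h3 : t 3 = 24 := by push_cast at hu3; linarith only [hu3]
  rw [t11, t12, t13, h10, t0, h2, h3] at e8b
  push_cast at e8b
  linear_combination e8b

end

end Cfsg.Agent.H942.S62
end

-- part: H942/S62/Num
section
/-!
# `Sp₆(2)` in `E₈(3)`: the numbers
-/

set_option autoImplicit false
set_option maxRecDepth 100000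

namespace Cfsg.Agent.H942.S62

open Cfsg Cfsg.Lie Module IsLocalRing
open Cfsg.Agent.H657 Cfsg.Agent.H942.E8Alc Cfsg.Agent.H942.E8Val
open Cfsg.Agent.H942.LMat Cfsg.Agent.H942.Enum Cfsg.Agent.H942.Forest Cfsg.Agent.H942.Common
open Cfsg.Agent.H540.E8C.End

/-! ### conjugates of fixed spaces -/

/-- the action as a linear equivalence -/
noncomputable def acE (g : E) : LL ≃ₗ[ZMod 3] LL where
  toFun := ac g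
  invFun := ac g⁻¹
  map_add' := ac_add g
  map_smul' := fun _ _ => Matrix.mulVec_smul _ _ _
  left_inv := ac_inv_ac g
  right_inv := ac_ac_inv g

/-- the conjugate of a subspace -/
noncomputable def cj (g : E) (U : Submodule (ZMod 3) LL) : Submodule (ZMod 3) LL :=
  U.map (acE g : LL →ₗ[ZMod 3] LL)

theorem finrank_cj (g : E) (U : Submodule (ZMod 3) LL) : finrank (ZMod 3) ↥(cj g U) = finrank (ZMod 3) ↥U :=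
  LinearEquiv.finrank_map_eq (acE g) U

theorem inf_ge {U U' W : Submodule (ZMod 3) LL} (h : U ≤ W) (h' : U' ≤ W) :
    finrank (ZMod 3) ↥U + finrank (ZMod 3) ↥U' ≤ finrank (ZMod 3) ↥(U ⊓ U') + finrank (ZMod 3) ↥W := by
  have h1 := Submodule.finrank_sup_add_finrank_inf_eq U U'
  have h2 : finrank (ZMod 3) ↥(U ⊔ U') ≤ finrank (ZMod 3) ↥W := Submodule.finrank_mono (sup_le h h')
  omega

/-- the check that `g` normalises modulo the table -/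
def chkC (D : TD) (n : ℕ) (gc : List ℕ) (ws : List (List ℕ)) (ks : List ℕ) : Bool :=
  ws.all okW && (List.range ws.length).all fun j => Nat.blt (ks.getD j 0) n &&
    beqL (mulC (wordC (ws.getD j [])) gc) (mulC gc (D.E.getD (ks.getD j 0) []))

theorem conj_fix {D : TD} (hT : chkT D = true) {n m : ℕ} (hP : chkP D n m = true) {F : Sp2 →* E} {g : Sp2}
    {gc : List ℕ} (hg : enc g = gc) {ws : List (List ℕ)} {ks : List ℕ} (hk : chkC D n gc ws ks = true)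
    {w : LL} (hw : w ∈ fixW F (D.Gw.take m)) : ac (F g) w ∈ fixW F ws := by
  obtain ⟨e, he, hTab⟩ := exists_tab hT
  obtain ⟨hTab', hn', hm'⟩ := restrict_tab hTab hP
  rw [← fixL_eq hTab' hm'] at hw
  unfold chkC at hk
  simp only [Bool.and_eq_true, List.all_eq_true, List.mem_range, Nat.blt_eq] at hk
  obtain ⟨hok, hk⟩ := hk
  intro x hx
  obtain ⟨j, hj, rfl⟩ := List.mem_iff_getElem.1 hx
  obtain ⟨h1, h2⟩ := hk j hj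
  rw [List.getD_eq_getElem _ _ hj] at h2
  have h3 : wordE ws[j] * g = g * e (ks.getD j 0) := by
    apply enc_inj
    rw [enc_mul, enc_mul, enc_word (hok _ hx), hg, he _ (lt_of_lt_of_le h1 hn')]
    exact beqL_eq h2
  have h4 : ac (F (e (ks.getD j 0))) w = w := hw _ (List.mem_map_of_mem (List.mem_range.2 h1))
  rw [← ac_mul, ← map_mul, h3, map_mul, ac_mul, h4]

theorem cj_le {D : TD} (hT : chkT D = true) {n m m' : ℕ} (hmm : m ≤ m') (hP : chkP D n m = true) {F : Sp2 →* E} {g : Sp2}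
    {gc : List ℕ} (hg : enc g = gc) {ws : List (List ℕ)} {ks : List ℕ} (hk : chkC D n gc ws ks = true) :
    cj (F g) (fixW F (D.Gw.take m')) ≤ fixW F ws := by
  rintro _ ⟨w, hw, rfl⟩
  exact conj_fix hT hP hg hk (fixW_anti (fun _ h => List.take_subset_take_left _ hmm h) hw)

/-! ### order 5 -/

theorem chk7 : chkC tb7 16 (fo.Fo.getD 10 []) (tb7.Gw.take 4) [8, 1, 15, 4] = true := by decide +kernel

theorem g7C : mulC (wordC [32, 34]) (wordC [32, 34]) = oneC ∧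
    mulC (mulC (wordC [32, 34]) (fo.Fo.getD 10 [])) (wordC [32, 34]) = fo.Fo.getD 13 [] := by decide +kernel

theorem tb7_4 : wordE [32, 34] * wordE [32, 34] = 1 ∧ wordE [32, 34] * y0 * wordE [32, 34] = y0 ^ 4 := by
  have h1 : enc (wordE [32, 34]) = wordC [32, 34] := enc_word (by decide)
  constructor
  · apply enc_inj
    rw [enc_mul, h1, g7C.1, enc_one]
  · apply enc_inj
    rw [enc_mul, enc_mul, h1, enc_y0, g7C.2, ← rep13, enc_rep (by norm_num)]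

theorem word_y0 : wordE [4, 36, 38, 22] = y0 := rep10

theorem d8_ge {V : ValuationSubring ℂ} [CharP (ResidueField V) 3] {F : Sp2 →* E} (hD : Dims (V := V) F) :
    24 ≤ finrank (ZMod 3) ↥(fixW F (tb8.Gw.take 5)) := by
  have h1 : fixW F (tb7.Gw.take 5) ≤ fixW F (tb7.Gw.take 4) :=
    fixW_anti fun _ h => List.take_subset_take_left _ (by norm_num) h
  have h2 : cj (F y0) (fixW F (tb7.Gw.take 5)) ≤ fixW F (tb7.Gw.take 4) :=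
    cj_le tb7_ok (by norm_num) tb7_p16 enc_y0 chk7
  have h3 := inf_ge h1 h2
  rw [finrank_cj, hD.d7a, hD.d7b] at h3
  have h4 : fixW F (tb7.Gw.take 5) ⊓ cj (F y0) (fixW F (tb7.Gw.take 5)) ≤ fixW F (tb8.Gw.take 5) := by
    rintro v ⟨hv, w, hw, hwv⟩
    have hwv' : ac (F y0) w = v := hwv
    have h5 : ac (F (wordE [32, 34])) v = v := hv [32, 34] (by decide)
    have h6 : ac (F (wordE [32, 34])) w = w := hw [32, 34] (by decide)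
    obtain ⟨k1, k2⟩ := tb7_4
    have h7 : wordE [32, 34] * y0 = y0 ^ 4 * wordE [32, 34] := by
      rw [← k2, mul_assoc (wordE [32, 34] * y0), k1, mul_one]
    have h8 : ac (F (y0 ^ 3)) v = v := by
      have e1 : ac (F (wordE [32, 34])) (ac (F y0) w) = ac (F (y0 ^ 3)) (ac (F y0) w) := by
        rw [← ac_mul, ← map_mul, h7, map_mul, ac_mul, h6, ← ac_mul, ← map_mul, ← pow_succ]
      rw [hwv', h5] at e1
      exact e1.symm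
    have h9 : ac (F y0) v = v := by
      have e2 : (y0 ^ 3) ∈ stS F v := h8
      have e3 : (y0 ^ 3) ^ 2 ∈ stS F v := (stS F v).pow_mem e2 2
      rw [← pow_mul, show 3 * 2 = 5 + 1 from rfl, pow_succ, y0_pow, one_mul] at e3
      exact e3
    intro x hx
    have hx' : x = [4, 36, 38, 22] ∨ x ∈ tb7.Gw.take 5 := by
      have : ∀ x ∈ tb8.Gw.take 5, x = [4, 36, 38, 22] ∨ x ∈ tb7.Gw.take 5 := by decide
      exact this x hx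
    rcases hx' with rfl | hx'
    · rw [word_y0]
      exact h9
    · exact hv x hx'
  have h5 := Submodule.finrank_mono (R := ZMod 3) h4
  omega

/-- **Elements of order 5.** -/
def Val5 : Prop := ∀ (V : ValuationSubring ℂ) [CharP (ResidueField V) 3] (F : Sp2 →* E) (g : Sp2), g ^ 5 = 1 → F g ≠ 1 →
  ∃ t : ℤ, (t = -2 ∨ t = 3 ∨ t = 23) ∧ (∀ d : ℕ, ¬ 5 ∣ d → bc 3 (adj V F) (g ^ d) = t) ∧
    (t = 23 → ∃ x' : E, x' ^ 2 = 1 ∧ x' ≠ 1 ∧ Commute (F g) x' ∧ ∀ v : LL, ac (F g) v = v → ac x' v = v)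

theorem partner (h5 : Val5) {V : ValuationSubring ℂ} [CharP (ResidueField V) 3] {F : Sp2 →* E}
    (hF : Function.Injective F) (hD : Dims (V := V) F) :
    ∃ x' : E, x' ^ 2 = 1 ∧ x' ≠ 1 ∧ Commute (F y0) x' ∧ ∀ v : LL, ac (F y0) v = v → ac x' v = v := by
  obtain ⟨t, ht, hbc, hp⟩ := h5 V F y0 y0_pow (fun h => y0_ne (hF (h.trans (map_one F).symm)))
  obtain ⟨z, hz, hz2⟩ := hD.d8
  have h1 := d8_ge hD
  have h2 : z = t := by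
    have e1 := hz 1 (by norm_num)
    have e2 := hbc 1 (by norm_num)
    rw [e1] at e2
    exact_mod_cast e2
  exact hp (by omega)

/-! ### order 10 -/

theorem bC : wordC [2, 3] = mulC (mulC (wordC [4, 5]) (wordC [6, 7])) (wordC [1]) := by decide +kernel

theorem enc_t0 : enc t0 = wordC [1] := by decide +kernel

theorem w1 : wordE [1] = t0 := enc_inj (by rw [enc_word (by decide), enc_t0])

theorem order10 {V : ValuationSubring ℂ} [CharP (ResidueField V) 3] {F : Sp2 →* E} (hD : Dims (V := V) F) :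
    ∃ v : LL, ac (F y0) v = v ∧ ac (F t0) v ≠ v := by
  by_contra hcon
  push Not at hcon
  have h1 : fixW F (tb8.Gw.take 5) ≤ fixW F (tb6.Gw.take 5) := by
    intro v hv
    have g0 : wordE [4, 5] ∈ stS F v := hv [4, 5] (by decide)
    have g1 : wordE [6, 7] ∈ stS F v := hv [6, 7] (by decide)
    have g2 : wordE [32, 33] ∈ stS F v := hv [32, 33] (by decide)
    have g3 : wordE [16, 17] ∈ stS F v := hv [16, 17] (by decide)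
    have gy : ac (F y0) v = v := by
      have := hv [4, 36, 38, 22] (by decide)
      rwa [word_y0] at this
    have g4 : wordE [1] ∈ stS F v := by
      rw [w1]
      exact hcon v gy
    have g5 : wordE [2, 3] ∈ stS F v := by
      have : wordE [2, 3] = wordE [4, 5] * wordE [6, 7] * wordE [1] := by
        apply enc_inj
        rw [enc_mul, enc_mul, enc_word (by decide), enc_word (by decide), enc_word (by decide), enc_word (by decide), bC]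
      rw [this]
      exact (stS F v).mul_mem ((stS F v).mul_mem g0 g1) g4
    intro x hx
    have hx' : ∀ x ∈ tb6.Gw.take 5, x = [1] ∨ x = [2, 3] ∨ x = [4, 5] ∨ x = [32, 33] ∨ x = [16, 17] := by decide
    rcases hx' x hx with rfl | rfl | rfl | rfl | rfl
    exacts [g4, g5, g0, g2, g3]
  have h2 := Submodule.finrank_mono (R := ZMod 3) h1
  have h3 := d8_ge hD
  rw [hD.d6a] at h2
  omega

/-! ### the stabiliser of a vector -/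

theorem words6 : ∀ w ∈ tb6.Gw.take 6, mv (wordE w) e0 = e0 := by decide +kernel

theorem p1_le {V : ValuationSubring ℂ} [CharP (ResidueField V) 3] {F : Sp2 →* E} (hD : Dims (V := V) F) :
    finrank (ZMod 3) ↥(fixV (P1.map F)) ≤ 7 := by
  rw [← hD.d6b]
  refine Submodule.finrank_mono fun v hv w hw => ?_
  exact hv _ (Subgroup.mem_map_of_mem F (words6 w hw))

/-! ### the whole group -/

/-- the words -/
def G9 : List (List ℕ) := tb4.Gw ++ [[32, 34], [40, 45], [51]]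

/-- a path through the transvections -/
def path : List (ℕ × ℕ × ℕ) := (beta% delta% lq26e5b57e8d fun a b _ e _ _ h =>
 (let d:=(let d:=(let d:=(let d:=(h (e 46<|e 9 32)<|h (e 8<|e 6 34)<|h (e 59<|e 7 34)<|h (e 43<|e 2 37)<|b);
 (h (e 42<|e 1 30)<|h (e 45<|e 2 30)<|h (e 44<|e 8 30)<|h (e 61<|e 7 32)<|
 d));
 (let d:=(h (e 33<|e 4 27)<|h (e 38<|e 7 27)<|h (e 12<|e 8 27)<|h (e 39<|e 8 28)<|d);
 (h (e 37<|e 9 25)<|h (e 14<|e 6 26)<|h (e 62<|e 7 26)<|h (e 32<|e 2 27)<|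
 d)));
 (let d:=(let d:=(h (e 58<|e 7 22)<|h (e 35<|e 9 23)<|h (e 15<|e 6 24)<|h (e 63<|e 7 24)<|d);
 (h (e 11<|e 6 20)<|h (e 57<|e 7 20)<|h (e 40<|e 9 20)<|h (e 9<|e 6 22)<|
 d));
 (let d:=(h (e 13<|e 6 18)<|h (e 60<|e 7 18)<|h (e 47<|e 9 18)<|h (e 34<|e 9 19)<|d);
 (h (e 18<|e 7 15)<|h (e 29<|e 8 15)<|h (e 19<|e 7 16)<|h (e 25<|e 8 16)<|
 d))));
 (let d:=(let d:=(let d:=(h (e 36<|e 9 11)<|h (e 10<|e 6 12)<|h (e 56<|e 7 12)<|h (e 41<|e 9 12)<|d);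
 (h (e 16<|e 7 9)<|h (e 31<|e 8 9)<|h (e 22<|e 7 10)<|h (e 30<|e 8 10)<|
 d));
 (let d:=(h (e 17<|e 7 7)<|h (e 27<|e 8 7)<|h (e 21<|e 7 8)<|h (e 24<|e 8 8)<|d);
 (h (e 48<|e 9 5)<|h (e 49<|e 4 6)<|h (e 20<|e 7 6)<|
 h (e 28<|e 8 6)<|d)));
 (let d:=(let d:=(h (e 23<|e 7 3)<|h (e 26<|e 8 3)<|h (e 5<|e 7 4)<|h (e 2<|e 6 5)<|d);
 (h (e 51<|e 2 3)<|h (e 53<|e 3 3)<|
 h (e 50<|e 4 3)<|h (e 54<|e 6 3)<|d));
 (a (e 1<|e 0 0)<|a (e 4<|e 8 0)<|a (e 6<|e 7 1)<|a (e 55<|e 9 1)<|a (e 7<|e 6 2)<|a (e 3<|e 8 2)<|a (e 52<|e 1 3)<|d)))))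

/-- the check of the path -/
def chkPath : Bool :=
  let G := G9.map wordC
  G9.all okW && Nat.beq (path.getD 0 (0, 0, 0)).1 1 && (path.all fun p => Nat.blt p.1 64) &&
  ((List.range (path.length - 1)).all fun i =>
    let p := path.getD (i + 1) (0, 0, 0)
    Nat.blt p.2.1 G9.length && Nat.blt p.2.2 (i + 1) &&
      beqL (mulC (G.getD p.2.1 []) (tvc (path.getD p.2.2 (0, 0, 0)).1)) (mulC (tvc p.1) (G.getD p.2.1 []))) &&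
  (List.range 64).all fun k => Nat.beq k 0 || memN k (path.map Prod.fst)

theorem path_ok : chkPath = true := by decide +kernel

theorem of_memN {x : ℕ} : ∀ {l : List ℕ}, memN x l = true → x ∈ l
  | y :: ys, h => by
    rw [memN, Bool.or_eq_true] at h
    rcases h with h | h
    · rw [Nat.eq_of_beq_eq_true h]
      exact List.mem_cons_self
    · exact List.mem_cons_of_mem _ (of_memN h)

theorem top_of_G9 {H : Subgroup Sp2} (h : ∀ w ∈ G9, wordE w ∈ H) : H = ⊤ := by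
  have hp := path_ok
  unfold chkPath at hp
  simp only [Bool.and_eq_true, List.all_eq_true, List.mem_range, Nat.blt_eq] at hp
  obtain ⟨⟨⟨⟨hok, h0⟩, hlt⟩, hstep⟩, hall⟩ := hp
  have key : ∀ i < path.length, tvw (path.getD i (0, 0, 0)).1 ∈ H := by
    intro i
    induction i using Nat.strong_induction_on with
    | _ i ih =>
      intro hi
      cases i with
      | zero =>
        rw [Nat.eq_of_beq_eq_true h0]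
        have := h [1] (by decide)
        rwa [wordE, wordE, mul_one] at this
      | succ i =>
        obtain ⟨⟨h1, h2⟩, h3⟩ := hstep i (by omega)
        have h4 := ih _ h2 (by omega)
        have hm : G9.getD (path.getD (i + 1) (0, 0, 0)).2.1 [] ∈ G9 := by
          rw [List.getD_eq_getElem _ _ h1]
          exact List.getElem_mem h1
        have h5 := h _ hm
        have hlt' : ∀ j < path.length, (path.getD j (0, 0, 0)).1 < 64 := by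
          intro j hj
          refine hlt _ ?_
          rw [List.getD_eq_getElem _ _ hj]
          exact List.getElem_mem hj
        rw [map_getD h1] at h3
        have h6 : wordE (G9.getD (path.getD (i + 1) (0, 0, 0)).2.1 []) *
            tvw (path.getD (path.getD (i + 1) (0, 0, 0)).2.2 (0, 0, 0)).1 =
            tvw (path.getD (i + 1) (0, 0, 0)).1 * wordE (G9.getD (path.getD (i + 1) (0, 0, 0)).2.1 []) := by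
          apply enc_inj
          rw [enc_mul, enc_mul, enc_word (hok _ hm), enc_tvw _ (hlt' _ (by omega)), enc_tvw _ (hlt' _ hi)]
          exact beqL_eq h3
        have h7 : tvw (path.getD (i + 1) (0, 0, 0)).1 = wordE (G9.getD (path.getD (i + 1) (0, 0, 0)).2.1 []) *
            tvw (path.getD (path.getD (i + 1) (0, 0, 0)).2.2 (0, 0, 0)).1 *
            (wordE (G9.getD (path.getD (i + 1) (0, 0, 0)).2.1 []))⁻¹ := by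
          rw [h6, mul_inv_cancel_right]
        rw [h7]
        exact H.mul_mem (H.mul_mem h5 h4) (H.inv_mem h5)
  refine top_of_tvw fun k hk hk0 => ?_
  have h1 := hall k hk
  rw [Bool.or_eq_true] at h1
  rcases h1 with h1 | h1
  · exact absurd (Nat.eq_of_beq_eq_true h1) hk0
  · obtain ⟨p, hp, rfl⟩ := List.mem_map.1 (of_memN h1)
    obtain ⟨i, hi, rfl⟩ := List.mem_iff_getElem.1 hp
    have := key i hi
    rwa [List.getD_eq_getElem _ _ hi] at this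

theorem chk4b : chkC tb4 64 (wordC [51, 53, 43, 46]) (tb4.Gw.take 6) [4, 16, 8, 1, 32, 2] = true := by decide +kernel

theorem chk4c : chkC tb4 64 (wordC [51, 52, 60, 63]) (tb4.Gw.take 6) [8, 63, 2, 16, 1, 32] = true := by decide +kernel

theorem bcC : mulC (wordC [32, 34]) (wordC [51, 53, 43, 46]) = mulC (wordC [51, 53, 43, 46]) (wordC [16, 17]) ∧
    mulC (wordC [40, 45]) (wordC [51, 52, 60, 63]) = mulC (wordC [51, 52, 60, 63]) (wordC [16, 17]) := by decide +kernel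

/-- codes of products of words -/
def prodC (ws : List (List ℕ)) : List ℕ → List ℕ
  | [] => oneC
  | i :: is => mulC (wordC (ws.getD i [])) (prodC ws is)

theorem prod_mem {ws : List (List ℕ)} (hok : ∀ w ∈ ws, okW w = true) {H : Subgroup Sp2} (h : ∀ w ∈ ws, wordE w ∈ H) :
    ∀ is : List ℕ, (∀ i ∈ is, i < ws.length) → ∃ g ∈ H, enc g = prodC ws is
  | [], _ => ⟨1, H.one_mem, enc_one⟩
  | i :: is, hi => by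
    obtain ⟨g, hg, hg'⟩ := prod_mem hok h is fun j hj => hi j (List.mem_cons_of_mem _ hj)
    have h1 : ws.getD i [] ∈ ws := by
      rw [List.getD_eq_getElem _ _ (hi i List.mem_cons_self)]
      exact List.getElem_mem _
    refine ⟨wordE (ws.getD i []) * g, H.mul_mem (h _ h1) hg, ?_⟩
    rw [enc_mul, enc_word (hok _ h1), hg']
    rfl

theorem xC : prodC (G9.take 9) [2, 4, 5, 6, 7, 8, 6, 8, 7] = wordC [38, 39, 1, 6, 50, 53] ∧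
    prodC (G9.take 9) [5, 6, 5, 6] = wordC [6, 7] := by decide +kernel

theorem four_le {V : ValuationSubring ℂ} [CharP (ResidueField V) 3] {F : Sp2 →* E} (hD : Dims (V := V) F) :
    4 ≤ finrank (ZMod 3) ↥(fixV F.range) := by
  have hU : fixW F (tb4.Gw.take 7) ≤ fixW F (tb4.Gw.take 6) :=
    fixW_anti fun _ h => List.take_subset_take_left _ (by norm_num) h
  have hb : enc (wordE [51, 53, 43, 46]) = wordC [51, 53, 43, 46] := enc_word (by decide)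
  have hc : enc (wordE [51, 52, 60, 63]) = wordC [51, 52, 60, 63] := enc_word (by decide)
  have h2 : cj (F (wordE [51, 53, 43, 46])) (fixW F (tb4.Gw.take 7)) ≤ fixW F (tb4.Gw.take 6) :=
    cj_le tb4_ok (by norm_num) tb4_p64 hb chk4b
  have h3 : cj (F (wordE [51, 52, 60, 63])) (fixW F (tb4.Gw.take 7)) ≤ fixW F (tb4.Gw.take 6) :=
    cj_le tb4_ok (by norm_num) tb4_p64 hc chk4c
  have h4 := inf_ge hU h2
  have h5 := inf_ge (inf_le_left.trans hU : fixW F (tb4.Gw.take 7) ⊓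
    cj (F (wordE [51, 53, 43, 46])) (fixW F (tb4.Gw.take 7)) ≤ fixW F (tb4.Gw.take 6)) h3
  rw [finrank_cj, hD.d4a, hD.d4b] at h4
  rw [finrank_cj, hD.d4a, hD.d4b] at h5
  have h6 : (fixW F (tb4.Gw.take 7) ⊓ cj (F (wordE [51, 53, 43, 46])) (fixW F (tb4.Gw.take 7))) ⊓
      cj (F (wordE [51, 52, 60, 63])) (fixW F (tb4.Gw.take 7)) ≤ fixV F.range := by
    rintro v ⟨⟨hv, wb, hwb, hvb⟩, wc, hwc, hvc⟩
    have hvb' : ac (F (wordE [51, 53, 43, 46])) wb = v := hvb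
    have hvc' : ac (F (wordE [51, 52, 60, 63])) wc = v := hvc
    have ga : ∀ w ∈ tb4.Gw, wordE w ∈ stS F v := fun w hw => hv w hw
    have gb : wordE [32, 34] ∈ stS F v := by
      have e1 : wordE [32, 34] * wordE [51, 53, 43, 46] = wordE [51, 53, 43, 46] * wordE [16, 17] := by
        apply enc_inj
        rw [enc_mul, enc_mul, hb, enc_word (by decide), enc_word (by decide), bcC.1]
      have e2 : ac (F (wordE [16, 17])) wb = wb := hwb [16, 17] (by decide)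
      show ac (F (wordE [32, 34])) v = v
      rw [← hvb', ← ac_mul, ← map_mul, e1, map_mul, ac_mul, e2]
    have gc : wordE [40, 45] ∈ stS F v := by
      have e1 : wordE [40, 45] * wordE [51, 52, 60, 63] = wordE [51, 52, 60, 63] * wordE [16, 17] := by
        apply enc_inj
        rw [enc_mul, enc_mul, hc, enc_word (by decide), enc_word (by decide), bcC.2]
      have e2 : ac (F (wordE [16, 17])) wc = wc := hwc [16, 17] (by decide)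
      show ac (F (wordE [40, 45])) v = v
      rw [← hvc', ← ac_mul, ← map_mul, e1, map_mul, ac_mul, e2]
    have g8 : ∀ w ∈ G9.take 9, wordE w ∈ stS F v := by
      intro w hw
      have : ∀ w ∈ G9.take 9, w ∈ tb4.Gw ∨ w = [32, 34] ∨ w = [40, 45] := by decide
      rcases this w hw with h | rfl | rfl
      exacts [ga w h, gb, gc]
    have hok : ∀ w ∈ G9.take 9, okW w = true := by decide
    obtain ⟨x1, hx1, ex1⟩ := prod_mem hok g8 [2, 4, 5, 6, 7, 8, 6, 8, 7] (by decide)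
    obtain ⟨x2, hx2, ex2⟩ := prod_mem hok g8 [5, 6, 5, 6] (by decide)
    have e1 : x1 = wordE [38, 39, 1, 6, 50, 53] := enc_inj (by rw [ex1, xC.1, enc_word (by decide)])
    have e2 : x2 = wordE [6, 7] := enc_inj (by rw [ex2, xC.2, enc_word (by decide)])
    rw [e1] at hx1
    rw [e2] at hx2
    have h7 : v ∈ fixW F (tb5.Gw.take 2) := by
      intro w hw
      have : ∀ w ∈ tb5.Gw.take 2, w = [38, 39, 1, 6, 50, 53] ∨ w = [6, 7] := by decide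
      rcases this w hw with rfl | rfl
      exacts [hx1, hx2]
    have h8 : fixW F (tb5.Gw.take 3) = fixW F (tb5.Gw.take 2) :=
      Submodule.eq_of_le_of_finrank_eq (fixW_anti fun _ h => List.take_subset_take_left _ (by norm_num) h)
        (by rw [hD.d5a, hD.d5b])
    rw [← h8] at h7
    have g9 : wordE [51] ∈ stS F v := h7 [51] (by decide)
    have htop : stS F v = ⊤ := by
      refine top_of_G9 fun w hw => ?_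
      have : ∀ w ∈ G9, w ∈ G9.take 9 ∨ w = [51] := by decide
      rcases this w hw with h | rfl
      exacts [g8 w h, g9]
    rintro _ ⟨g, rfl⟩
    have : g ∈ stS F v := by rw [htop]; trivial
    exact this
  have h7 := Submodule.finrank_mono (R := ZMod 3) h6
  omega

/-- **The numbers.** -/
theorem numSp (h5 : Val5) : NumSp := by
  intro F hF
  obtain ⟨M, V, hM, hV, hch⟩ := exists_V
  have hD := dims hM hV hF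
  exact ⟨four_le hD, p1_le hD, partner h5 hF hD, order10 hD⟩

end Cfsg.Agent.H942.S62
end

private theorem dce_d4ae10766852 : _root_.True := by
  try have : _root_.True := by simp only [_root_.Cfsg.Agent.H942.S62.dot.eq_2]
  try have : _root_.True := by simp only [_root_.Cfsg.Agent.H942.S62.dot.eq_1]
  try have : _root_.True := by simp only [_root_.Cfsg.Agent.H942.S62.domZ.eq_1]
  try have : _root_.True := by simp only [_root_.Cfsg.Agent.H942.S62.okE.eq_1]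
  try have : _root_.True := by simp only [_root_.Cfsg.Agent.H942.S62.dot._sparseCasesOn_1.else_eq]
  try have : _root_.True := by simp only [_root_.Cfsg.Agent.H942.S62.dot.eq_def]
  try have : _root_.True := by simp only [_root_.Cfsg.Agent.H942.E8Val.L8.eq_1]
  try have : _root_.True := by simp only [_root_.Cfsg.Agent.H942.S62.target.eq_1]
  exact _root_.True.intro
end
end
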